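import Cfsg.Agent.H202.RC.Point_mg_m3
import Cfsg.Agent.S0254
import Cfsg.Agent.H810.RC.Core_mg_m3
import Cfsg.Agent.H993.RC.TwoDefs_m3
import Cfsg.Agent.H578.RC.One_m3
import Mathlib
import Cfsg.Agent.LieClassical.OrthTrans
import Cfsg.Agent.H587.KB8.Geo
import Cfsg.Agent.H93.RC.BoxB3_m3
import Cfsg.Agent.FastGrp
import Cfsg.Agent.Prune
set_option linter.all false

section
prune_inst 0x7fffeff9bbb839dfdfff7e7fa7d8cdfc39911fffa4dff94bffe06bff1bff03000dc563ad09e090fe4ed7421410a87843f97eeeffe26bdc7ffffd5ff41ffbee0ff5f7b50851dc88b40fbc0ff603f0778e7f3fffffffffffffffffffffffffffaeffbfffffffff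

-- part: H67/RC/RowOdd
section
prune_inst 0x2004040002000000000060001c42ea00002000080000000008000480ac000900002080a000020002000400300048100000000000000000000000011c00800000100000000000020088000000000000000000000000000000000000010000000000000
set_option linter.all false
open scoped Cfsg.Agent.FastGrp

-- part: H711/RC/ThreeA
section
/-!
# S3510, row D, `PSp_4(3)`: first part (helper711)

Abstract rules for a `G`-set covered by the fixed points of two elements, and the linear algebra of a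
symplectic space of dimension 4 over a field with 3 elements.
-/

set_option autoImplicit false
set_option linter.unusedSimpArgs false
open Cfsg

namespace Cfsg.Agent.H711.RC

open MulAction Module Cfsg.Agent.H106.RC Cfsg.Agent.H520.RC

universe u v

section act

variable {G Ω : Type*} [Group G] [MulAction G Ω]

/-- every point is fixed by one of two elements -/
def Cov2 (Ω : Type*) [MulAction G Ω] (s u : G) : Prop := ∀ ω : Ω, s • ω = ω ∨ u • ω = ω

theorem Cov2.symm {s u : G} (h : Cov2 Ω s u) : Cov2 Ω u s := fun ω => (h ω).symm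

/-- `u` may be replaced by `[c, u]` for `c` commuting with `s` -/
theorem Cov2.comm {s u c : G} (h : Cov2 Ω s u) (hc : c * s = s * c) : Cov2 Ω s (c * u * c⁻¹ * u⁻¹) := by
  intro ω
  rcases h ω with h1 | h1
  · exact Or.inl h1
  rcases h (c⁻¹ • ω) with h2 | h2
  · left
    have h3 : (c * s * c⁻¹) • ω = ω := by rw [mul_smul, mul_smul, h2, smul_inv_smul]
    rwa [hc, mul_inv_cancel_right] at h3
  · right
    have h3 : (c * u * c⁻¹) • ω = ω := by rw [mul_smul, mul_smul, h2, smul_inv_smul]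
    rw [mul_smul, inv_smul_eq_iff.2 h1.symm, h3]

/-- rule A: `s` inverts the elementary abelian group `⟨e, z⟩` and `u` acts as a transvection -/
theorem Cov2.ruleA {s u e z : G} (h : Cov2 Ω s u) (h1 : s * e * s⁻¹ = e⁻¹) (h2 : s * z * s⁻¹ = z⁻¹)
    (h3 : e * z = z * e) (h4 : u * e * u⁻¹ = e * z) (h5 : u * z * u⁻¹ = z) (h6 : e ^ 3 = 1) (h7 : z ^ 3 = 1) (ω : Ω) :
    z • ω = ω := by
  have key : ∀ e : G, s * e * s⁻¹ = e⁻¹ → e * z = z * e → u * e * u⁻¹ = e * z → e ^ 3 = 1 →
      e ∈ stabilizer G ω ∨ z ∈ stabilizer G ω := by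
    intro e h1 h3 h4 h6
    set H := stabilizer G ω with hH
    have hco : Commute e z := h3
    -- the three conjugates
    have hA : ∀ v : G, v * s * v⁻¹ ∈ H ∨ v * u * v⁻¹ ∈ H := by
      intro v
      rcases h (v⁻¹ • ω) with h8 | h8
      · left
        show (v * s * v⁻¹) • ω = ω
        rw [mul_smul, mul_smul, h8, smul_inv_smul]
      · right
        show (v * u * v⁻¹) • ω = ω
        rw [mul_smul, mul_smul, h8, smul_inv_smul]
    have e1 : s * e⁻¹ = e * s := by
      have : s * e⁻¹ * s⁻¹ = e := by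
        have h8 := congrArg (·⁻¹) h1
        simp only [mul_inv_rev, inv_inv] at h8
        rw [← mul_assoc] at h8
        exact h8
      exact mul_inv_eq_iff_eq_mul.1 this
    have e2 : u * e⁻¹ = z⁻¹ * e⁻¹ * u := by
      have h8 := congrArg (·⁻¹) h4
      simp only [mul_inv_rev, inv_inv] at h8
      rw [← mul_assoc] at h8
      rw [← h8]; group
    have e3 : u * z⁻¹ = z⁻¹ * u := by
      have h8 := congrArg (·⁻¹) h5
      simp only [mul_inv_rev, inv_inv] at h8
      rw [← mul_assoc] at h8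
      conv_rhs => rw [← h8]
      group
    -- conjugates by `e`
    have c1 : e * s * e⁻¹ = e ^ 2 * s := by
      rw [mul_assoc, e1, pow_two, mul_assoc]
    have c2 : e ^ 2 * s * (e ^ 2)⁻¹ = e * s := by
      have : (e ^ 2)⁻¹ = e⁻¹ * e⁻¹ := by group
      rw [this]
      have : e ^ 2 * s * (e⁻¹ * e⁻¹) = e ^ 2 * ((s * e⁻¹) * e⁻¹) := by group
      rw [this, e1]
      have : e ^ 2 * (e * s * e⁻¹) = e ^ 3 * (s * e⁻¹) := by group
      rw [this, e1, h6, one_mul]
    have d1 : e * u * e⁻¹ = z⁻¹ * u := by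
      rw [mul_assoc, e2]
      have : e * (z⁻¹ * e⁻¹ * u) = (e * z⁻¹) * e⁻¹ * u := by group
      rw [this, hco.inv_right.eq]
      group
    have d2 : e ^ 2 * u * (e ^ 2)⁻¹ = z⁻¹ * z⁻¹ * u := by
      have : e ^ 2 * u * (e ^ 2)⁻¹ = e * (e * u * e⁻¹) * e⁻¹ := by rw [pow_two]; group
      rw [this, d1]
      have : e * (z⁻¹ * u) * e⁻¹ = (e * z⁻¹) * (u * e⁻¹) := by group
      rw [this, hco.inv_right.eq]
      have : z⁻¹ * e * (u * e⁻¹) = z⁻¹ * (e * u * e⁻¹) := by group
      rw [this, d1]; group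
    have a0 := hA 1
    have a1 := hA e
    have a2 := hA (e ^ 2)
    rw [one_mul, inv_one, mul_one, one_mul, mul_one] at a0
    rw [c1, d1] at a1
    rw [c2, d2] at a2
    -- two of the same kind
    rcases a0 with b0 | b0
    · rcases a1 with b1 | b1
      · left
        have h8 : e ^ 2 ∈ H := by simpa using H.mul_mem b1 (H.inv_mem b0)
        have h9 : (e ^ 2) ^ 2 = e := by rw [← pow_mul]; calc e ^ (2 * 2) = e ^ 3 * e := by group
            _ = e := by rw [h6, one_mul]
        rw [← h9]; exact H.pow_mem h8 2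
      · rcases a2 with b2 | b2
        · left
          simpa using H.mul_mem b2 (H.inv_mem b0)
        · right
          have h8 : z⁻¹ ∈ H := by simpa only [_root_.inv_mem_iff, _root_.mul_inv_rev, _root_.inv_inv, _root_.mul_mul_inv_mul_cancel, _root_.inv_mul_cancel_right] using H.mul_mem b2 (H.inv_mem b1)
          simpa using H.inv_mem h8
    · rcases a1 with b1 | b1
      · rcases a2 with b2 | b2
        · left
          have h8 : e ^ 2 * e⁻¹ ∈ H := by simpa using H.mul_mem b1 (H.inv_mem b2)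
          have h9 : e ^ 2 * e⁻¹ = e := by group
          rwa [h9] at h8
        · right
          have h8 : z⁻¹ * z⁻¹ ∈ H := by simpa using H.mul_mem b2 (H.inv_mem b0)
          have h9 : z⁻¹ * z⁻¹ = z := by
            calc z⁻¹ * z⁻¹ = (z ^ 3)⁻¹ * z := by group
              _ = z := by rw [h7, inv_one, one_mul]
          rwa [h9] at h8
      · right
        have h8 : z⁻¹ ∈ H := by simpa using H.mul_mem b1 (H.inv_mem b0)
        simpa using H.inv_mem h8
  rcases key e h1 h3 h4 h6 with h8 | h8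
  · have k1 : s * (e * z) * s⁻¹ = (e * z)⁻¹ := by
      have : s * (e * z) * s⁻¹ = (s * e * s⁻¹) * (s * z * s⁻¹) := by group
      rw [this, h1, h2, h3, mul_inv_rev]
    have k2 : e * z * z = z * (e * z) := by
      rw [← mul_assoc, ← h3]
    have k3 : u * (e * z) * u⁻¹ = e * z * z := by
      have : u * (e * z) * u⁻¹ = (u * e * u⁻¹) * (u * z * u⁻¹) := by group
      rw [this, h4, h5]
    have k4 : (e * z) ^ 3 = 1 := by
      have h10 : Commute e z := h3
      rw [h10.mul_pow, h6, h7, one_mul]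
    rcases key (e * z) k1 k2 k3 k4 with h9 | h9
    · have : z ∈ stabilizer G ω := by
        have := (stabilizer G ω).mul_mem ((stabilizer G ω).inv_mem h8) h9
        rwa [inv_mul_cancel_left] at this
      exact this
    · exact h9
  · exact h8

/-- rule C: `z` a central involution of `⟨s, g⟩`, and `s`, `s z` -/
theorem Cov2.ruleC {s y g z : G} (h : Cov2 Ω s y) (hy : y = s * z) (h1 : s * z = z * s) (h2 : g * z = z * g)
    (h3 : z * z = 1) (h4 : s * (g * s * g⁻¹) * (s * (g * s * g⁻¹)) = z) (ω : Ω) : z • ω = ω := by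
  set! H := stabilizer G ω with hH
  -- `a ∈ {s, s z}` and `b ∈ {g s g⁻¹, g s g⁻¹ z}`
  have ha : ∃ a ∈ H, ∃ c, (c = 1 ∨ c = z) ∧ a = s * c := by
    rcases h ω with h5 | h5
    · exact ⟨s, h5, 1, Or.inl rfl, (mul_one s).symm⟩
    · exact ⟨y, h5, z, Or.inr rfl, hy⟩
  have hb : ∃ b ∈ H, ∃ c, (c = 1 ∨ c = z) ∧ b = g * s * g⁻¹ * c := by
    rcases h (g⁻¹ • ω) with h5 | h5
    · refine ⟨g * s * g⁻¹, ?_, 1, Or.inl rfl, (mul_one _).symm⟩
      show (g * s * g⁻¹) • ω = ω
      rw [mul_smul, mul_smul, h5, smul_inv_smul]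
    · refine ⟨g * y * g⁻¹, ?_, z, Or.inr rfl, ?_⟩
      · show (g * y * g⁻¹) • ω = ω
        rw [mul_smul, mul_smul, h5, smul_inv_smul]
      · have h6 : z * g⁻¹ = g⁻¹ * z := by
          have h7 : Commute g z := h2
          exact h7.inv_left.symm.eq
        rw [hy]
        calc g * (s * z) * g⁻¹ = g * s * (z * g⁻¹) := by group
          _ = g * s * g⁻¹ * z := by rw [h6]; group
  obtain ⟨a, ha, c, hc, rfl⟩ := ha
  obtain ⟨b, hb, d, hd, rfl⟩ := hb
  have hgs : Commute (g * s * g⁻¹) z := by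
    have c1 : Commute g z := h2
    have c2 : Commute s z := h1
    exact (c1.mul_left c2).mul_left c1.inv_left
  have hsz : Commute s z := h1
  have h5 := H.mul_mem (H.mul_mem ha hb) (H.mul_mem ha hb)
  have h6 : s * c * (g * s * g⁻¹ * d) * (s * c * (g * s * g⁻¹ * d)) = z := by
    have k1 : ∀ c, (c = 1 ∨ c = z) → Commute s c ∧ Commute (g * s * g⁻¹) c ∧ c * c = 1 := by
      rintro c (rfl | rfl)
      · exact ⟨Commute.one_right _, Commute.one_right _, one_mul 1⟩
      · exact ⟨hsz, hgs, h3⟩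
    obtain ⟨c1, c2, c3⟩ := k1 c hc
    obtain ⟨d1, d2, d3⟩ := k1 d hd
    have hcd : Commute c d := by
      rcases hc with rfl | rfl
      · exact Commute.one_left _
      · rcases hd with rfl | rfl
        · exact Commute.one_right _
        · exact Commute.refl _
    set b := g * s * g⁻¹ with hb
    have e1 : s * c * (b * d) = s * b * (c * d) := by
      calc s * c * (b * d) = s * (c * b) * d := by group
        _ = s * b * (c * d) := by rw [c2.symm.eq]; group
    have e2 : Commute (s * b) (c * d) := (c1.mul_left c2).mul_right (d1.mul_left d2)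
    rw [e1]
    calc s * b * (c * d) * (s * b * (c * d)) = (s * b) * ((c * d) * (s * b)) * (c * d) := by group
      _ = (s * b) * ((s * b) * (c * d)) * (c * d) := by rw [e2.symm.eq]
      _ = (s * b) * (s * b) * ((c * d) * (c * d)) := by group
      _ = (s * b) * (s * b) * ((c * c) * (d * d)) := by
          congr 1
          calc c * d * (c * d) = c * (d * c) * d := by group
            _ = c * (c * d) * d := by rw [hcd.eq]
            _ = _ := by group
      _ = z := by rw [c3, d3, one_mul, mul_one, h4]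
  rw [h6] at h5
  exact h5

end act

section field

variable {F : Type u} [Field F]

theorem f3_three (h : Nat.card F = 3) : (3 : F) = 0 := by
  have : Finite F := Nat.finite_of_card_ne_zero (by omega)
  have := Fintype.ofFinite F
  have h1 : ((Fintype.card F : ℕ) : F) = 0 := Nat.cast_card_eq_zero F
  rw [← Nat.card_eq_fintype_card, h] at h1
  exact_mod_cast h1

theorem f3_cases (h : Nat.card F = 3) (a : F) : a = 0 ∨ a = 1 ∨ a = -1 := by
  have : Finite F := Nat.finite_of_card_ne_zero (by omega)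
  have := Fintype.ofFinite F
  have h1 : a ^ Fintype.card F = a := FiniteField.pow_card a
  rw [← Nat.card_eq_fintype_card, h] at h1
  have h2 : a * ((a - 1) * (a + 1)) = 0 := by linear_combination h1
  rcases mul_eq_zero.1 h2 with h3 | h3
  · exact Or.inl h3
  · rcases mul_eq_zero.1 h3 with h4 | h4
    · exact Or.inr (Or.inl (sub_eq_zero.1 h4))
    · exact Or.inr (Or.inr (eq_neg_of_add_eq_zero_left h4))

theorem f3_sq (h : Nat.card F = 3) {a : F} (ha : a ≠ 0) : a * a = 1 := by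
  rcases f3_cases h a with rfl | rfl | rfl
  · exact absurd rfl ha
  · ring
  · ring

theorem f3_two (h : Nat.card F = 3) : (2 : F) ≠ 0 := by
  intro h2
  have h3 := f3_three h
  exact one_ne_zero (α := F) (by linear_combination h3 - h2)

theorem f3_sum (h : Nat.card F = 3) {a b : F} (hab : a ≠ 0 ∨ b ≠ 0) : (a * a + b * b) * (a * a + b * b) = 1 := by
  have h3 := f3_three h
  rcases f3_cases h a with rfl | rfl | rfl <;> rcases f3_cases h b with rfl | rfl | rfl
  · simp at hab
  all_goals first | ring1 | linear_combination h3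

theorem f3_aut (h : Nat.card F = 3) (σ : F ≃+* F) : σ = 1 := by
  apply RingEquiv.ext
  intro a
  show σ a = a
  rcases f3_cases h a with rfl | rfl | rfl <;> simp only [_root_.map_zero, _root_.map_one, _root_.RingEquiv.map_neg_one]

end field

section lin

variable {F : Type u} {V : Type v} [Field F] [AddCommGroup V] [Module F V] {B : LinearMap.BilinForm F V}

/-- symplectic basis of a space of dimension four -/
structure SB (B : LinearMap.BilinForm F V) (a b c d : V) : Prop where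
  ab : B a b = 1
  cd : B c d = 1
  ac : B a c = 0
  ad : B a d = 0
  bc : B b c = 0
  bd : B b d = 0

variable {a b c d : V}

theorem SB.exists_coord (h : NAlt B) (h4 : finrank F V = 4) (hb : SB B a b c d) (v : V) :
    ∃ x y z w : F, v = x • a + y • b + z • c + w • d := by
  have ba : B b a = -1 := by rw [h.swap, hb.ab]
  have dc : B d c = -1 := by rw [h.swap, hb.cd]
  have ca : B c a = 0 := h.swap0 hb.ac
  have da : B d a = 0 := h.swap0 hb.ad
  have cb : B c b = 0 := h.swap0 hb.bc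
  have db : B d b = 0 := h.swap0 hb.bd
  have hli : LinearIndependent F ![a, b, c, d] := by
    rw [Fintype.linearIndependent_iff]
    intro g hg
    simp only [Fin.sum_univ_four, Matrix.cons_val_zero, Matrix.cons_val_one, Matrix.cons_val] at hg
    have k0 := congrArg (fun v => B v b) hg
    have k1 := congrArg (fun v => B v a) hg
    have k2 := congrArg (fun v => B v d) hg
    have k3 := congrArg (fun v => B v c) hg
    simp only [map_add, map_smul, LinearMap.add_apply, LinearMap.smul_apply, smul_eq_mul, hb.ab, hb.cd, hb.ac, hb.ad,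
      hb.bc, hb.bd, ba, dc, ca, da, cb, db, h.alt, mul_zero, add_zero, zero_add, mul_one, map_zero,
      LinearMap.zero_apply, mul_neg, neg_eq_zero] at k0 k1 k2 k3
    intro i
    fin_cases i
    · exact k0
    · exact k1
    · exact k2
    · exact k3
  have hsp : Submodule.span F (Set.range ![a, b, c, d]) = ⊤ := by
    have : Nonempty (Fin 4) := ⟨0⟩
    exact hli.span_eq_top_of_card_eq_finrank (by rw [Fintype.card_fin, h4])
  have hv : v ∈ Submodule.span F (Set.range ![a, b, c, d]) := by rw [hsp]; trivial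
  obtain ⟨g, hg⟩ := (Submodule.mem_span_range_iff_exists_fun F).1 hv
  refine ⟨g 0, g 1, g 2, g 3, ?_⟩
  rw [← hg, Fin.sum_univ_four]
  rfl

/-- the isometries `v ↦ v + (p B(v,e) + q B(v,f)) e + (q B(v,e) + r B(v,f)) f`, `e ⟂ f` -/
def sg (h : NAlt B) (e f : V) (hef : B e f = 0) (p q r : F) : Sp B :=
  ⟨{ toFun := fun v => v + (p * B v e + q * B v f) • e + (q * B v e + r * B v f) • f
     invFun := fun v => v - (p * B v e + q * B v f) • e - (q * B v e + r * B v f) • f
     left_inv := fun v => by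
      have hfe := h.swap0 hef
      simp only [map_add, map_smul, LinearMap.add_apply, LinearMap.smul_apply, smul_eq_mul, h.alt, hef, hfe]
      module
     right_inv := fun v => by
      have hfe := h.swap0 hef
      simp only [map_sub, map_smul, LinearMap.sub_apply, LinearMap.smul_apply, smul_eq_mul, h.alt, hef, hfe]
      module
     map_add' := fun x y => by
      simp only [map_add, LinearMap.add_apply]
      module
     map_smul' := fun a x => by
      simp only [map_smul, LinearMap.smul_apply, smul_eq_mul, RingHom.id_apply]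
      module }, by
    intro x y
    have hfe := h.swap0 hef
    show B (x + (p * B x e + q * B x f) • e + (q * B x e + r * B x f) • f)
      (y + (p * B y e + q * B y f) • e + (q * B y e + r * B y f) • f) = B x y
    simp only [map_add, LinearMap.add_apply, map_smul, LinearMap.smul_apply, smul_eq_mul, h.alt, hef, hfe]
    rw [h.swap e y, h.swap f y]
    ring⟩

theorem sg_apply (h : NAlt B) {e f : V} (hef : B e f = 0) (p q r : F) (v : V) :
    (sg h e f hef p q r).1 v = v + (p * B v e + q * B v f) • e + (q * B v e + r * B v f) • f := rfl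

theorem sg_mul (h : NAlt B) {e f : V} (hef : B e f = 0) (p q r p' q' r' : F) :
    sg h e f hef p q r * sg h e f hef p' q' r' = sg h e f hef (p + p') (q + q') (r + r') := by
  apply Subtype.ext
  apply LinearEquiv.ext
  intro v
  show (sg h e f hef p q r).1 ((sg h e f hef p' q' r').1 v) = _
  have hfe := h.swap0 hef
  simp only [sg_apply, map_add, map_smul, h.alt, hef, hfe]
  module

theorem sg_zero (h : NAlt B) {e f : V} (hef : B e f = 0) : sg h e f hef 0 0 0 = 1 := by
  apply Subtype.ext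
  apply LinearEquiv.ext
  intro v
  show (sg h e f hef 0 0 0).1 v = v
  rw [sg_apply]
  module

theorem sg_inv (h : NAlt B) {e f : V} (hef : B e f = 0) (p q r : F) :
    (sg h e f hef p q r)⁻¹ = sg h e f hef (-p) (-q) (-r) := by
  rw [inv_eq_iff_mul_eq_one, sg_mul, add_neg_cancel, add_neg_cancel, add_neg_cancel, sg_zero]

theorem sg_congr (h : NAlt B) {e f e' f' : V} (hef : B e f = 0) (hef' : B e' f' = 0) {p q r p' q' r' : F}
    (H : ∀ v, (p * B v e + q * B v f) • e + (q * B v e + r * B v f) • f =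
      (p' * B v e' + q' * B v f') • e' + (q' * B v e' + r' * B v f') • f') :
    sg h e f hef p q r = sg h e' f' hef' p' q' r' := by
  apply Subtype.ext
  apply LinearEquiv.ext
  intro v
  rw [sg_apply, sg_apply, add_assoc, add_assoc, H]

/-- conjugation -/
theorem cj_sg (h : NAlt B) (M : SS B) (hM : M.IsLin) {e f : V} (hef : B e f = 0) (p q r : F) :
    SS.cj M (sg h e f hef p q r) =
      sg h (M e) (M f) (by rw [hM.form, hef, mul_zero]) (p * M.l⁻¹) (q * M.l⁻¹) (r * M.l⁻¹) := by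
  apply SS.cj_eq
  intro v
  rw [sg_apply, sg_apply, M.map_add, M.map_add, hM.map_smul, hM.map_smul, hM.form, hM.form]
  have hl := M.hl
  have key : ∀ x y : F, x * M.l⁻¹ * (M.l * y) = x * y := fun x y => by
    rw [mul_assoc, inv_mul_cancel_left₀ hl]
  simp only [key]

end lin

section env

variable {F : Type u} {V : Type v} [Field F] [AddCommGroup V] [Module F V] {B : LinearMap.BilinForm F V}
variable {G : Type*} [Group G] {Ω : Type*} [MulAction G Ω] {N : Subgroup G} {ρ : ↥(Sp B) →* G} {s y : G} {M L : SS B}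

theorem lf_eq [FiniteDimensional F V] (E : SpEnv Ω N ρ) (h : Lf ρ s M) (h' : Lf ρ y L) {a : F} (ha : a ≠ 0)
    (hML : ∀ v, M v = a • L v) : s = y := by
  have h1 : Lf ρ (s * y⁻¹) (M * L⁻¹) := h.mul h'.inv
  refine mul_inv_eq_one.1 ((E.eq_one_iff h1).2 ⟨a, ha, fun v => ?_⟩)
  obtain ⟨v, rfl⟩ := L.surjective v
  rw [SS.mul_apply, SS.inv_apply_self, hML]

attribute [-instance] instNoNatZeroDivisorsOfIsAddTorsionFree instIsCharPOfIsLeftCancelAddOfCharP in
/-- the last step: `s = 1 ⊗ i`, `y = j ⊗ 1` -/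
theorem dead_F (E : SpEnv Ω N ρ) [Nonempty Ω] (h3 : Nat.card F = 3) (h4 : finrank F V = 4) {X Y : SS B}
    (hX : Lf ρ s X) (hY : Lf ρ y Y) (hcov : Cov2 Ω s y) {a b c d : V} (hb : SB B a b c d)
    (hXa : X a = c) (hXb : X b = d) (hXc : X c = -a) (hXd : X d = -b)
    (hYa : Y a = b) (hYb : Y b = -a) (hYc : Y c = d) (hYd : Y d = -c) : False := by
  have : FiniteDimensional F V := FiniteDimensional.of_finrank_pos (by omega)
  have h33 := f3_three h3
  have hXl : X.IsLin := f3_aut h3 _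
  have hYl : Y.IsLin := f3_aut h3 _
  have h := E.form
  have ba : B b a = -1 := by rw [h.swap, hb.ab]
  have dc : B d c = -1 := by rw [h.swap, hb.cd]
  have ca : B c a = 0 := h.swap0 hb.ac
  have da : B d a = 0 := h.swap0 hb.ad
  have cb : B c b = 0 := h.swap0 hb.bc
  have db : B d b = 0 := h.swap0 hb.bd
  have hm1 : (-1 : F) ≠ 0 := neg_ne_zero.2 one_ne_zero
  have hs2 : s * s = 1 := by
    refine lf_eq E (hX.mul hX) Lf.one hm1 fun v => ?_
    obtain ⟨x, y, z, w, rfl⟩ := hb.exists_coord h h4 v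
    simp only [SS.mul_apply, SS.one_apply, SS.map_add, hXl.map_smul, hXa, hXb, hXc, hXd, SS.map_neg]
    module
  have hcm : ∀ v, X (Y v) = Y (X v) := by
    intro v
    obtain ⟨x, y, z, w, rfl⟩ := hb.exists_coord h h4 v
    simp only [SS.map_add, hXl.map_smul, hYl.map_smul, hXa, hXb, hXc, hXd, hYa, hYb, hYc, hYd, SS.map_neg]
  have hsy : s * y = y * s := lf_eq E (hX.mul hY) (hY.mul hX) one_ne_zero fun v => by
    rw [one_smul, SS.mul_apply, SS.mul_apply, hcm]
  have hy2 : y * y = 1 := by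
    refine lf_eq E (hY.mul hY) Lf.one hm1 fun v => ?_
    obtain ⟨x, y, z, w, rfl⟩ := hb.exists_coord h h4 v
    simp only [SS.mul_apply, SS.one_apply, SS.map_add, hYl.map_smul, hYa, hYb, hYc, hYd, SS.map_neg]
    module
  have hg : Lf ρ (ρ (tv h (a - d) 1)) (SS.tg (tv h (a - d) 1)) := Lf.tg _
  have hg' : Lf ρ (ρ (tv h (a - d) 1))⁻¹ (SS.tg (tv h (a - d) (-1))) := by
    rw [← map_inv, tv_inv]; exact Lf.tg _
  have hZ : ∀ ω : Ω, (s * y) • ω = ω := by
    refine hcov.ruleC (g := ρ (tv h (a - d) 1)) ?_ ?_ ?_ ?_ ?_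
    · rw [← mul_assoc, hs2, one_mul]
    · rw [hsy, ← mul_assoc, hsy, mul_assoc]
    · refine lf_eq E (hg.mul (hX.mul hY)) ((hX.mul hY).mul hg) one_ne_zero fun v => ?_
      obtain ⟨x, y, z, w, rfl⟩ := hb.exists_coord h h4 v
      simp only [SS.mul_apply, SS.map_add, SS.map_sub, hXl.map_smul, hYl.map_smul, hXa, hXb, hXc, hXd, hYa, hYb, hYc,
        hYd, SS.map_neg, SS.tg_apply, tv_apply, map_add, map_sub, map_smul, map_neg, LinearMap.add_apply,
        LinearMap.sub_apply, LinearMap.neg_apply, LinearMap.smul_apply, smul_eq_mul, ba, dc, ca, da, cb, db, h.alt,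
        hb.ab, hb.cd, hb.ac, hb.ad, hb.bc, hb.bd]
      module
    · rw [mul_assoc, ← mul_assoc y s y, ← hsy, mul_assoc, hy2, mul_one, hs2]
    · refine lf_eq E ((hX.mul ((hg.mul hX).mul hg')).mul (hX.mul ((hg.mul hX).mul hg'))) (hX.mul hY) one_ne_zero fun v => ?_
      obtain ⟨x, y, z, w, rfl⟩ := hb.exists_coord h h4 v
      simp only [SS.mul_apply, SS.map_add, SS.map_sub, hXl.map_smul, hYl.map_smul, hXa, hXb, hXc, hXd, hYa, hYb, hYc,
        hYd, SS.map_neg, SS.tg_apply, tv_apply, map_add, map_sub, map_smul, map_neg, LinearMap.add_apply,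
        LinearMap.sub_apply, LinearMap.neg_apply, LinearMap.smul_apply, smul_eq_mul, ba, dc, ca, da, cb, db, h.alt,
        hb.ab, hb.cd, hb.ac, hb.ad, hb.bc, hb.bd]
      match_scalars <;> (clear * - h33; grobner)
  have h5 := E.env.single hZ
  have h6 : Lf ρ (1 : G) (X * Y) := by
    have := hX.mul hY
    rwa [h5] at this
  obtain ⟨k, hk, h7⟩ := (E.eq_one_iff h6).1 rfl
  have h8 := h7 a
  rw [SS.mul_apply, hYa, hXb] at h8
  have h9 := congrArg (fun v => B c v) h8
  simp only [hb.cd, map_smul, ca, smul_zero] at h9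
  exact one_ne_zero h9

/-- the commutator `[c, t]` in `Sp B` -/
theorem comm_eq (c t : Sp B) : ρ c * ρ t * (ρ c)⁻¹ * (ρ t)⁻¹ = ρ (c * SS.cj (SS.tg t) c⁻¹) := by
  rw [SS.cj_tg, map_mul, map_mul, map_mul, map_inv, map_inv]
  group

/-- decomposition with respect to an involution -/
theorem split_of {X : SS B} (h33 : (3 : F) = 0) (v : V) : v = -(v + X v) - (v - X v) := by
  have h : (3 : F) • v = 0 := by rw [h33, zero_smul]
  linear_combination (norm := module) h

attribute [-instance] instNoNatZeroDivisorsOfIsAddTorsionFree instIsCharPOfIsLeftCancelAddOfCharP in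
/-- type 1: `X ^ 2 = 1`, `μ = -1`, `t` of order 3 -/
theorem dead_T1 (E : SpEnv Ω N ρ) [Nonempty Ω] (h3 : Nat.card F = 3) (h4 : finrank F V = 4) {X : SS B} {t : ↥(Sp B)}
    (hX : Lf ρ s X) (hcov : Cov2 Ω s (ρ t)) (hX2 : ∀ v, X (X v) = v) (hl : X.l = -1)
    (hcm : ∀ v, X (t.1 v) = t.1 (X v)) (ht3 : ∀ v, t.1 (t.1 (t.1 v)) = v) (ht1 : t ≠ 1) : False := by
  have : FiniteDimensional F V := FiniteDimensional.of_finrank_pos (by omega)
  have h33 := f3_three h3
  have hXl : X.IsLin := f3_aut h3 _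
  have h := E.form
  have h2 := f3_two h3
  -- an eigenvector of `X` moved by `t`
  obtain ⟨η, hη, w0, hw0, htw0⟩ : ∃ η : F, η * η = 1 ∧ ∃ w, X w = η • w ∧ t.1 w ≠ w := by
    obtain ⟨v, hv⟩ : ∃ v, t.1 v ≠ v := by
      by_contra hno
      push Not at hno
      exact ht1 (Subtype.ext (LinearEquiv.ext hno))
    by_cases h5 : t.1 (v + X v) = v + X v
    · refine ⟨-1, by ring, v - X v, ?_, fun h6 => hv ?_⟩
      · rw [SS.map_sub, hX2]; module
      · have h7 := split_of (X := X) h33 v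
        rw [h7, map_sub, map_neg, h5, h6]
    · refine ⟨1, by ring, v + X v, ?_, h5⟩
      rw [SS.map_add, hX2, one_smul, add_comm]
  obtain ⟨w2, hw2, hne, hfix⟩ : ∃ w2, X w2 = η • w2 ∧ t.1 w2 - w2 ≠ 0 ∧ t.1 (t.1 w2 - w2) = t.1 w2 - w2 := by
    by_cases h5 : t.1 (t.1 w0 - w0) = t.1 w0 - w0
    · exact ⟨w0, hw0, sub_ne_zero.2 htw0, h5⟩
    · refine ⟨t.1 w0 - w0, ?_, sub_ne_zero.2 h5, ?_⟩
      · rw [SS.map_sub, hcm, hw0, map_smul]; module
      · have h6 := ht3 w0
        simp only [map_sub, h6]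
        have h7 : (3 : F) • t.1 w0 = 0 := by rw [h33, zero_smul]
        have h8 : (3 : F) • t.1 (t.1 w0) = 0 := by rw [h33, zero_smul]
        linear_combination (norm := module) h7 - h8
  set w1 := t.1 w2 - w2 with hw1
  have hXw1 : X w1 = η • w1 := by
    rw [hw1, SS.map_sub, hcm, hw2, map_smul]; module
  have htw2 : t.1 w2 = w2 + w1 := by rw [hw1]; abel
  clear_value w1
  have h12 : B w1 w2 = 0 := by
    have h5 := hXl.form w1 w2
    rw [hXw1, hw2, hl, map_smul, LinearMap.map_smul₂, smul_eq_mul, smul_eq_mul] at h5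
    have h6 : 2 * B w1 w2 = 0 := by linear_combination h5 - B w1 w2 * hη
    exact (mul_eq_zero.1 h6).resolve_left h2
  have hli : (X.l)⁻¹ = -1 := by rw [hl]; norm_num
  have hcjX : ∀ p q r : F, SS.cj X (sg h w1 w2 h12 p q r) = sg h w1 w2 h12 (-p) (-q) (-r) := by
    intro p q r
    rw [cj_sg h X hXl]
    apply sg_congr
    intro v
    rw [hXw1, hw2, hli]
    simp only [map_smul, smul_eq_mul]
    match_scalars
    · linear_combination (- p * B v w1 - q * B v w2) * hη
    · linear_combination (- q * B v w1 - r * B v w2) * hη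
  have hcjt : ∀ p q r : F, SS.cj (SS.tg t) (sg h w1 w2 h12 p q r) = sg h w1 w2 h12 (p + 2 * q + r) (q + r) r := by
    intro p q r
    rw [cj_sg h (SS.tg t) (SS.tg_lin t)]
    apply sg_congr
    intro v
    have h5 : (SS.tg t).l = 1 := rfl
    rw [SS.tg_apply, SS.tg_apply, hfix, htw2, h5, inv_one]
    simp only [map_add, mul_one]
    module
  have hz : ∀ ω : Ω, ρ (sg h w1 w2 h12 2 0 0) • ω = ω := by
    refine hcov.ruleA (e := ρ (sg h w1 w2 h12 0 1 0)) ?_ ?_ ?_ ?_ ?_ ?_ ?_
    · rw [hX, hcjX, ← map_inv, sg_inv]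
    · rw [hX, hcjX, ← map_inv, sg_inv]
    · rw [← map_mul, ← map_mul, sg_mul, sg_mul]
      (with_reducible congr 2) <;> ring
    · rw [Lf.tg t, hcjt, ← map_mul, sg_mul]
      (with_reducible congr 2) <;> ring
    · rw [Lf.tg t, hcjt]
      (with_reducible congr 2) <;> ring
    · rw [← map_pow, pow_succ, pow_two, sg_mul, sg_mul]
      have : sg h w1 w2 h12 (0 + 0 + 0) (1 + 1 + 1) (0 + 0 + 0) = 1 := by
        rw [← sg_zero h h12]; (with_reducible congr 1) <;> (clear * - h33; grobner)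
      rw [this, map_one]
    · rw [← map_pow, pow_succ, pow_two, sg_mul, sg_mul]
      have : sg h w1 w2 h12 (2 + 2 + 2) (0 + 0 + 0) (0 + 0 + 0) = 1 := by
        rw [← sg_zero h h12]; (with_reducible congr 1) <;> (clear * - h33; grobner)
      rw [this, map_one]
  have h5 := E.env.single hz
  obtain ⟨k, hk⟩ := (E.ker _).1 h5
  have h6 := hk w1
  rw [sg_apply, h.alt] at h6
  have hk1 : k = 1 := by
    have h7 : (k - 1) • w1 = 0 := by
      rw [sub_smul, ← h6, one_smul]; module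
    rcases smul_eq_zero.1 h7 with h8 | h8
    · exact sub_eq_zero.1 h8
    · exact absurd h8 hne
  obtain ⟨v, hv⟩ := h.exists_ne hne
  have h7 := hk v
  rw [sg_apply, hk1, one_smul] at h7
  have h8 : (2 * B v w1) • w1 = 0 := by
    have : v + (2 * B v w1 + 0 * B v w2) • w1 + (0 * B v w1 + 0 * B v w2) • w2 - v = (2 * B v w1) • w1 := by module
    rw [← this, h7, sub_self]
  rcases smul_eq_zero.1 h8 with h9 | h9
  · rcases mul_eq_zero.1 h9 with h10 | h10
    · exact h2 h10
    · exact hv (h.swap0 h10)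
  · exact hne h9

end env

end Cfsg.Agent.H711.RC
end

-- part: H711/RC/ThreeB
section
/-!
# S3510, row D, `PSp_4(3)`: second part (helper711)

Types 2, 3, 4 of the involution `s` in a two-element cover `{s, ρ t}`.
-/

set_option autoImplicit false
set_option linter.unusedSimpArgs false
open Cfsg

namespace Cfsg.Agent.H711.RC

open MulAction Module Cfsg.Agent.H106.RC Cfsg.Agent.H520.RC

universe u v

section env

variable {F : Type u} {V : Type v} [Field F] [AddCommGroup V] [Module F V] {B : LinearMap.BilinForm F V}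
variable {G : Type*} [Group G] {Ω : Type*} [MulAction G Ω] {N : Subgroup G} {ρ : ↥(Sp B) →* G} {s : G}

attribute [-instance] instNoNatZeroDivisorsOfIsAddTorsionFree instIsCharPOfIsLeftCancelAddOfCharP in
/-- type 2: `X ^ 2 = 1`, `μ = 1`, `t` of odd order -/
theorem dead_T2 (E : SpEnv Ω N ρ) [Nonempty Ω] (h3 : Nat.card F = 3) (h4 : finrank F V = 4) {X : SS B} {t : ↥(Sp B)}
    (hX : Lf ρ s X) (hs : s ≠ 1) (hcov : Cov2 Ω s (ρ t)) (hX2 : ∀ v, X (X v) = v) (hl : X.l = 1)
    (hcm : ∀ v, X (t.1 v) = t.1 (X v)) (hodd : ∀ v, t.1 (t.1 v) = v → t.1 v = v) (ht1 : t ≠ 1) : False := by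
  have : FiniteDimensional F V := FiniteDimensional.of_finrank_pos (by omega)
  have h33 := f3_three h3
  have hXl : X.IsLin := f3_aut h3 _
  have h := E.form
  have h2 := f3_two h3
  -- an eigenvector of `X` moved by `t`
  obtain ⟨η, hη, w0, hw0, htw0⟩ : ∃ η : F, η * η = 1 ∧ ∃ w, X w = η • w ∧ t.1 w ≠ w := by
    obtain ⟨v, hv⟩ : ∃ v, t.1 v ≠ v := by
      by_contra hno
      push Not at hno
      exact ht1 (Subtype.ext (LinearEquiv.ext hno))
    by_cases h5 : t.1 (v + X v) = v + X v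
    · refine ⟨-1, by ring, v - X v, ?_, fun h6 => hv ?_⟩
      · rw [SS.map_sub, hX2]; module
      · have h7 := split_of (X := X) h33 v
        rw [h7, map_sub, map_neg, h5, h6]
    · refine ⟨1, by ring, v + X v, ?_, h5⟩
      rw [SS.map_add, hX2, one_smul, add_comm]
  -- the eigenspaces are orthogonal
  have hperp : ∀ u v, X u = η • u → X v = -(η • v) → B u v = 0 := by
    intro u v hu hv
    have h5 := hXl.form u v
    rw [hu, hv, hl, one_mul, map_neg, map_smul, LinearMap.map_smul₂, smul_eq_mul, smul_eq_mul] at h5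
    have h6 : 2 * B u v = 0 := by linear_combination -h5 - B u v * hη
    exact (mul_eq_zero.1 h6).resolve_left h2
  have hpl : ∀ v, X (v + η • X v) = η • (v + η • X v) := by
    intro v
    rw [SS.map_add, hXl.map_smul, hX2, smul_add, smul_smul, hη, one_smul, add_comm]
  have hmi : ∀ v, X (v - η • X v) = -(η • (v - η • X v)) := by
    intro v
    rw [SS.map_sub, hXl.map_smul, hX2, smul_sub, smul_smul, hη, one_smul]
    abel
  have hsplit : ∀ v, v = -(v + η • X v) - (v - η • X v) := by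
    intro v
    have h5 : (3 : F) • v = 0 := by rw [h33, zero_smul]
    linear_combination (norm := module) h5
  -- a vector `e` with `B e (t e) ≠ 0`
  obtain ⟨e, he, hd⟩ : ∃ e, X e = η • e ∧ B e (t.1 e) ≠ 0 := by
    by_contra hno
    push Not at hno
    apply htw0
    apply hodd
    have hX' : X (t.1 w0) = η • t.1 w0 := by rw [hcm, hw0, map_smul]
    have hX'' : X (t.1 (t.1 w0)) = η • t.1 (t.1 w0) := by rw [hcm, hX', map_smul]
    have hw : ∀ u, B u (t.1 (t.1 w0) - w0) = 0 := by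
      have k1 : ∀ u, X u = η • u → B u (t.1 (t.1 w0) - w0) = 0 := by
        intro u hu
        have k2 := hno (u + t.1 w0) (by rw [SS.map_add, hu, hX', smul_add])
        have k3 := hno u hu
        have k4 := hno _ hX'
        have k5 : B (t.1 u) (t.1 w0) = B u w0 := t.2 u w0
        simp only [map_add, LinearMap.add_apply, k3, k4, zero_add, add_zero] at k2
        rw [map_sub, ← k5]
        have k6 := h.swap (t.1 w0) (t.1 u)
        linear_combination k2 - k6
      intro u
      rw [hsplit u, LinearMap.map_sub₂, LinearMap.map_neg₂, k1 _ (hpl u)]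
      have k7 := hperp (t.1 (t.1 w0) - w0) (u - η • X u) (by rw [SS.map_sub, hX'', hw0, smul_sub]) (hmi u)
      rw [h.swap0 k7, neg_zero, sub_zero]
    exact sub_eq_zero.1 (h.nd' _ hw)
  set! D := B e (t.1 e) with hD; rewrite [← hD] at hd
  have hDD : D * D = 1 := f3_sq h3 hd
  -- the other plane
  obtain ⟨c, hc, hc0⟩ : ∃ c, X c = -(η • c) ∧ c ≠ 0 := by
    by_contra hno
    push Not at hno
    apply hs
    refine (E.eq_one_iff hX).2 ⟨η, fun h0 => ?_, fun v => ?_⟩
    · rw [h0, zero_mul] at hη; exact zero_ne_one hη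
    · have h5 := hno _ (hmi v)
      have h6 : X v = η • (η • X v) := by rw [smul_smul, hη, one_smul]
      rw [h6, ← sub_eq_zero.1 h5]
  obtain ⟨d, hdX, hcd⟩ : ∃ d, X d = -(η • d) ∧ B c d = 1 := by
    obtain ⟨d0, hd0⟩ := h.exists_one hc0
    refine ⟨-(d0 - η • X d0), ?_, ?_⟩
    · rw [SS.map_neg, hmi]; module
    · have h5 := congrArg (B c) (hsplit d0)
      rw [map_sub, map_neg, h.swap0 (hperp _ _ (hpl d0) hc), neg_zero, zero_sub, hd0] at h5
      rw [map_neg]; exact h5.symm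
  have hte : t.1 e = D • (D • t.1 e) := by rw [smul_smul, hDD, one_smul]
  have htX : X (t.1 e) = η • t.1 e := by rw [hcm, he, map_smul]
  set! b := D • t.1 e with hb; rewrite [← hb] at hte
  have hbX : X b = η • b := by rw [hb, hXl.map_smul, htX, smul_comm]
  have hSB : SB B e b c d :=
    ⟨by rw [hb, map_smul, smul_eq_mul, ← hD, hDD], hcd, hperp _ _ he hc, hperp _ _ he hdX, hperp _ _ hbX hc,
      hperp _ _ hbX hdX⟩
  have ba : B b e = -1 := by rw [h.swap, hSB.ab]
  have dc : B d c = -1 := by rw [h.swap, hSB.cd]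
  have ca : B c e = 0 := h.swap0 hSB.ac
  have da : B d e = 0 := h.swap0 hSB.ad
  have cb : B c b = 0 := h.swap0 hSB.bc
  have db : B d b = 0 := h.swap0 hSB.bd
  -- the commutator
  have hc1 : ρ (tv h e 1) * s = s * ρ (tv h e 1) := by
    have h5 := hX (tv h e 1)
    have h6 : SS.cj X (tv h e 1) = tv h e 1 := by
      rw [cj_tv, he, tv_smul, hl, map_one, inv_one, mul_one, one_mul, hη]
    rw [h6] at h5
    exact (mul_inv_eq_iff_eq_mul.1 h5).symm
  have hcov2 := hcov.comm hc1
  rw [comm_eq, tv_inv, cj_tv] at hcov2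
  have hl1 : (SS.tg t).l = 1 := rfl
  have hσ1 : (SS.tg t).σ = 1 := rfl
  rw [hl1, hσ1, inv_one, mul_one, SS.tg_apply] at hcov2
  set! y : ↥(Sp B) := tv h e 1 * tv h (t.1 e) ((1 : F ≃+* F) (-1)) with hy; rewrite [← hy] at hcov2
  have hyv : ∀ v, y.1 v = (tv h e 1).1 ((tv h (D • b) (-1)).1 v) := by
    intro v
    rw [hy, hte]; rfl
  have hyy : ρ y * ρ y = s := by
    have hη0 : -η ≠ 0 := by
      intro h0
      have : η = 0 := neg_eq_zero.1 h0
      rw [this, zero_mul] at hη
      exact zero_ne_one hη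
    refine lf_eq E ((Lf.tg y).mul (Lf.tg y)) hX hη0 fun v => ?_
    obtain ⟨x, y, z, w, rfl⟩ := hSB.exists_coord h h4 v
    simp only [SS.mul_apply, SS.tg_apply, hyv, tv_apply, map_add, map_smul, LinearMap.add_apply,
      LinearMap.smul_apply, smul_eq_mul, ba, dc, ca, da, cb, db, h.alt, hSB.ab, hSB.cd, hSB.ac, hSB.ad, hSB.bc, hSB.bd,
      SS.map_add, hXl.map_smul, he, hbX, hc, hdX]
    clear_value b D
    match_scalars <;> (clear * - h33 hη hDD; grobner)
  apply hs
  apply E.env.single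
  intro ω
  rcases hcov2 ω with h5 | h5
  · exact h5
  · rw [← hyy, mul_smul, h5, h5]

set_option maxHeartbeats 1000000 in
attribute [-instance] instNoNatZeroDivisorsOfIsAddTorsionFree instIsCharPOfIsLeftCancelAddOfCharP in
/-- type 3: `X ^ 2 = -1`, `μ = 1`, `t` of order 3 -/
theorem dead_T3 (E : SpEnv Ω N ρ) [Nonempty Ω] (h3 : Nat.card F = 3) (h4 : finrank F V = 4) {X : SS B} {t : ↥(Sp B)}
    (hX : Lf ρ s X) (hcov : Cov2 Ω s (ρ t)) (hX2 : ∀ v, X (X v) = -v) (hl : X.l = 1)
    (hcm : ∀ v, X (t.1 v) = t.1 (X v)) (ht3 : ∀ v, t.1 (t.1 (t.1 v)) = v) (ht1 : t ≠ 1) : False := by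
  have : FiniteDimensional F V := FiniteDimensional.of_finrank_pos (by omega)
  have h33 := f3_three h3
  have hXl : X.IsLin := f3_aut h3 _
  have h := E.form
  have h2 := f3_two h3
  -- adjoint
  have hadj : ∀ u v, B (X u) v = -B u (X v) := by
    intro u v
    have h5 := hXl.form u (X v)
    rw [hX2, hl, one_mul, map_neg] at h5
    rw [← h5, neg_neg]
  have hiso : ∀ u v, B (X u) (X v) = B u v := by
    intro u v
    rw [hXl.form, hl, one_mul]
  -- a fixed vector of the form `t v - v`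
  obtain ⟨v1, hne, hfix⟩ : ∃ v1, t.1 v1 - v1 ≠ 0 ∧ t.1 (t.1 v1 - v1) = t.1 v1 - v1 := by
    obtain ⟨w0, hw0⟩ : ∃ v, t.1 v ≠ v := by
      by_contra hno
      push Not at hno
      exact ht1 (Subtype.ext (LinearEquiv.ext hno))
    by_cases h5 : t.1 (t.1 w0 - w0) = t.1 w0 - w0
    · exact ⟨w0, sub_ne_zero.2 hw0, h5⟩
    · refine ⟨t.1 w0 - w0, sub_ne_zero.2 h5, ?_⟩
      have h6 := ht3 w0
      simp only [map_sub, h6]
      have h7 : (3 : F) • t.1 w0 = 0 := by rw [h33, zero_smul]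
      have h8 : (3 : F) • t.1 (t.1 w0) = 0 := by rw [h33, zero_smul]
      linear_combination (norm := module) h7 - h8
  have him : ∀ u w, t.1 w = w → B (t.1 u - u) w = 0 := by
    intro u w hw
    have h5 : B (t.1 u) (t.1 w) = B u w := t.2 u w
    rw [LinearMap.map_sub₂, ← h5, hw, sub_self]
  obtain ⟨e, he0, hte, heX⟩ : ∃ e, e ≠ 0 ∧ t.1 e = e ∧ B e (X e) = 0 :=
    ⟨t.1 v1 - v1, hne, hfix, him v1 _ (by rw [← hcm, hfix])⟩
  have htXe : t.1 (X e) = X e := by rw [← hcm, hte]
  -- the partner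
  obtain ⟨f, hef, hXef, hfX⟩ : ∃ f, B e f = 1 ∧ B (X e) f = 0 ∧ B f (X f) = 0 := by
    obtain ⟨f0, hf0⟩ := h.exists_one he0
    set! β := B (X e) f0 with hβ
    set! κ := 1 * 1 + β * β with hκ
    have hκκ : κ * κ = 1 := f3_sum h3 (Or.inl one_ne_zero)
    have e1 : B e (X f0) = -β := by rw [hβ, hadj, neg_neg]
    have e2 : B (X e) (X f0) = 1 := by rw [hiso, hf0]
    obtain ⟨f2, hf2, hXf2⟩ : ∃ f, B e f = 1 ∧ B (X e) f = 0 := by
      refine ⟨κ • (f0 - β • X f0), ?_, ?_⟩
      · rw [map_smul, map_sub, map_smul, hf0, e1, smul_eq_mul, smul_eq_mul]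
        linear_combination hκκ
      · rw [map_smul, map_sub, map_smul, e2, ← hβ, smul_eq_mul, smul_eq_mul]
        ring
    set! γ := B f2 (X f2) with hγ
    have e3 : B f2 e = -1 := by rw [h.swap, hf2]
    have e4 : B (X e) (X f2) = 1 := by rw [hiso, hf2]
    refine ⟨f2 + γ • X e, ?_, ?_, ?_⟩
    · rw [map_add, map_smul, hf2, heX, smul_zero, add_zero]
    · rw [map_add, map_smul, hXf2, h.alt, smul_zero, add_zero]
    · rw [SS.map_add, hXl.map_smul, hX2]
      simp only [map_add, map_smul, map_neg, LinearMap.add_apply, LinearMap.smul_apply, smul_eq_mul, e3, e4,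
        h.swap0 heX, ← hγ]
      linear_combination γ * h33
  have hfe : B f e = -1 := by rw [h.swap, hef]
  have hSB : SB B e f (X e) (X f) :=
    ⟨hef, by rw [hiso, hef], heX, by rw [← neg_neg (B e (X f)), ← hadj, hXef, neg_zero], h.swap0 hXef, hfX⟩
  obtain ⟨x, hx0, htf⟩ : ∃ x : F, x ≠ 0 ∧ t.1 f = f + x • e := by
    obtain ⟨x, y, z, w, hxy⟩ := hSB.exists_coord h h4 (t.1 f - f)
    have k1 := him f e hte
    have k2 := him f (X e) htXe
    have ca : B (X e) e = 0 := h.swap0 heX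
    have da : B (X f) e = 0 := h.swap0 hSB.ad
    have dc : B (X f) (X e) = -1 := by rw [h.swap, hSB.cd]
    rw [hxy] at k1 k2
    simp only [map_add, map_smul, LinearMap.add_apply, LinearMap.smul_apply, smul_eq_mul, h.alt, hfe, ca, da, dc,
      hSB.ac, hSB.bc] at k1 k2
    have hy : y = 0 := by linear_combination -k1
    have hw : w = 0 := by linear_combination -k2
    rw [hy, hw, zero_smul, zero_smul, add_zero, add_zero] at hxy
    have htf : t.1 f = f + (x • e + z • X e) := by rw [← hxy]; abel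
    have htXf : t.1 (X f) = X f + (x • X e - z • e) := by
      rw [← hcm, htf, SS.map_add, SS.map_add, hXl.map_smul, hXl.map_smul, hX2, smul_neg]; abel
    have k3 : B (t.1 f) (t.1 (X f)) = B f (X f) := t.2 f (X f)
    rw [htf, htXf, hfX] at k3
    have cc : B f (X e) = 0 := hSB.bc
    simp only [map_add, map_sub, map_smul, LinearMap.add_apply, LinearMap.smul_apply, smul_eq_mul, h.alt, hfe, ca, cc,
      hSB.cd, hSB.ad, heX, hfX] at k3
    have hz : z = 0 := by
      have : 2 * z = 0 := by linear_combination k3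
      exact (mul_eq_zero.1 this).resolve_left h2
    rw [hz, zero_smul, add_zero] at htf
    refine ⟨x, ?_, htf⟩
    rintro rfl
    rw [zero_smul, add_zero] at htf
    apply ht1
    apply Subtype.ext
    apply LinearEquiv.ext
    intro v
    obtain ⟨x, y, z, w, rfl⟩ := hSB.exists_coord h h4 v
    have htXf' : t.1 (X f) = X f := by rw [← hcm, htf]
    show t.1 _ = _
    rw [map_add, map_add, map_add, map_smul, map_smul, map_smul, map_smul, hte, htf, htXe, htXf']
    rfl
  have hxx : x * x = 1 := f3_sq h3 hx0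
  have htXf : t.1 (X f) = X f + x • X e := by rw [← hcm, htf, SS.map_add, hXl.map_smul]
  -- the commutator with `c`
  have hc1 : ρ (sg h f (X f) hfX x 0 x) * s = s * ρ (sg h f (X f) hfX x 0 x) := by
    have h5 := hX (sg h f (X f) hfX x 0 x)
    have h6 : SS.cj X (sg h f (X f) hfX x 0 x) = sg h f (X f) hfX x 0 x := by
      rw [cj_sg h X hXl]
      apply sg_congr
      intro v
      rw [hX2, hl, inv_one]
      simp only [map_neg, mul_one]
      module
    rw [h6] at h5
    exact (mul_inv_eq_iff_eq_mul.1 h5).symm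
  have hcov2 := hcov.comm hc1
  rw [comm_eq, sg_inv, cj_sg h (SS.tg t) (SS.tg_lin t)] at hcov2
  set y : ↥(Sp B) := _ with hy
  change Cov2 Ω s (ρ y) at hcov2
  have hl1 : (SS.tg t).l⁻¹ = 1 := inv_one
  have hyv : ∀ v, y.1 v = (sg h f (X f) hfX x 0 x).1 (v + (-x * B v (t.1 f) + -0 * B v (t.1 (X f))) • t.1 f +
      (-0 * B v (t.1 f) + -x * B v (t.1 (X f))) • t.1 (X f)) := by
    intro v
    rw [hy]
    simp only [hl1, mul_one]
    rfl
  have ba := hfe
  have ca : B (X e) e = 0 := h.swap0 heX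
  have da : B (X f) e = 0 := h.swap0 hSB.ad
  have cb : B (X e) f = 0 := hXef
  have db : B (X f) f = 0 := h.swap0 hfX
  have dc : B (X f) (X e) = -1 := by rw [h.swap, hSB.cd]
  have hb : ∀ v, (SS.sc B (-x) (neg_ne_zero.2 hx0) * SS.tg y) v = (-x) • y.1 v := fun v => rfl
  refine dead_F E h3 h4 hX ((Lf.tg y).of_scal (L := SS.sc B (-x) (neg_ne_zero.2 hx0))
    ⟨-x, neg_ne_zero.2 hx0, fun v => rfl⟩) hcov2 hSB rfl rfl (hX2 e) (hX2 f) ?_ ?_ ?_ ?_
  all_goals
    rw [hb, hyv, htf, htXf, sg_apply]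
    simp only [map_add, map_smul, LinearMap.add_apply, LinearMap.smul_apply, smul_eq_mul, h.alt, ba, ca, da, cb, db, dc,
      hSB.ab, hSB.ac, hSB.ad, hSB.bc, hSB.bd, hSB.cd]
    match_scalars <;> (clear * - h33 hxx; grobner)

set_option maxHeartbeats 1000000 in
attribute [-instance] instNoNatZeroDivisorsOfIsAddTorsionFree instIsCharPOfIsLeftCancelAddOfCharP in
/-- second half of type 4: `s` and `ρ y` with `Y ^ 2 = -1`, commuting -/
theorem dead_T4b (E : SpEnv Ω N ρ) [Nonempty Ω] (h3 : Nat.card F = 3) (h4 : finrank F V = 4) {X : SS B} {y : ↥(Sp B)}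
    (hX : Lf ρ s X) (hcov : Cov2 Ω s (ρ y)) (hX2 : ∀ v, X (X v) = -v) (hl : X.l = -1)
    (hcm : ∀ v, X (y.1 v) = y.1 (X v)) (hy2 : ∀ v, y.1 (y.1 v) = -v) : False := by
  have : FiniteDimensional F V := FiniteDimensional.of_finrank_pos (by omega)
  have h33 := f3_three h3
  have hXl : X.IsLin := f3_aut h3 _
  have h := E.form
  have h2 := f3_two h3
  have hyi : ∀ u v, B (y.1 u) (y.1 v) = B u v := fun u v => y.2 u v
  have hyadj : ∀ u v, B (y.1 u) v = -B u (y.1 v) := by
    intro u v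
    have h5 := hyi u (y.1 v)
    rw [hy2, map_neg] at h5
    rw [← h5, neg_neg]
  -- `Z = X y`
  have hZ2 : ∀ v, X (y.1 (X (y.1 v))) = v := by
    intro v
    rw [← hcm, hX2, hy2, neg_neg]
  have hZi : ∀ u v, B (X (y.1 u)) (X (y.1 v)) = -B u v := by
    intro u v
    rw [hXl.form, hl, hyi, neg_one_mul]
  have hVn : Nontrivial V := Module.nontrivial_of_finrank_pos (R := F) (by omega)
  obtain ⟨w, hw0, hw⟩ : ∃ w, w ≠ 0 ∧ X (y.1 w) = w := by
    obtain ⟨v0, hv0⟩ := exists_ne (0 : V)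
    obtain ⟨v1, hv1⟩ := h.exists_one hv0
    by_contra hno
    push Not at hno
    have h5 : ∀ v, X (y.1 v) = -v := by
      intro v
      by_contra h6
      refine hno (v + X (y.1 v)) (fun h7 => h6 ?_) ?_
      · rw [eq_neg_iff_add_eq_zero, add_comm]; exact h7
      · rw [map_add, SS.map_add, hZ2, add_comm]
    have h6 := hZi v0 v1
    rw [h5, h5, hv1, LinearMap.map_neg₂, map_neg, neg_neg, hv1] at h6
    exact h2 (by linear_combination h6)
  obtain ⟨f, hwf, hywf, hf⟩ : ∃ f, B w f = 1 ∧ B (y.1 w) f = 0 ∧ X (y.1 f) = -f := by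
    obtain ⟨g0, hg0⟩ := h.exists_one hw0
    have k1 : B w (X (y.1 g0)) = -1 := by
      have := hZi w g0
      rw [hw, hg0] at this
      exact this
    obtain ⟨f0, hf0, hf0Z⟩ : ∃ f0, B w f0 = 1 ∧ X (y.1 f0) = -f0 := by
      refine ⟨-(g0 - X (y.1 g0)), ?_, ?_⟩
      · rw [map_neg, map_sub, hg0, k1]; linear_combination -h33
      · rw [map_neg, map_sub, SS.map_neg, SS.map_sub, hZ2]; abel
    set! β := B (y.1 w) f0 with hβ
    set! κ := 1 * 1 + β * β with hκ
    have hκκ : κ * κ = 1 := f3_sum h3 (Or.inl one_ne_zero)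
    have e1 : B w (y.1 f0) = -β := by rw [hβ, hyadj, neg_neg]
    have e2 : B (y.1 w) (y.1 f0) = 1 := by rw [hyi, hf0]
    refine ⟨κ • (f0 - β • y.1 f0), ?_, ?_, ?_⟩
    · rw [map_smul, map_sub, map_smul, hf0, e1, smul_eq_mul, smul_eq_mul]
      linear_combination hκκ
    · rw [map_smul, map_sub, map_smul, e2, ← hβ, smul_eq_mul, smul_eq_mul]
      ring
    · have e3 : X (y.1 (y.1 f0)) = -y.1 f0 := by rw [hcm, hf0Z, map_neg]
      rw [map_smul y.1, map_sub y.1, map_smul y.1, hXl.map_smul, SS.map_sub, hXl.map_smul, hf0Z, e3]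
      module
  have hSB : SB B w f (y.1 w) (y.1 f) := by
    refine ⟨hwf, by rw [hyi, hwf], ?_, ?_, h.swap0 hywf, ?_⟩
    · have k1 := hZi w (y.1 w)
      have k2 : X (y.1 (y.1 w)) = y.1 w := by rw [hcm, hw]
      rw [hw, k2] at k1
      have k3 : 2 * B w (y.1 w) = 0 := by linear_combination k1
      exact (mul_eq_zero.1 k3).resolve_left h2
    · rw [← neg_neg (B w (y.1 f)), ← hyadj, hywf, neg_zero]
    · have k1 := hZi f (y.1 f)
      have k2 : X (y.1 (y.1 f)) = -y.1 f := by rw [hcm, hf, map_neg]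
      rw [hf, k2, LinearMap.map_neg₂, map_neg, neg_neg] at k1
      have k3 : 2 * B f (y.1 f) = 0 := by linear_combination k1
      exact (mul_eq_zero.1 k3).resolve_left h2
  set! c := y.1 w with hc; rewrite [← hc] at hSB hywf hw
  set! d := y.1 f with hd; rewrite [← hd] at hSB hf
  have hyc : y.1 c = -w := by rw [hc, hy2]
  have hyd : y.1 d = -f := by rw [hd, hy2]
  have hXa : X w = -c := by
    have k1 : X (y.1 c) = c := by rw [hc, hcm, hw]
    rw [hyc, SS.map_neg] at k1
    rw [← k1, neg_neg]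
  have hXb : X f = d := by
    have k1 : X (y.1 d) = -d := by rw [hd, hcm, hf, map_neg]
    rw [hyd, SS.map_neg] at k1
    exact neg_injective k1
  have hXc : X c = w := by
    rw [← neg_neg c, ← hXa, SS.map_neg, hX2, neg_neg]
  have hXd : X d = -f := by rw [← hXb, hX2]
  have ba : B f w = -1 := by rw [h.swap, hSB.ab]
  have dc : B d c = -1 := by rw [h.swap, hSB.cd]
  have ca : B c w = 0 := h.swap0 hSB.ac
  have da : B d w = 0 := h.swap0 hSB.ad
  have cb : B c f = 0 := h.swap0 hSB.bc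
  have db : B d f = 0 := h.swap0 hSB.bd
  have hC : ∀ v : V, (sg h w c hSB.ac 1 0 1 * sg h f d hSB.bd (-1) 0 (-1)).1 v =
    (sg h w c hSB.ac 1 0 1).1 ((sg h f d hSB.bd (-1) 0 (-1)).1 v) := fun v => rfl
  have hC' : ∀ v : V, (sg h f d hSB.bd 1 0 1 * sg h w c hSB.ac (-1) 0 (-1)).1 v =
    (sg h f d hSB.bd 1 0 1).1 ((sg h w c hSB.ac (-1) 0 (-1)).1 v) := fun v => rfl
  have hCy : ρ (sg h w c hSB.ac 1 0 1 * sg h f d hSB.bd (-1) 0 (-1)) * ρ y =
      ρ y * ρ (sg h w c hSB.ac 1 0 1 * sg h f d hSB.bd (-1) 0 (-1)) := by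
    rw [← map_mul, ← map_mul]
    congr 1
    apply Subtype.ext
    apply LinearEquiv.ext
    intro v
    show (sg h w c hSB.ac 1 0 1 * sg h f d hSB.bd (-1) 0 (-1)).1 (y.1 v) =
      y.1 ((sg h w c hSB.ac 1 0 1 * sg h f d hSB.bd (-1) 0 (-1)).1 v)
    obtain ⟨x, y, z, w, rfl⟩ := hSB.exists_coord h h4 v
    simp only [hC, sg_apply, map_add, map_smul, LinearMap.add_apply, LinearMap.smul_apply, smul_eq_mul, ba, dc, ca,
      da, cb, db, h.alt, hSB.ab, hSB.cd, hSB.ac, hSB.ad, hSB.bc, hSB.bd, ← hc, ← hd, hyc, hyd, map_neg,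
      LinearMap.neg_apply]
    clear_value c d
    match_scalars <;> ring
  have hcov3 := hcov.symm.comm hCy
  rw [← map_inv] at hcov3
  have hCi : (sg h w c hSB.ac 1 0 1 * sg h f d hSB.bd (-1) 0 (-1))⁻¹ =
      sg h f d hSB.bd 1 0 1 * sg h w c hSB.ac (-1) 0 (-1) := by
    rw [mul_inv_rev, sg_inv, sg_inv, neg_neg, neg_zero]
  rw [hCi] at hcov3
  have hXinv : ∀ v, X⁻¹ v = -X v := by
    intro v
    apply X.injective
    rw [SS.apply_inv_self, SS.map_neg, hX2, neg_neg]
  refine dead_F E h3 h4 (Lf.tg y) ((((Lf.tg _).mul hX).mul (Lf.tg _)).mul hX.inv) hcov3 hSB rfl rfl hyc hyd ?_ ?_ ?_ ?_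
  all_goals
    simp only [SS.mul_apply, SS.tg_apply, hXinv, hC, hC', sg_apply, map_add, map_smul, LinearMap.add_apply,
      LinearMap.smul_apply, smul_eq_mul, h.alt, ba, ca, da, cb, db, dc, SS.map_add, SS.map_neg, hXl.map_smul, hXa, hXb,
      hXc, hXd, hSB.ab, hSB.ac, hSB.ad, hSB.bc, hSB.bd, hSB.cd, map_neg, LinearMap.neg_apply]
    clear_value c d
    match_scalars <;> (clear * - h33; grobner)

set_option maxHeartbeats 1000000 in
attribute [-instance] instNoNatZeroDivisorsOfIsAddTorsionFree instIsCharPOfIsLeftCancelAddOfCharP in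
/-- type 4: `X ^ 2 = -1`, `μ = -1`, `t` of odd order -/
theorem dead_T4 (E : SpEnv Ω N ρ) [Nonempty Ω] (h3 : Nat.card F = 3) (h4 : finrank F V = 4) {X : SS B} {t : ↥(Sp B)}
    (hX : Lf ρ s X) (hcov : Cov2 Ω s (ρ t)) (hX2 : ∀ v, X (X v) = -v) (hl : X.l = -1)
    (hcm : ∀ v, X (t.1 v) = t.1 (X v)) (hodd : ∀ v, t.1 (t.1 v) = v → t.1 v = v) (ht1 : t ≠ 1) : False := by
  have : FiniteDimensional F V := FiniteDimensional.of_finrank_pos (by omega)
  have h33 := f3_three h3
  have hXl : X.IsLin := f3_aut h3 _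
  have h := E.form
  have h2 := f3_two h3
  have hadj : ∀ u v, B (X u) v = B u (X v) := by
    intro u v
    have h5 := hXl.form u (X v)
    rw [hX2, hl, neg_one_mul, map_neg] at h5
    exact neg_injective h5
  have hself : ∀ u, B u (X u) = 0 := by
    intro u
    have h5 := h.swap u (X u)
    rw [hadj] at h5
    have h6 : 2 * B u (X u) = 0 := by linear_combination h5
    exact (mul_eq_zero.1 h6).resolve_left h2
  have hXX : ∀ u v, B (X u) (X v) = -B u v := by
    intro u v
    rw [hadj, hX2, map_neg]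
  -- a vector `e` with `B e (t e) ≠ 0`
  obtain ⟨e, he⟩ : ∃ e, B e (t.1 e) ≠ 0 := by
    by_contra hno
    push Not at hno
    apply ht1
    apply Subtype.ext
    apply LinearEquiv.ext
    intro w0
    show t.1 w0 = w0
    apply hodd
    have hw : ∀ u, B u (t.1 (t.1 w0) - w0) = 0 := by
      intro u
      have k2 := hno (u + t.1 w0)
      have k3 := hno u
      have k4 := hno (t.1 w0)
      have k5 : B (t.1 u) (t.1 w0) = B u w0 := t.2 u w0
      simp only [map_add, LinearMap.add_apply, k3, k4, zero_add, add_zero] at k2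
      rw [map_sub, ← k5]
      have k6 := h.swap (t.1 w0) (t.1 u)
      linear_combination k2 - k6
    exact sub_eq_zero.1 (h.nd' _ hw)
  set q := B e (t.1 e) with hq
  set! p := B e (X (t.1 e)) with hp
  set! n := p * p + q * q with hn
  have hnn : n * n = 1 := f3_sum h3 (Or.inr he)
  -- the basis
  obtain ⟨b, d, hSB, hXc, hXd, hXb, htd⟩ : ∃ b d, SB B e b (X e) d ∧ X (X e) = -e ∧ X d = b ∧ X b = -d ∧
      t.1 e = p • d + q • b := by
    have eq1 : B e (X (t.1 e)) = p := rfl
    have eq2 : B e (t.1 e) = q := rfl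
    have eb : B e (n • (p • X (t.1 e) + q • t.1 e)) = 1 := by
      rw [map_smul, map_add, map_smul, map_smul, eq1, eq2, smul_eq_mul, smul_eq_mul, smul_eq_mul]
      linear_combination hnn
    have ed : B e (n • (p • t.1 e - q • X (t.1 e))) = 0 := by
      rw [map_smul, map_sub, map_smul, map_smul, eq1, eq2, smul_eq_mul, smul_eq_mul, smul_eq_mul]
      ring
    have hd : X (n • (p • t.1 e - q • X (t.1 e))) = n • (p • X (t.1 e) + q • t.1 e) := by
      rw [hXl.map_smul, SS.map_sub, hXl.map_smul, hXl.map_smul, hX2]; module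
    have hb : X (n • (p • X (t.1 e) + q • t.1 e)) = -(n • (p • t.1 e - q • X (t.1 e))) := by
      rw [hXl.map_smul, SS.map_add, hXl.map_smul, hXl.map_smul, hX2]; module
    refine ⟨n • (p • X (t.1 e) + q • t.1 e), n • (p • t.1 e - q • X (t.1 e)), ⟨eb, ?_, hself e, ed, ?_, ?_⟩, hX2 e, hd, hb, ?_⟩
    · rw [hadj, hd, eb]
    · rw [← hd, hXX, h.swap0 ed, neg_zero]
    · rw [← hd, hadj, hd, ← hd]
      exact hself _
    · match_scalars
      · linear_combination -hnn
      · ring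
  have htX : X (t.1 e) = p • b - q • d := by
    rw [htd, SS.map_add, hXl.map_smul, hXl.map_smul, hXd, hXb]; module
  have hel := hself e
  set! c := X e with hc; rewrite [← hc] at hel hXc hSB
  have hba : B b d = 0 := hSB.bd
  have hdb : B d b = 0 := h.swap0 hba
  -- the element `T`
  have hT : SS.cj X (sg h e c hel (n * q) (n * p) (-(n * q))) = sg h e c hel (n * q) (n * p) (-(n * q)) := by
    rw [cj_sg h X hXl]
    apply sg_congr
    intro v
    rw [hXc, hl, ← hc]
    simp only [map_neg]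
    have : (-1 : F)⁻¹ = -1 := by norm_num
    rw [this]
    module
  have hc1 : ρ (sg h e c hel (n * q) (n * p) (-(n * q))) * s = s * ρ (sg h e c hel (n * q) (n * p) (-(n * q))) := by
    have h5 := hX (sg h e c hel (n * q) (n * p) (-(n * q)))
    rw [hT] at h5
    exact (mul_inv_eq_iff_eq_mul.1 h5).symm
  have hcov2 := hcov.comm hc1
  have htc : t.1 c = X (t.1 e) := by rw [hc, hcm]
  have hl1 : (SS.tg t).l⁻¹ = 1 := inv_one
  have hTt : SS.cj (SS.tg t) (sg h e c hel (n * q) (n * p) (-(n * q)))⁻¹ = sg h d b hdb q (-p) (-q) := by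
    rw [sg_inv, cj_sg h (SS.tg t) (SS.tg_lin t)]
    apply sg_congr
    intro v
    rw [SS.tg_apply, SS.tg_apply, htc, htX, htd, hl1]
    simp only [map_add, map_sub, map_smul, smul_eq_mul, mul_one]
    clear_value c
    generalize B v d = α, B v b = β
    clear_value n p q
    match_scalars <;> (clear * - h33 hn hnn; grobner)
  rw [comm_eq, hTt] at hcov2
  have hyv : ∀ v, (sg h e c hel (n * q) (n * p) (-(n * q)) * sg h d b hdb q (-p) (-q)).1 v =
    (sg h e c hel (n * q) (n * p) (-(n * q))).1 ((sg h d b hdb q (-p) (-q)).1 v) := fun v => rfl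
  have ba : B b e = -1 := by rw [h.swap, hSB.ab]
  have dc : B d c = -1 := by rw [h.swap, hSB.cd]
  have ca : B c e = 0 := h.swap0 hSB.ac
  have da : B d e = 0 := h.swap0 hSB.ad
  have cb : B c b = 0 := h.swap0 hSB.bc
  have db : B d b = 0 := h.swap0 hSB.bd
  refine dead_T4b E h3 h4 hX hcov2 hX2 hl (fun v => ?_) fun v => ?_
  · obtain ⟨x, y, z, w, rfl⟩ := hSB.exists_coord h h4 v
    simp only [hyv, sg_apply, map_add, map_smul, LinearMap.add_apply, LinearMap.smul_apply, smul_eq_mul, ba, dc, ca,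
      da, cb, db, h.alt, hSB.ab, hSB.cd, hSB.ac, hSB.ad, hSB.bc, hSB.bd, ← hc, hXc, hXd, hXb, map_neg,
      LinearMap.neg_apply, SS.map_add, SS.map_neg, hXl.map_smul]
    clear_value c
    clear_value n p q
    match_scalars <;> (clear * - h33 hn hnn; grobner)
  · obtain ⟨x, y, z, w, rfl⟩ := hSB.exists_coord h h4 v
    simp only [hyv, sg_apply, map_add, map_smul, LinearMap.add_apply, LinearMap.smul_apply, smul_eq_mul, ba, dc, ca,
      da, cb, db, h.alt, hSB.ab, hSB.cd, hSB.ac, hSB.ad, hSB.bc, hSB.bd, map_neg, LinearMap.neg_apply]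
    clear_value c
    clear_value n p q
    match_scalars <;> (clear * - h33 hn hnn; grobner)

end env

end Cfsg.Agent.H711.RC
end

-- part: H711/RC/Three
section
/-!
# S3510, row D, `PSp_4(3)`: `dead_three` (helper711)

There is no cover of an `SpEnv`-set by commuting elements of different prime orders if `|F| = 3` and
`dim V = 4`.
-/

set_option autoImplicit false
set_option linter.unusedSimpArgs false
open Cfsg

namespace Cfsg.Agent.H711.RC

open MulAction Module Cfsg.Agent.H106.RC Cfsg.Agent.H520.RC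

universe u v

section env

variable {F : Type u} {V : Type v} [Field F] [AddCommGroup V] [Module F V] {B : LinearMap.BilinForm F V}

theorem f3_pow_odd (h : Nat.card F = 3) {a : F} {r : ℕ} (hr : Odd r) (ha : a ≠ 0) : a ^ r = a := by
  obtain ⟨k, rfl⟩ := hr
  rw [pow_succ, pow_mul, pow_two, f3_sq h ha, one_pow, one_mul]

/-- number of fixed points of an isometry of prime order on an invariant subspace -/
theorem count_fix (h3 : Nat.card F = 3) [FiniteDimensional F V] {t : ↥(Sp B)} {r : ℕ} (hr : r.Prime) (ht : t ^ r = 1)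
    (W : Submodule F V) (hW : ∀ w ∈ W, t.1 w ∈ W) :
    3 ^ finrank F W ≡ 3 ^ finrank F ↥(W ⊓ LinearMap.ker (t.1.toLinearMap - LinearMap.id)) [MOD r] := by
  classical
  have : Finite F := Nat.finite_of_card_ne_zero (by omega)
  have : Finite V := Module.finite_of_finite F
  have : Fact r.Prime := ⟨hr⟩
  have : Fintype W := Fintype.ofFinite W
  let f : Function.End W := fun w => ⟨t.1 w.1, hW w.1 w.2⟩
  have hfk : ∀ (k : ℕ) (w : W), ((f ^ k) w).1 = (t ^ k).1 w.1 := by
    intro k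
    induction k with
    | zero => intro w; rfl
    | succ k ih =>
      intro w
      rw [pow_succ, pow_succ]
      show ((f ^ k) (f w)).1 = (t ^ k).1 (t.1 w.1)
      rw [ih]
  have hf : f ^ r ^ 1 = 1 := by
    funext w
    apply Subtype.ext
    rw [hfk, pow_one, ht]
    rfl
  have h1 := Equiv.Perm.card_fixedPoints_modEq hf
  rw [← Nat.card_eq_fintype_card, ← Nat.card_eq_fintype_card, Module.natCard_eq_pow_finrank (K := F), h3] at h1
  have h2 : Nat.card f.fixedPoints = Nat.card ↥(W ⊓ LinearMap.ker (t.1.toLinearMap - LinearMap.id)) := by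
    refine Nat.card_congr ⟨fun w => ⟨w.1.1, w.1.2, ?_⟩, fun v => ⟨⟨v.1, v.2.1⟩, ?_⟩, fun _ => rfl, fun _ => rfl⟩
    · have h3 : f w.1 = w.1 := w.2
      have h4 : t.1 w.1.1 = w.1.1 := congrArg Subtype.val h3
      rw [SetLike.mem_coe, LinearMap.mem_ker, LinearMap.sub_apply, LinearMap.id_apply]
      exact sub_eq_zero.2 h4
    · have h3 := v.2.2
      rw [SetLike.mem_coe, LinearMap.mem_ker, LinearMap.sub_apply, LinearMap.id_apply] at h3
      exact Subtype.ext (sub_eq_zero.1 h3)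
  rw [h2, Module.natCard_eq_pow_finrank (K := F), h3] at h1
  exact h1

theorem mem_fixk {t : ↥(Sp B)} {v : V} : v ∈ LinearMap.ker (t.1.toLinearMap - LinearMap.id) ↔ t.1 v = v := by
  rw [LinearMap.mem_ker, LinearMap.sub_apply, LinearMap.id_apply]
  exact sub_eq_zero

theorem prime_dvd_cases {r : ℕ} (hr : r.Prime) (hr5 : 5 ≤ r) :
    (r ∣ 80 → r = 5) ∧ (r ∣ 78 → r = 13) ∧ ¬ r ∣ 72 ∧ ¬ r ∣ 54 := by
  have k2 : ¬ r ∣ 2 := fun h => by have := Nat.le_of_dvd (by norm_num) h; omega
  have k3 : ¬ r ∣ 3 := fun h => by have := Nat.le_of_dvd (by norm_num) h; omega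
  refine ⟨fun h => ?_, fun h => ?_, fun h => ?_, fun h => ?_⟩
  · have h1 : r ∣ 2 * 2 * 2 * 2 * 5 := by norm_num; exact h
    simp only [hr.dvd_mul, k2, false_or] at h1
    exact (Nat.prime_dvd_prime_iff_eq hr (by norm_num)).1 h1
  · have h1 : r ∣ 2 * 3 * 13 := by norm_num; exact h
    simp only [hr.dvd_mul, k2, k3, false_or] at h1
    exact (Nat.prime_dvd_prime_iff_eq hr (by norm_num)).1 h1
  · have h1 : r ∣ 2 * 2 * 2 * 3 * 3 := by norm_num; exact h
    simp only [hr.dvd_mul, k2, k3, or_self] at h1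
  · have h1 : r ∣ 2 * 3 * 3 * 3 := by norm_num; exact h
    simp only [hr.dvd_mul, k2, k3, or_self] at h1

/-- isometries of prime order at least 5 are irreducible of order 5 -/
theorem five (h : NAlt B) (h3 : Nat.card F = 3) (h4 : finrank F V = 4) {t : ↥(Sp B)} {r : ℕ} (hr : r.Prime)
    (hr5 : 5 ≤ r) (ht : t ^ r = 1) (ht1 : t ≠ 1) :
    r = 5 ∧ ∀ W : Submodule F V, (∀ w ∈ W, t.1 w ∈ W) → W = ⊥ ∨ W = ⊤ := by
  have : FiniteDimensional F V := FiniteDimensional.of_finrank_pos (by omega)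
  set! K := LinearMap.ker (t.1.toLinearMap - LinearMap.id) with hK
  have hcf := count_fix h3 hr ht
  have hKt : K ≠ ⊤ := by
    intro h5
    apply ht1
    apply Subtype.ext
    apply LinearEquiv.ext
    intro v
    exact mem_fixk.1 (show v ∈ K by rw [h5]; trivial)
  have hK4 : finrank F K < 4 := by
    rw [← h4]; exact Submodule.finrank_lt hKt
  have htop := hcf ⊤ (fun _ _ => trivial)
  rw [top_inf_eq, finrank_top, h4, ← hK] at htop
  obtain ⟨c1, c2, c3, c4⟩ := prime_dvd_cases hr hr5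
  have hdv : r ∣ 3 ^ 4 - 3 ^ finrank F K :=
    (Nat.modEq_iff_dvd' (Nat.pow_le_pow_right (by norm_num) hK4.le)).1 htop.symm
  have hcase : finrank F K = 0 ∨ finrank F K = 1 := by
    have : finrank F K = 0 ∨ finrank F K = 1 ∨ finrank F K = 2 ∨ finrank F K = 3 := by omega
    rcases this with h5 | h5 | h5 | h5
    · exact Or.inl h5
    · exact Or.inr h5
    · rw [h5] at hdv; norm_num at hdv; exact absurd hdv c3
    · rw [h5] at hdv; norm_num at hdv; exact absurd hdv c4
  rcases hcase with h5 | h5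
  · rw [h5] at hdv
    norm_num at hdv
    have hr' := c1 hdv
    refine ⟨hr', fun W hW => ?_⟩
    have hK0 : K = ⊥ := Submodule.finrank_eq_zero.1 h5
    have h6 := hcf W hW
    rw [← hK, hK0, inf_bot_eq, finrank_bot, pow_zero, hr'] at h6
    have h7 : finrank F W ≤ 4 := by rw [← h4]; exact Submodule.finrank_le W
    have h8 : finrank F W = 0 ∨ finrank F W = 1 ∨ finrank F W = 2 ∨ finrank F W = 3 ∨ finrank F W = 4 := by omega
    rcases h8 with h9 | h9 | h9 | h9 | h9
    · exact Or.inl (Submodule.finrank_eq_zero.1 h9)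
    · rw [h9] at h6; exact absurd h6 (by decide)
    · rw [h9] at h6; exact absurd h6 (by decide)
    · rw [h9] at h6; exact absurd h6 (by decide)
    · exact Or.inr (Submodule.eq_top_of_finrank_eq (by rw [h9, h4]))
  · exfalso
    rw [h5] at hdv
    norm_num at hdv
    have hr' := c2 hdv
    obtain ⟨⟨e, heK⟩, he0, hesp⟩ := finrank_eq_one_iff'.1 h5
    have he0' : e ≠ 0 := fun h6 => he0 (Subtype.ext h6)
    have hKe : ∀ k ∈ K, ∃ c : F, c • e = k := by
      intro k hk
      obtain ⟨c, hc⟩ := hesp ⟨k, hk⟩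
      exact ⟨c, congrArg Subtype.val hc⟩
    have hle : K ≤ LinearMap.ker (B e) := by
      intro k hk
      obtain ⟨c, rfl⟩ := hKe k hk
      rw [LinearMap.mem_ker, map_smul, h.alt, smul_zero]
    have hte : t.1 e = e := mem_fixk.1 heK
    have h6 := hcf (LinearMap.ker (B e)) (fun w hw => by
      rw [LinearMap.mem_ker] at hw ⊢
      have h7 : B (t.1 e) (t.1 w) = B e w := t.2 e w
      rw [hte] at h7
      rw [h7, hw])
    rw [← hK, inf_eq_right.2 hle, h5, hr'] at h6
    have h7 : finrank F (LinearMap.ker (B e)) = 3 := by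
      have h8 := LinearMap.finrank_range_add_finrank_ker (B e)
      have h9 : LinearMap.range (B e) = ⊤ := by
        rw [LinearMap.range_eq_top]
        intro a
        obtain ⟨y, hy⟩ := h.exists_one he0'
        exact ⟨a • y, by rw [map_smul, hy, smul_eq_mul, mul_one]⟩
      rw [h9, finrank_top, finrank_self, h4] at h8
      omega
    rw [h7] at h6
    exact absurd h6 (by decide)

/-- unipotent isometry: a fixed vector of the form `t v - v` -/
theorem exists_fix_three (h3 : Nat.card F = 3) {t : ↥(Sp B)} (ht : t ^ 3 = 1) (ht1 : t ≠ 1) :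
    ∃ e : V, e ≠ 0 ∧ t.1 e = e := by
  have h33 := f3_three h3
  obtain ⟨w0, hw0⟩ : ∃ v, t.1 v ≠ v := by
    by_contra hno
    push Not at hno
    exact ht1 (Subtype.ext (LinearEquiv.ext hno))
  have ht3 : ∀ v, t.1 (t.1 (t.1 v)) = v := fun v => by
    have h5 := congrArg (fun s : ↥(Sp B) => s.1 v) ht
    exact h5
  by_cases h5 : t.1 (t.1 w0 - w0) = t.1 w0 - w0
  · exact ⟨_, sub_ne_zero.2 hw0, h5⟩
  · refine ⟨_, sub_ne_zero.2 h5, ?_⟩
    have h6 := ht3 w0
    simp only [map_sub, h6]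
    have h7 : (3 : F) • t.1 w0 = 0 := by rw [h33, zero_smul]
    have h8 : (3 : F) • t.1 (t.1 w0) = 0 := by rw [h33, zero_smul]
    linear_combination (norm := module) h7 - h8

/-- there are no commuting isometries of different odd prime orders -/
theorem no_two_odd (h : NAlt B) (h3 : Nat.card F = 3) (h4 : finrank F V = 4) {t t' : ↥(Sp B)} {r r' : ℕ}
    (hr : r.Prime) (hr' : r'.Prime) (hr2 : r ≠ 2) (hrr : r < r') (ht : t ^ r = 1)
    (ht' : t' ^ r' = 1) (ht1 : t ≠ 1) (ht1' : t' ≠ 1) (hcm : t * t' = t' * t) : False := by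
  have k1 : 3 ≤ r := by have := hr.two_le; omega
  have k2 : 5 ≤ r' := by
    rcases Nat.lt_or_ge r' 5 with k3 | k3
    · exfalso
      have : r' = 4 := by omega
      rw [this] at hr'
      exact absurd hr' (by norm_num)
    · exact k3
  obtain ⟨h5, hirr⟩ := five h h3 h4 hr' k2 ht' ht1'
  have h6 : r = 3 := by
    have : r = 3 ∨ r = 4 := by omega
    rcases this with h6 | h6
    · exact h6
    · rw [h6] at hr; exact absurd hr (by norm_num)
  rw [h6] at ht
  obtain ⟨e, he0, he⟩ := exists_fix_three h3 ht ht1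
  rcases hirr (LinearMap.ker (t.1.toLinearMap - LinearMap.id)) (fun w hw => by
    rw [mem_fixk] at hw ⊢
    have h7 := congrArg (fun s : ↥(Sp B) => s.1 w) hcm
    have h8 : t.1 (t'.1 w) = t'.1 (t.1 w) := h7
    rw [h8, hw]) with h7 | h7
  · have : e ∈ LinearMap.ker (t.1.toLinearMap - LinearMap.id) := mem_fixk.2 he
    rw [h7, Submodule.mem_bot] at this
    exact he0 this
  · apply ht1
    apply Subtype.ext
    apply LinearEquiv.ext
    intro v
    exact mem_fixk.1 (show v ∈ LinearMap.ker (t.1.toLinearMap - LinearMap.id) by rw [h7]; trivial)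

variable {G : Type*} [Group G] {Ω : Type*} [MulAction G Ω] {N : Subgroup G} {ρ : ↥(Sp B) →* G} {s : G}

/-- elements of odd order come from isometries of the same order -/
theorem odd_lift (E : SpEnv Ω N ρ) (h3 : Nat.card F = 3) [FiniteDimensional F V] {x : G} {r : ℕ} (hr : Odd r)
    (hx : x ^ r = 1) : ∃ t : ↥(Sp B), x = ρ t ∧ t ^ r = 1 := by
  obtain ⟨M, hM⟩ := E.lift x
  have hMl : M.IsLin := f3_aut h3 _
  obtain ⟨a, ha, hpow⟩ := E.pow_scal hM hx
  have haa := f3_sq h3 ha
  have h := E.form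
  -- the multiplier
  have hit : ∀ (k : ℕ) (u v : V), B (M^[k] u) (M^[k] v) = M.l ^ k * B u v := by
    intro k
    induction k with
    | zero => intro u v; simp
    | succ k ih =>
      intro u v
      rw [Function.iterate_succ_apply, Function.iterate_succ_apply, ih, hMl.form, pow_succ, mul_assoc]
  have hVn : Nontrivial V := Module.nontrivial_of_finrank_pos (R := F) (by have := E.dim; omega)
  obtain ⟨v0, hv0⟩ := exists_ne (0 : V)
  obtain ⟨v1, hv1⟩ := h.exists_one hv0
  have hl : M.l = 1 := by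
    have h5 := hit r v0 v1
    rw [hpow, hpow, hv1, f3_pow_odd h3 hr M.hl, map_smul, LinearMap.map_smul₂, smul_eq_mul, smul_eq_mul, hv1, mul_one,
      mul_one, haa] at h5
    exact h5.symm
  let L : V ≃ₗ[F] V := hMl.lin.trans (LinearEquiv.smulOfUnit (Units.mk0 a ha))
  have hL : ∀ v, L v = a • M v := fun v => rfl
  have hLS : L ∈ Sp B := by
    intro u v
    rw [hL, hL, map_smul, LinearMap.map_smul₂, hMl.form, hl, smul_eq_mul, smul_eq_mul]
    linear_combination B u v * haa
  have hLk : ∀ (k : ℕ) (v : V), (((⟨L, hLS⟩ : ↥(Sp B)) ^ k).1) v = a ^ k • M^[k] v := by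
    intro k
    induction k with
    | zero => intro v; rw [pow_zero, pow_zero, one_smul]; rfl
    | succ k ih =>
      intro v
      rw [pow_succ, Function.iterate_succ_apply]
      show (((⟨L, hLS⟩ : ↥(Sp B)) ^ k).1) (L v) = _
      rw [hL, map_smul, ih, smul_smul, pow_succ, mul_comm]
  refine ⟨⟨L, hLS⟩, ?_, ?_⟩
  · refine E.eq_of_lf hM ha fun v => ?_
    rw [hL, smul_smul, haa, one_smul]
  · apply Subtype.ext
    apply LinearEquiv.ext
    intro v
    rw [hLk, hpow, f3_pow_odd h3 hr ha, smul_smul, haa, one_smul]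
    rfl

/-- the lifts commute exactly -/
theorem comm_lift (E : SpEnv Ω N ρ) (h3 : Nat.card F = 3) [FiniteDimensional F V] {X : SS B} {t : ↥(Sp B)} {r : ℕ}
    (hr : Odd r) (hX : Lf ρ s X) (ht : t ^ r = 1) (hst : s * ρ t = ρ t * s) (v : V) : X (t.1 v) = t.1 (X v) := by
  obtain ⟨a, ha, h5⟩ := E.lf_comm hX (Lf.tg t) hst
  simp only [SS.tg_apply] at h5
  have hXl : X.IsLin := f3_aut h3 _
  have h6 : ∀ (k : ℕ) (v : V), X ((t ^ k).1 v) = a ^ k • (t ^ k).1 (X v) := by
    intro k
    induction k with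
    | zero => intro v; rw [pow_zero, pow_zero, one_smul]; rfl
    | succ k ih =>
      intro v
      rw [pow_succ]
      show X ((t ^ k).1 (t.1 v)) = a ^ (k + 1) • (t ^ k).1 (t.1 (X v))
      rw [ih, h5, map_smul, smul_smul, pow_succ]
  have hVn : Nontrivial V := Module.nontrivial_of_finrank_pos (R := F) (by have := E.dim; omega)
  obtain ⟨v0, hv0⟩ := exists_ne (0 : V)
  have h7 := h6 r v0
  rw [ht, f3_pow_odd h3 hr ha] at h7
  have h8 : X v0 = a • X v0 := h7
  have ha1 : a = 1 := by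
    have h9 : (a - 1) • X v0 = 0 := by rw [sub_smul, one_smul, ← h8, sub_self]
    rcases smul_eq_zero.1 h9 with h10 | h10
    · exact sub_eq_zero.1 h10
    · exact absurd (X.injective (by rw [h10, X.map_zero])) hv0
  rw [h5, ha1, one_smul]

theorem hodd_of {t : ↥(Sp B)} {r : ℕ} (hr : Odd r) (ht : t ^ r = 1) (v : V) (hv : t.1 (t.1 v) = v) : t.1 v = v := by
  obtain ⟨k, rfl⟩ := hr
  have h1 : ∀ k : ℕ, (t ^ (2 * k)).1 v = v := by
    intro k
    induction k with
    | zero => rfl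
    | succ k ih =>
      rw [mul_add, mul_one, pow_add, pow_two]
      show (t ^ (2 * k)).1 (t.1 (t.1 v)) = v
      rw [hv, ih]
  have h2 : (t ^ (2 * k + 1)).1 v = t.1 v := by
    rw [pow_succ']
    show t.1 ((t ^ (2 * k)).1 v) = _
    rw [h1]
  rw [← h2, ht]
  rfl

/-- type 3 does not occur for elements of order 5 -/
theorem dead_T3five (h : NAlt B) (h3 : Nat.card F = 3) (h4 : finrank F V = 4) {X : SS B}
    {t : ↥(Sp B)} (hX2 : ∀ v, X (X v) = -v) (hl : X.l = 1) (hcm : ∀ v, X (t.1 v) = t.1 (X v)) (ht : t ^ 5 = 1)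
    (ht1 : t ≠ 1) : False := by
  have : FiniteDimensional F V := FiniteDimensional.of_finrank_pos (by omega)
  have h33 := f3_three h3
  have hXl : X.IsLin := f3_aut h3 _
  have h2 := f3_two h3
  obtain ⟨-, hirr⟩ := five h h3 h4 (by norm_num) le_rfl ht ht1
  have ht5 : ∀ v, t.1 (t.1 (t.1 (t.1 (t.1 v)))) = v := fun v => by
    have h5 := congrArg (fun s : ↥(Sp B) => s.1 v) ht
    exact h5
  have hfix : ∀ v, t.1 v = v → v = 0 := by
    intro v hv
    rcases hirr (LinearMap.ker (t.1.toLinearMap - LinearMap.id)) (fun w hw => by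
      rw [mem_fixk] at hw ⊢
      rw [hw, hw]) with h7 | h7
    · have : v ∈ LinearMap.ker (t.1.toLinearMap - LinearMap.id) := mem_fixk.2 hv
      rw [h7, Submodule.mem_bot] at this
      exact this
    · exfalso
      apply ht1
      apply Subtype.ext
      apply LinearEquiv.ext
      intro v
      exact mem_fixk.1 (show v ∈ LinearMap.ker (t.1.toLinearMap - LinearMap.id) by rw [h7]; trivial)
  have hS : ∀ v, v + t.1 v + t.1 (t.1 v) + t.1 (t.1 (t.1 v)) + t.1 (t.1 (t.1 (t.1 v))) = 0 := by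
    intro v
    apply hfix
    simp only [map_add, ht5]
    abel
  let Y : V →ₗ[F] V := t.1.toLinearMap + t.1.toLinearMap ∘ₗ t.1.toLinearMap ∘ₗ t.1.toLinearMap ∘ₗ t.1.toLinearMap -
    LinearMap.id
  have hY : ∀ v, Y v = t.1 v + t.1 (t.1 (t.1 (t.1 v))) - v := fun v => rfl
  have hYY : ∀ v, Y (Y v) = -v := by
    intro v
    have k1 := hS v
    have k2 := ht5 v
    have k3 := ht5 (t.1 v)
    have k4 := ht5 (t.1 (t.1 v))
    have k5 := ht5 (t.1 (t.1 (t.1 v)))
    simp only [hY, map_add, map_sub, k5, k4, k3, k2]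
    have k6 : ∀ v : V, (3 : F) • v = 0 := fun v => by rw [h33, zero_smul]
    linear_combination (norm := module) k1 - k6 (t.1 v) - k6 (t.1 (t.1 (t.1 (t.1 v)))) + k6 v
  have hXY : ∀ v, X (Y v) = Y (X v) := by
    intro v
    rw [hY, hY, SS.map_sub, SS.map_add, hcm, hcm, hcm, hcm, hcm]
  have hXYpm : (∀ v, X v = Y v) ∨ ∀ v, X v = -Y v := by
    rcases hirr (LinearMap.ker (hXl.lin.toLinearMap - Y)) (fun w hw => by
      rw [LinearMap.mem_ker, LinearMap.sub_apply, sub_eq_zero] at hw ⊢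
      have h5 : X w = Y w := hw
      show X (t.1 w) = Y (t.1 w)
      rw [hcm, h5, hY, hY, map_sub, map_add]) with h5 | h5
    · right
      intro v
      have h6 : X v + Y v ∈ LinearMap.ker (hXl.lin.toLinearMap - Y) := by
        rw [LinearMap.mem_ker, LinearMap.sub_apply, sub_eq_zero]
        show X (X v + Y v) = Y (X v + Y v)
        rw [SS.map_add, map_add, hX2, hYY, hXY, add_comm]
      rw [h5, Submodule.mem_bot] at h6
      exact eq_neg_of_add_eq_zero_left h6
    · left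
      intro v
      have h6 : v ∈ LinearMap.ker (hXl.lin.toLinearMap - Y) := by rw [h5]; trivial
      rw [LinearMap.mem_ker, LinearMap.sub_apply, sub_eq_zero] at h6
      exact h6
  have hti : ∀ u v, B (t.1 u) (t.1 v) = B u v := fun u v => t.2 u v
  have hYadj : ∀ u v, B (Y u) v = B u (Y v) := by
    intro u v
    have k1 : B (t.1 u) v = B u (t.1 (t.1 (t.1 (t.1 v)))) := by
      conv_lhs => rw [← ht5 v]
      rw [hti]
    have k2 : B (t.1 (t.1 (t.1 (t.1 u)))) v = B u (t.1 v) := by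
      rw [← hti, ht5]
    rw [hY, hY]
    simp only [map_sub, map_add, LinearMap.sub_apply, LinearMap.add_apply, k1, k2]
    ring
  have hXadj : ∀ u v, B (X u) v = -B u (X v) := by
    intro u v
    have h5 := hXl.form u (X v)
    rw [hX2, hl, one_mul, map_neg] at h5
    rw [← h5, neg_neg]
  have hY0 : ∀ u v, B (Y u) v = 0 := by
    intro u v
    have k3 : 2 * B (Y u) v = 0 := by
      rcases hXYpm with h5 | h5
      · have k1 := hXadj u v
        rw [h5, h5, ← hYadj] at k1
        linear_combination k1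
      · have k1 := hXadj u v
        rw [h5, h5, LinearMap.map_neg₂, map_neg, ← hYadj] at k1
        linear_combination -k1
    exact (mul_eq_zero.1 k3).resolve_left h2
  have hVn : Nontrivial V := Module.nontrivial_of_finrank_pos (R := F) (by omega)
  obtain ⟨v0, hv0⟩ := exists_ne (0 : V)
  apply hv0
  have h5 := hYY v0
  rw [h.nd _ (hY0 v0), map_zero] at h5
  exact neg_eq_zero.1 h5.symm

/-- an involution and an element of odd prime order do not cover -/
theorem dead_two (E : SpEnv Ω N ρ) [Nonempty Ω] (h3 : Nat.card F = 3) (h4 : finrank F V = 4) (hs : s ≠ 1)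
    (hs2 : s ^ 2 = 1) {u : G} {r : ℕ} (hr : r.Prime) (hr2 : r ≠ 2) (hu : u ^ r = 1) (hu1 : u ≠ 1)
    (hsu : s * u = u * s) (hcov : Cov2 Ω s u) : False := by
  have : FiniteDimensional F V := FiniteDimensional.of_finrank_pos (by omega)
  have h := E.form
  have h2 := f3_two h3
  have hodd : Odd r := hr.odd_of_ne_two hr2
  obtain ⟨t, rfl, ht⟩ := odd_lift E h3 hodd hu
  have ht1 : t ≠ 1 := fun h5 => hu1 (by rw [h5, map_one])
  obtain ⟨X, hX⟩ := E.lift s
  have hXl : X.IsLin := f3_aut h3 _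
  have hcm := comm_lift E h3 hodd hX ht hsu
  have ho := fun v => hodd_of hodd ht v
  obtain ⟨a, ha, hpow⟩ := E.pow_scal hX hs2
  have hpow' : ∀ v, X (X v) = a • v := hpow
  have hr3 : r = 3 ∨ 5 ≤ r := by
    have := hr.two_le
    rcases Nat.lt_or_ge r 5 with k3 | k3
    · left
      have : r = 3 ∨ r = 4 := by omega
      rcases this with h6 | h6
      · exact h6
      · rw [h6] at hr; exact absurd hr (by norm_num)
    · exact Or.inr k3
  have ht3 : r = 3 → ∀ v, t.1 (t.1 (t.1 v)) = v := by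
    rintro rfl v
    exact congrArg (fun s : ↥(Sp B) => s.1 v) ht
  have hl := f3_cases h3 X.l
  rcases f3_cases h3 a with h5 | h5 | h5
  · exact ha h5
  · have hX2 : ∀ v, X (X v) = v := fun v => by rw [hpow', h5, one_smul]
    rcases hl with h6 | h6 | h6
    · exact X.hl h6
    · exact dead_T2 E h3 h4 hX hs hcov hX2 h6 hcm ho ht1
    · rcases hr3 with h7 | h7
      · exact dead_T1 E h3 h4 hX hcov hX2 h6 hcm (ht3 h7) ht1
      · obtain ⟨-, hirr⟩ := five h h3 h4 hr h7 ht ht1
        have hmem : ∀ w, w ∈ LinearMap.ker (hXl.lin.toLinearMap - LinearMap.id) ↔ X w = w := by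
          intro w
          rw [LinearMap.mem_ker, LinearMap.sub_apply, sub_eq_zero]
          rfl
        rcases hirr (LinearMap.ker (hXl.lin.toLinearMap - LinearMap.id)) (fun w hw => by
          rw [hmem] at hw ⊢
          rw [hcm, hw]) with h8 | h8
        · apply hs
          refine (E.eq_one_iff hX).2 ⟨-1, neg_ne_zero.2 one_ne_zero, fun v => ?_⟩
          have h9 : v + X v ∈ LinearMap.ker (hXl.lin.toLinearMap - LinearMap.id) := by
            rw [hmem, SS.map_add, hX2, add_comm]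
          rw [h8, Submodule.mem_bot] at h9
          rw [neg_one_smul]
          exact eq_neg_of_add_eq_zero_right h9
        · apply hs
          refine (E.eq_one_iff hX).2 ⟨1, one_ne_zero, fun v => ?_⟩
          have h9 : v ∈ LinearMap.ker (hXl.lin.toLinearMap - LinearMap.id) := by rw [h8]; trivial
          rw [one_smul]
          exact (hmem v).1 h9
  · have hX2 : ∀ v, X (X v) = -v := fun v => by rw [hpow', h5, neg_one_smul]
    rcases hl with h6 | h6 | h6
    · exact X.hl h6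
    · rcases hr3 with h7 | h7
      · exact dead_T3 E h3 h4 hX hcov hX2 h6 hcm (ht3 h7) ht1
      · obtain ⟨h8, -⟩ := five h h3 h4 hr h7 ht ht1
        rw [h8] at ht
        exact dead_T3five h h3 h4 hX2 h6 hcm ht ht1
    · exact dead_T4 E h3 h4 hX hcov hX2 h6 hcm ho ht1

/-- **`PSp_4(3)`**: no cover by commuting elements of different prime orders. -/
theorem dead_three {ι : Type*} {x : ι → G} {r : ι → ℕ} [Nonempty Ω] (E : SpEnv Ω N ρ) (hx : PF x r) (hcov : Cov Ω x)
    (h3 : Nat.card F = 3) (h4 : finrank F V = 4) : False := by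
  have : FiniteDimensional F V := FiniteDimensional.of_finrank_pos (by omega)
  have hodd : ∀ i, r i ≠ 2 → Odd (r i) := fun i hi => (hx.prime i).odd_of_ne_two hi
  have key : ∀ i j, r i ≠ 2 → r j ≠ 2 → i = j := by
    have key' : ∀ i j, r i ≠ 2 → r j ≠ 2 → r i < r j → False := by
      intro i j hi hj hij
      obtain ⟨t, ht, htr⟩ := odd_lift E h3 (hodd i hi) (hx.pow i)
      obtain ⟨t', ht', htr'⟩ := odd_lift E h3 (hodd j hj) (hx.pow j)
      have hne : t ≠ 1 := fun h5 => hx.ne i (by rw [ht, h5, map_one])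
      have hne' : t' ≠ 1 := fun h5 => hx.ne j (by rw [ht', h5, map_one])
      have hc := hx.comm i j
      have h5 : ∀ v, t.1 (t'.1 v) = t'.1 (t.1 v) := by
        intro v
        have h6 := comm_lift E h3 (hodd j hj) (Lf.tg t) htr' (by rw [← ht, ← ht']; exact hc) v
        exact h6
      exact no_two_odd E.form h3 h4 (hx.prime i) (hx.prime j) hi hij htr htr' hne hne'
        (Subtype.ext (LinearEquiv.ext h5))
    intro i j hi hj
    by_contra hne
    have hrr : r i ≠ r j := fun h5 => hne (hx.inj h5)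
    rcases Nat.lt_or_gt_of_ne hrr with h5 | h5
    · exact key' i j hi hj h5
    · exact key' j i hj hi h5
  obtain ⟨ω⟩ := (inferInstance : Nonempty Ω)
  obtain ⟨i, -⟩ := hcov ω
  have hno : Nonempty Ω := ⟨ω⟩
  obtain ⟨j, hji⟩ := Cov.two E.env hcov hx.ne i
  obtain ⟨i0, hi0⟩ : ∃ i, r i = 2 := by
    by_contra hno
    push Not at hno
    exact hji (key j i (hno j) (hno i))
  obtain ⟨j0, hj0⟩ := Cov.two E.env hcov hx.ne i0
  have hr0 : ∀ k, k ≠ i0 → r k ≠ 2 := fun k hk h5 => hk (hx.inj (by rw [h5, hi0]))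
  refine dead_two E h3 h4 (hx.ne i0) (by rw [← hi0]; exact hx.pow i0) (hx.prime j0) (hr0 j0 hj0) (hx.pow j0)
    (hx.ne j0) (hx.comm i0 j0) fun ω => ?_
  obtain ⟨k, hk⟩ := hcov ω
  by_cases hki : k = i0
  · left; rw [← hki]; exact hk
  · right
    rw [key j0 k (hr0 j0 hj0) (hr0 k hki)]
    exact hk

end env

end Cfsg.Agent.H711.RC
end

-- part: H544/RC/Four
section
/-!
# S3510, row D, box D7a: linear algebra of a commuting family of semisimple similitudes, `q` odd
-/

set_option autoImplicit false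
set_option linter.unusedSectionVars false

namespace Cfsg.Agent.H544.RC

open Module Cfsg.Agent.H520.RC

section basic
variable {F : Type*} {V : Type*} [Field F] [AddCommGroup V] [Module F V] {B : LinearMap.BilinForm F V}

/-- a linear semisimilitude as an endomorphism -/
def en {M : SS B} (h : M.IsLin) : Module.End F V := (h.lin : V →ₗ[F] V)

theorem en_apply {M : SS B} (h : M.IsLin) (v : V) : en h v = M v := rfl

/-- adjoint pairs -/
def Adj (B : LinearMap.BilinForm F V) (a b : Module.End F V) : Prop := ∀ u v, B (a u) v = B u (b v)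

theorem Adj.symm (h : NAlt B) {a b : Module.End F V} (hab : Adj B a b) : Adj B b a := fun u v => by
  rw [h.swap, ← hab, h.swap, neg_neg]

theorem Adj.unique (h : NAlt B) {a b b' : Module.End F V} (hab : Adj B a b) (hab' : Adj B a b') : b = b' := by
  ext v
  have h1 : ∀ u, B u (b v - b' v) = 0 := fun u => by rw [map_sub, ← hab, ← hab', sub_self]
  exact sub_eq_zero.1 (h.nd' _ h1)

theorem Adj.add {a b a' b' : Module.End F V} (hab : Adj B a b) (hab' : Adj B a' b') : Adj B (a + a') (b + b') :=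
  fun u v => by rw [LinearMap.add_apply, LinearMap.add_apply, map_add, LinearMap.add_apply, map_add, hab, hab']

theorem Adj.neg {a b : Module.End F V} (hab : Adj B a b) : Adj B (-a) (-b) :=
  fun u v => by rw [LinearMap.neg_apply, LinearMap.neg_apply, map_neg, LinearMap.neg_apply, map_neg, hab]

theorem Adj.sub {a b a' b' : Module.End F V} (hab : Adj B a b) (hab' : Adj B a' b') : Adj B (a - a') (b - b') := by
  rw [sub_eq_add_neg, sub_eq_add_neg]
  exact hab.add hab'.neg

theorem Adj.mul {a b a' b' : Module.End F V} (hab : Adj B a b) (hab' : Adj B a' b') : Adj B (a * a') (b' * b) :=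
  fun u v => by rw [Module.End.mul_apply, hab, hab', Module.End.mul_apply]

theorem Adj.alg (r : F) : Adj B (algebraMap F (Module.End F V) r) (algebraMap F (Module.End F V) r) :=
  fun u v => by
    rw [Module.algebraMap_end_apply, Module.algebraMap_end_apply, map_smul, map_smul, LinearMap.smul_apply]

theorem Adj.smul (r : F) {a b : Module.End F V} (hab : Adj B a b) : Adj B (r • a) (r • b) :=
  fun u v => by
    rw [LinearMap.smul_apply, LinearMap.smul_apply, map_smul, map_smul, LinearMap.smul_apply, hab]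

end basic

section main
variable {F : Type*} {V : Type*} [Field F] [Finite F] [AddCommGroup V] [Module F V] {B : LinearMap.BilinForm F V}
  {κ : Type*} [Finite κ]

/-- a common exponent prime to `q` -/
theorem exists_exp (hV : Nontrivial V) (X : κ → SS B) (hl : ∀ k, (X k).IsLin) {n : κ → ℕ} (hn : ∀ k, 0 < n k)
    (hco : ∀ k, (n k).Coprime (Nat.card F)) (hX : ∀ k, ∃ a : F, ∀ v, (X k)^[n k] v = a • v) :
    ∃ m : ℕ, 0 < m ∧ m.Coprime (Nat.card F) ∧ ∀ k, en (hl k) ^ m = 1 := by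
  classical
  have _ : Fintype κ := Fintype.ofFinite κ
  have _ : Fintype F := Fintype.ofFinite F
  have hq : 1 < Nat.card F := Finite.one_lt_card
  refine ⟨∏ k, n k * (Nat.card F - 1), Finset.prod_pos fun k _ => Nat.mul_pos (hn k) (by omega),
    Nat.Coprime.prod_left fun k _ => Nat.Coprime.mul_left (hco k) ?_, fun k => ?_⟩
  · have h1 : Nat.card F = (Nat.card F - 1) + 1 := by omega
    rw [Nat.coprime_comm]
    conv_lhs => rw [h1]
    exact (Nat.coprime_self_add_left).2 (Nat.coprime_one_left _) |>.symm.symm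
  · obtain ⟨a, ha⟩ := hX k
    have h1 : en (hl k) ^ n k = algebraMap F _ a := by
      ext v
      rw [Module.End.pow_apply, Module.algebraMap_end_apply]
      exact ha v
    have ha0 : a ≠ 0 := by
      rintro rfl
      obtain ⟨w, hw⟩ := exists_ne (0 : V)
      apply hw
      have h3 : Function.Injective (X k)^[n k] := (X k).injective.iterate (n k)
      apply h3
      rw [ha, ha, zero_smul, zero_smul]
    have h2 : en (hl k) ^ (n k * (Nat.card F - 1)) = 1 := by
      rw [pow_mul, h1, ← map_pow, Nat.card_eq_fintype_card, FiniteField.pow_card_sub_one_eq_one a ha0, map_one]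
    obtain ⟨c, hc⟩ := Finset.dvd_prod_of_mem (fun k => n k * (Nat.card F - 1)) (Finset.mem_univ k)
    rw [hc, pow_mul, h2, one_pow]


variable [FiniteDimensional F V]

/-- the commutative algebra generated by the family -/
def AA (X : κ → SS B) (hl : ∀ k, (X k).IsLin) : Subalgebra F (Module.End F V) :=
  Algebra.adjoin F (Set.range fun k => en (hl k))

theorem AA_comm {X : κ → SS B} {hl : ∀ k, (X k).IsLin} {b : Module.End F V} (hb : ∀ k, b * en (hl k) = en (hl k) * b)
    {a : Module.End F V} (ha : a ∈ AA X hl) : b * a = a * b := by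
  refine Algebra.adjoin_induction (p := fun a _ => b * a = a * b) ?_ ?_ ?_ ?_ ha
  · rintro _ ⟨k, rfl⟩
    exact hb k
  · intro r
    exact (Algebra.commutes r b).symm
  · intro x y _ _ hx hy
    rw [mul_add, add_mul, hx, hy]
  · intro x y _ _ hx hy
    rw [← mul_assoc, hx, mul_assoc, hy, mul_assoc]

theorem AA_adj {X : κ → SS B} {hl : ∀ k, (X k).IsLin} {m : ℕ} (hm : 0 < m)
    (hXm : ∀ k, en (hl k) ^ m = 1)
    {a : Module.End F V} (ha : a ∈ AA X hl) : ∃ b ∈ AA X hl, Adj B a b := by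
  refine Algebra.adjoin_induction (p := fun a _ => ∃ b ∈ AA X hl, Adj B a b) ?_ ?_ ?_ ?_ ha
  · rintro _ ⟨k, rfl⟩
    have h0 : en (hl k) ∈ AA X hl := Algebra.subset_adjoin (Set.mem_range_self k)
    refine ⟨(X k).l • en (hl k) ^ (m - 1), Subalgebra.smul_mem _ (Subalgebra.pow_mem _ h0 _) _, fun u v => ?_⟩
    have h1 : v = en (hl k) ((en (hl k) ^ (m - 1)) v) := by
      rw [← Module.End.mul_apply, mul_pow_sub_one hm.ne', hXm, Module.End.one_apply]
    conv_lhs => rw [h1]
    rw [en_apply, en_apply, (hl k).form, LinearMap.smul_apply, map_smul, smul_eq_mul]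
  · intro r
    exact ⟨_, Subalgebra.algebraMap_mem _ r, Adj.alg r⟩
  · rintro x y _ _ ⟨x', hx', hx⟩ ⟨y', hy', hy⟩
    exact ⟨_, Subalgebra.add_mem _ hx' hy', hx.add hy⟩
  · rintro x y _ _ ⟨x', hx', hx⟩ ⟨y', hy', hy⟩
    exact ⟨_, Subalgebra.mul_mem _ hy' hx', hx.mul hy⟩

theorem AA_pow (hV : Nontrivial V) {X : κ → SS B} {hl : ∀ k, (X k).IsLin}
    (hcm : ∀ k l, en (hl k) * en (hl l) = en (hl l) * en (hl k)) {m : ℕ} (hm : 0 < m)
    (hco : m.Coprime (Nat.card F)) (hXm : ∀ k, en (hl k) ^ m = 1) :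
    ∃ Q : ℕ, 2 ≤ Q ∧ ∀ a ∈ AA X hl, a ^ Q = a := by
  classical
  have _ : Fintype F := Fintype.ofFinite F
  obtain ⟨p, hp⟩ := CharP.exists F
  obtain ⟨n, hpp, hpn⟩ := FiniteField.card F p
  have _ : Fact p.Prime := ⟨hpp⟩
  have hq : 1 < Nat.card F := Finite.one_lt_card
  have hch : CharP (Module.End F V) p := by
    exact charP_of_injective_algebraMap (algebraMap F (Module.End F V)).injective p
  have hQ : (Nat.card F) ^ Nat.totient m ≡ 1 [MOD m] := Nat.ModEq.pow_totient hco.symm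
  have hQ2 : 2 ≤ (Nat.card F) ^ Nat.totient m :=
    le_trans hq (Nat.le_self_pow (Nat.totient_pos.2 hm).ne' _)
  have hQp : (Nat.card F) ^ Nat.totient m = p ^ ((n : ℕ) * Nat.totient m) := by
    rw [Nat.card_eq_fintype_card, hpn, pow_mul]
  refine ⟨(Nat.card F) ^ Nat.totient m, hQ2, fun a ha => ?_⟩
  refine Algebra.adjoin_induction (p := fun a _ => a ^ ((Nat.card F) ^ Nat.totient m) = a) ?_ ?_ ?_ ?_ ha
  · rintro _ ⟨k, rfl⟩
    obtain ⟨t, ht⟩ := (Nat.modEq_iff_dvd' (by omega)).1 hQ.symm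
    have h1 : (Nat.card F) ^ Nat.totient m = m * t + 1 := by omega
    rw [h1, pow_succ, pow_mul, hXm, one_pow, one_mul]
  · intro r
    rw [← map_pow, Nat.card_eq_fintype_card, FiniteField.pow_card_pow]
  · intro x y hx' hy' hx hy
    have hc : Commute x y := AA_comm (fun k => (AA_comm (fun l => hcm k l) hx').symm) hy'
    rw [hQp] at hx hy ⊢
    rw [add_pow_char_pow_of_commute p _ hc, hx, hy]
  · intro x y hx' hy' hx hy
    have hc : Commute x y := AA_comm (fun k => (AA_comm (fun l => hcm k l) hx').symm) hy'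
    rw [hc.mul_pow, hx, hy]

theorem Adj.pow {a b : Module.End F V} (hab : Adj B a b) (n : ℕ) : Adj B (a ^ n) (b ^ n) := by
  induction n with
  | zero => rw [pow_zero, pow_zero]; exact fun u v => rfl
  | succ n ih => rw [pow_succ, pow_succ']; exact ih.mul hab

theorem Adj.aeval {θ : Module.End F V} (hθ : Adj B θ θ) (P : Polynomial F) :
    Adj B (Polynomial.aeval θ P) (Polynomial.aeval θ P) := by
  induction P using Polynomial.induction_on' with
  | add P R hP hR => rw [map_add]; exact hP.add hR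
  | monomial n r =>
    rw [Polynomial.aeval_monomial, ← Algebra.smul_def]
    exact (hθ.pow n).smul r


/-- (i) orthogonal decomposition, (ii) a field of self-adjoint operators, (iii) Lagrangian pair with scalars,
(iv) a quadratic extension with `θ* = -θ` -/
theorem four_cases {F : Type} {V : Type} [Field F] [Finite F] [AddCommGroup V] [Module F V] [FiniteDimensional F V]
    {B : LinearMap.BilinForm F V}
    (h : NAlt B) (h2 : (2 : F) ≠ 0) {κ : Type} [Finite κ] (X : κ → SS B) (hl : ∀ k, (X k).IsLin)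
    (hcm : ∀ k l v, X k (X l v) = X l (X k v)) {n : κ → ℕ} (hn : ∀ k, 0 < n k) (hco : ∀ k, (n k).Coprime (Nat.card F))
    (hX : ∀ k, ∃ a : F, ∀ v, (X k)^[n k] v = a • v) (hne : ∃ k, ¬ (X k).IsScal) :
    (∃ A : Submodule F V, A ≠ ⊥ ∧ A ≠ ⊤ ∧ (∀ a ∈ A, (∀ b ∈ A, B a b = 0) → a = 0) ∧
      ∀ Y : V →ₗ[F] V, (∀ k v, Y (X k v) = X k (Y v)) → ∀ v ∈ A, Y v ∈ A) ∨
    (∃ θ : Module.End F V, (∀ u v, B (θ u) v = B u (θ v)) ∧ Irreducible (minpoly F θ) ∧
      (∀ a : F, θ ≠ algebraMap F _ a) ∧ ∀ Y : V →ₗ[F] V, (∀ k v, Y (X k v) = X k (Y v)) → ∀ v, Y (θ v) = θ (Y v)) ∨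
    (∃ W W' : Submodule F V, IsCompl W W' ∧ (∀ u ∈ W, ∀ v ∈ W, B u v = 0) ∧ (∀ u ∈ W', ∀ v ∈ W', B u v = 0) ∧
      (∀ k, (X k).ScalOn W) ∧ (∀ k, (X k).ScalOn W') ∧
      ∀ Y : V →ₗ[F] V, (∀ k v, Y (X k v) = X k (Y v)) → (∀ v ∈ W, Y v ∈ W) ∧ ∀ v ∈ W', Y v ∈ W') ∨
    (∃ (θ : Module.End F V) (δ : F), ¬ IsSquare δ ∧ (∀ v, θ (θ v) = δ • v) ∧ (∀ u v, B (θ u) v = - B u (θ v)) ∧
      (∀ k, ∃ a b : F, ∀ v, X k v = a • v + b • θ v) ∧
      ∀ Y : V →ₗ[F] V, (∀ k v, Y (X k v) = X k (Y v)) → ∀ v, Y (θ v) = θ (Y v)) := by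
  classical
  obtain ⟨k0, hk0⟩ := hne
  have hV : Nontrivial V := by
    by_contra hV
    rw [not_nontrivial_iff_subsingleton] at hV
    exact hk0 ⟨1, one_ne_zero, fun v => Subsingleton.elim _ _⟩
  obtain ⟨m, hm, hmc, hXm⟩ := exists_exp hV X hl hn hco hX
  have hce : ∀ k l, en (hl k) * en (hl l) = en (hl l) * en (hl k) := fun k l => by
    ext v
    exact hcm k l v
  obtain ⟨Q, hQ2, hQ⟩ := AA_pow hV hce hm hmc hXm
  have hcA : ∀ a ∈ AA X hl, ∀ b ∈ AA X hl, a * b = b * a := fun a ha b hb =>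
    AA_comm (fun k => (AA_comm (fun l => hce k l) ha).symm) hb
  have hgA : ∀ k, en (hl k) ∈ AA X hl := fun k => Algebra.subset_adjoin (Set.mem_range_self k)
  -- commuting maps
  have hY : ∀ Y : V →ₗ[F] V, (∀ k v, Y (X k v) = X k (Y v)) → ∀ a ∈ AA X hl, ∀ v, Y (a v) = a (Y v) := by
    intro Y hY a ha v
    have h1 : ∀ k, (Y : Module.End F V) * en (hl k) = en (hl k) * Y := fun k => by
      ext v
      exact hY k v
    exact LinearMap.congr_fun (AA_comm h1 ha) v
  by_cases h1 : ∃ a ∈ AA X hl, Adj B a a ∧ a ≠ 0 ∧ a ^ (Q - 1) ≠ 1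
  · left
    obtain ⟨a, ha, haa, ha0, ha1⟩ := h1
    have hea : a ^ (Q - 1) * a = a := by rw [pow_sub_one_mul (by omega), hQ a ha]
    have he0 : a ^ (Q - 1) ≠ 0 := fun h0 => ha0 (by rw [← hea, h0, zero_mul])
    have hee : a ^ (Q - 1) * a ^ (Q - 1) = a ^ (Q - 1) := by
      conv_lhs => rw [← pow_add, show Q - 1 + (Q - 1) = (Q - 2) + Q by omega, pow_add, hQ a ha, ← pow_succ,
        show Q - 2 + 1 = Q - 1 by omega]
    have heA : a ^ (Q - 1) ∈ AA X hl := Subalgebra.pow_mem _ ha _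
    have hes : Adj B (a ^ (Q - 1)) (a ^ (Q - 1)) := haa.pow _
    generalize a ^ (Q - 1) = e at hee heA hes he0 ha1
    refine ⟨LinearMap.range e, fun h0 => he0 (LinearMap.range_eq_bot.1 h0), fun h0 => ha1 ?_, ?_, ?_⟩
    · ext v
      obtain ⟨w, hw⟩ := (LinearMap.range_eq_top.1 h0) v
      rw [← hw, ← Module.End.mul_apply, hee, Module.End.one_apply]
    · rintro _ ⟨x, rfl⟩ hx
      refine h.nd _ fun y => ?_
      have h3 := hx (e y) ⟨y, rfl⟩
      rw [← hes, ← Module.End.mul_apply, hee] at h3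
      exact h3
    · rintro Y hYX _ ⟨x, rfl⟩
      exact ⟨Y x, (hY Y hYX e heA x).symm⟩
  · push Not at h1
    by_cases h3 : ∃ θ ∈ AA X hl, Adj B θ θ ∧ ∀ a : F, θ ≠ algebraMap F _ a
    · right; left
      obtain ⟨θ, hθ, hθs, hθ1⟩ := h3
      refine ⟨θ, hθs, ?_, hθ1, fun Y hYX => hY Y hYX θ hθ⟩
      have hint : IsIntegral F θ := Algebra.IsIntegral.isIntegral θ
      have hdom : ∀ P R : Polynomial F, minpoly F θ = P * R → Polynomial.aeval θ P ≠ 0 → IsUnit P := by
        intro P R hPR hP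
        have hPA : Polynomial.aeval θ P ∈ AA X hl :=
          (Algebra.adjoin_le (Set.singleton_subset_iff.2 hθ)) (Polynomial.aeval_mem_adjoin_singleton F θ)
        have h4 := h1 _ hPA (Adj.aeval hθs P) hP
        have h5 : Polynomial.aeval θ P * Polynomial.aeval θ R = 0 := by
          rw [← map_mul, ← hPR, minpoly.aeval]
        have h6 : Polynomial.aeval θ R = 0 := by
          calc Polynomial.aeval θ R = Polynomial.aeval θ P ^ (Q - 1) * Polynomial.aeval θ R := by rw [h4, one_mul]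
            _ = Polynomial.aeval θ P ^ (Q - 2) * (Polynomial.aeval θ P * Polynomial.aeval θ R) := by
              rw [← mul_assoc, ← pow_succ, show Q - 2 + 1 = Q - 1 by omega]
            _ = 0 := by rw [h5, mul_zero]
        obtain ⟨C, hC⟩ := minpoly.dvd F θ h6
        have hR0 : R ≠ 0 := by
          rintro rfl
          rw [mul_zero] at hPR
          exact minpoly.ne_zero hint hPR
        have h7 : R * 1 = R * (P * C) := by
          calc R * 1 = minpoly F θ * C := by rw [mul_one, ← hC]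
            _ = R * (P * C) := by rw [hPR]; ring
        exact IsUnit.of_mul_eq_one C (mul_left_cancel₀ hR0 h7).symm
      refine ⟨minpoly.not_isUnit F θ, fun P R hPR => ?_⟩
      by_cases hP : Polynomial.aeval θ P = 0
      · right
        refine hdom R P (by rw [hPR, mul_comm]) fun hR => ?_
        -- both vanish: `minpoly` divides both, degree contradiction
        obtain ⟨C, hC⟩ := minpoly.dvd F θ hP
        obtain ⟨D, hD⟩ := minpoly.dvd F θ hR
        have h0 : minpoly F θ ≠ 0 := minpoly.ne_zero hint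
        have h7 : minpoly F θ * 1 = minpoly F θ * (minpoly F θ * (C * D)) := by
          conv_lhs => rw [mul_one, hPR, hC, hD]
          ring
        exact minpoly.not_isUnit F θ (IsUnit.of_mul_eq_one _ (mul_left_cancel₀ h0 h7).symm)
      · exact Or.inl (hdom P R hPR hP)
    · right; right
      push Not at h3
      -- all self-adjoint elements are scalars
      obtain ⟨a', ha'A, ha'⟩ := AA_adj hm hXm (hgA k0)
      have hs0 : Adj B (en (hl k0) - a') (-(en (hl k0) - a')) := by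
        rw [neg_sub]
        exact ha'.sub (ha'.symm h)
      have hθA : en (hl k0) - a' ∈ AA X hl := Subalgebra.sub_mem _ (hgA k0) ha'A
      have hθ0 : en (hl k0) - a' ≠ 0 := by
        intro h0
        have h4 : en (hl k0) = a' := sub_eq_zero.1 h0
        have h5 : Adj B (en (hl k0)) (en (hl k0)) := by
          conv_rhs => rw [h4]
          exact ha'
        obtain ⟨r, hr⟩ := h3 _ (hgA k0) h5
        have hr' : ∀ v, X k0 v = r • v := fun v => by
          rw [← en_apply (hl k0), hr, Module.algebraMap_end_apply]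
        refine hk0 ⟨r, ?_, hr'⟩
        rintro rfl
        obtain ⟨w, hw⟩ := exists_ne (0 : V)
        exact hw ((X k0).injective (by rw [hr', hr', zero_smul, zero_smul]))
      generalize en (hl k0) - a' = θ at hs0 hθA hθ0
      have hsq : Adj B (θ * θ) (θ * θ) := by
        have := hs0.mul hs0
        rwa [neg_mul_neg] at this
      obtain ⟨δ, hδ⟩ := h3 _ (Subalgebra.mul_mem _ hθA hθA) hsq
      have hδ0 : δ ≠ 0 := by
        rintro rfl
        apply hθ0
        rw [← hQ θ hθA, show Q = (Q - 2) + 2 by omega, pow_add, pow_two, hδ, map_zero, mul_zero]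
      have hδv : ∀ v, θ (θ v) = δ • v := fun v => by
        rw [← Module.End.mul_apply, hδ, Module.algebraMap_end_apply]
      have hθs : ∀ u v, B (θ u) v = - B u (θ v) := fun u v => by
        rw [hs0, LinearMap.neg_apply, map_neg]
      -- every element is `r + s θ`
      have hrs : ∀ b ∈ AA X hl, ∃ r s : F, ∀ v, b v = r • v + s • θ v := by
        intro b hb
        obtain ⟨b', hb', hbb⟩ := AA_adj hm hXm hb
        obtain ⟨r, hr⟩ := h3 (b + b') (Subalgebra.add_mem _ hb hb') (by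
          have := hbb.add (hbb.symm h)
          rwa [add_comm b' b] at this)
        have hc : Adj B (b - b') (-(b - b')) := by
          rw [neg_sub]
          exact hbb.sub (hbb.symm h)
        obtain ⟨s, hs⟩ := h3 ((b - b') * θ) (Subalgebra.mul_mem _ (Subalgebra.sub_mem _ hb hb') hθA) (by
          have := hc.mul hs0
          rwa [neg_mul_neg, hcA θ hθA _ (Subalgebra.sub_mem _ hb hb')] at this)
        have hs' : ∀ v, (b - b') v = (s * δ⁻¹) • θ v := fun v => by
          have h6 := LinearMap.congr_fun hs (θ v)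
          rw [Module.End.mul_apply, hδv, Module.algebraMap_end_apply, map_smul] at h6
          rw [mul_comm, mul_smul, ← h6, smul_smul, inv_mul_cancel₀ hδ0, one_smul]
        refine ⟨2⁻¹ * r, 2⁻¹ * (s * δ⁻¹), fun v => ?_⟩
        have h7 := LinearMap.congr_fun hr v
        rw [Module.algebraMap_end_apply] at h7
        rw [mul_smul, mul_smul, ← h7, ← hs', ← smul_add, LinearMap.add_apply, LinearMap.sub_apply,
          add_add_sub_cancel, ← two_smul F, smul_smul, inv_mul_cancel₀ h2, one_smul]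
      have hYθ : ∀ Y : V →ₗ[F] V, (∀ k v, Y (X k v) = X k (Y v)) → ∀ v, Y (θ v) = θ (Y v) :=
        fun Y hYX => hY Y hYX θ hθA
      by_cases hsqr : IsSquare δ
      · left
        obtain ⟨c, hc⟩ := hsqr
        have hc0 : c ≠ 0 := by
          rintro rfl
          exact hδ0 (by rw [hc, mul_zero])
        have h2c : (2 * c) ≠ 0 := mul_ne_zero h2 hc0
        have key : ∀ (d : F), d * d = δ → d ≠ 0 → ∀ (W : Submodule F V), (∀ v, v ∈ W ↔ θ v = d • v) →
            (∀ u ∈ W, ∀ v ∈ W, B u v = 0) ∧ (∀ k, (X k).ScalOn W) ∧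
            ∀ Y : V →ₗ[F] V, (∀ k v, Y (X k v) = X k (Y v)) → ∀ v ∈ W, Y v ∈ W := by
          intro d hd hd0 W hW
          refine ⟨fun u hu v hv => ?_, fun k => ?_, fun Y hYX v hv => ?_⟩
          · have h6 := hθs u v
            rw [(hW u).1 hu, (hW v).1 hv, map_smul, map_smul, LinearMap.smul_apply, smul_eq_mul] at h6
            have h7 : (2 * d) * B u v = 0 := by linear_combination h6
            exact (mul_eq_zero.1 h7).resolve_left (mul_ne_zero h2 hd0)
          · obtain ⟨r, s, hrs⟩ := hrs _ (hgA k)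
            have h8 : ∀ v ∈ W, X k v = (r + s * d) • v := fun v hv => by
              rw [← en_apply (hl k), hrs, (hW v).1 hv, smul_smul, ← add_smul]
            by_cases hb : W = ⊥
            · refine ⟨1, one_ne_zero, fun v hv => ?_⟩
              rw [hb, Submodule.mem_bot] at hv
              rw [hv, SS.map_zero, smul_zero]
            · obtain ⟨w, hw, hw0⟩ := W.ne_bot_iff.1 hb
              refine ⟨r + s * d, fun h0 => hw0 ((X k).injective ?_), h8⟩
              rw [h8 w hw, h0, zero_smul, SS.map_zero]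
          · rw [hW] at hv ⊢
            rw [← hYθ Y hYX, hv, map_smul]
        have hW : ∀ v, v ∈ LinearMap.ker (θ - algebraMap F (Module.End F V) c) ↔ θ v = c • v := fun v => by
          rw [LinearMap.mem_ker, LinearMap.sub_apply, Module.algebraMap_end_apply, sub_eq_zero]
        have hW' : ∀ v, v ∈ LinearMap.ker (θ - algebraMap F (Module.End F V) (-c)) ↔ θ v = (-c) • v := fun v => by
          rw [LinearMap.mem_ker, LinearMap.sub_apply, Module.algebraMap_end_apply, sub_eq_zero]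
        obtain ⟨k1, k2, k3⟩ := key c hc.symm hc0 _ hW
        obtain ⟨k1', k2', k3'⟩ := key (-c) (by rw [neg_mul_neg, hc]) (neg_ne_zero.2 hc0) _ hW'
        refine ⟨_, _, ?_, k1, k1', k2, k2', fun Y hYX => ⟨k3 Y hYX, k3' Y hYX⟩⟩
        rw [isCompl_iff, Submodule.disjoint_def, codisjoint_iff, eq_top_iff]
        refine ⟨fun v hv hv' => ?_, fun v _ => ?_⟩
        · rw [hW] at hv
          rw [hW', hv] at hv'
          have h6 : (2 * c) • v = 0 := by
            rw [two_mul, add_smul]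
            nth_rewrite 1 [hv']
            rw [neg_smul, neg_add_cancel]
          exact (smul_eq_zero.1 h6).resolve_left h2c
        · rw [Submodule.mem_sup]
          refine ⟨(2 * c)⁻¹ • (θ v + c • v), ?_, (2 * c)⁻¹ • (c • v - θ v), ?_, ?_⟩
          · rw [hW, map_smul, map_add, hδv, map_smul, smul_comm c (2 * c)⁻¹, hc]
            congr 1
            rw [smul_add, smul_smul, add_comm]
          · rw [hW', map_smul, map_sub, hδv, map_smul, smul_comm (-c) (2 * c)⁻¹, hc]
            congr 1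
            rw [smul_sub, smul_smul, neg_smul, neg_mul, neg_smul, sub_neg_eq_add, sub_eq_add_neg, add_comm]
          · rw [← smul_add]
            have h9 : θ v + c • v + (c • v - θ v) = (2 * c) • v := by
              rw [two_mul, add_smul]
              abel
            rw [h9, smul_smul, inv_mul_cancel₀ h2c, one_smul]
      · right
        exact ⟨θ, δ, hsqr, hδv, hθs, fun k => hrs _ (hgA k), hYθ⟩


end main

section planes
variable {F : Type} {V : Type} [Field F] [AddCommGroup V] [Module F V] [FiniteDimensional F V]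
  {B : LinearMap.BilinForm F V}

end planes

end Cfsg.Agent.H544.RC
end

-- part: H67/RC/DeadDec
section
/-!
# S3510, row D, box D4: all lifts preserve a nondegenerate subspace (helper67)
-/

set_option autoImplicit false
open Cfsg

namespace Cfsg.Agent.H67.RC

open MulAction Module Cfsg.Agent.H106.RC Cfsg.Agent.H520.RC Cfsg.Agent.H727.GW

section nine

variable {F V : Type*} [Field F] [AddCommGroup V] [Module F V] {B : LinearMap.BilinForm F V}

theorem isLin_inv {M : SS B} (h : M.IsLin) : M⁻¹.IsLin := by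
  show M⁻¹.σ = 1
  rw [SS.inv_σ, show M.σ = 1 from h, inv_one]

/-- a semisimilitude acting trivially on the isometry group is a scalar -/
theorem scal_of_cj [FiniteDimensional F V] (hB : NAlt B) (hd : 2 ≤ finrank F V) (M : SS B)
    (h : ∀ t : Sp B, SS.cj M t = t) : ∃ c : F, ∀ v, M v = c • v := by
  have h2 : ∀ v, ∃ c : F, M.f.toAddMonoidHom v = c • v := by
    intro v
    by_cases hv : v = 0
    · subst hv
      exact ⟨0, by rw [map_zero, smul_zero]⟩
    have h3 := h (tv hB v 1)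
    rw [cj_tv, map_one, one_mul] at h3
    obtain ⟨y, hy⟩ := hB.exists_ne (x := M v) (fun h0 => hv (M.injective (h0.trans M.map_zero.symm)))
    have hy' : B y (M v) ≠ 0 := fun h0 => hy (hB.swap0 h0)
    have h4 := congrArg (fun t : Sp B => t.1 y) h3
    change (tv hB (M v) M.l⁻¹).1 y = (tv hB v 1).1 y at h4
    rw [tv_apply, tv_apply, add_right_inj, one_mul] at h4
    have h5 : M.l⁻¹ * B y (M v) ≠ 0 := mul_ne_zero (inv_ne_zero M.hl) hy'
    refine ⟨(M.l⁻¹ * B y (M v))⁻¹ * B y v, ?_⟩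
    show M v = _
    rw [mul_smul, ← h4, smul_smul, inv_mul_cancel₀ h5, one_smul]
  exact scal_of_lines hd _ h2

/-- linear algebra: in characteristic three and dimension two, `P ^ 6` scalar gives `P ^ 2` or `P ^ 3` scalar -/
theorem six_nine [Finite F] [FiniteDimensional F V] (h9 : Nat.card F = 9) (hd : finrank F V = 2)
    (P : Module.End F V) {c : F} (hc : P ^ 6 = c • (1 : Module.End F V)) :
    (∃ d : F, P ^ 2 = d • (1 : Module.End F V)) ∨ ∃ d : F, P ^ 3 = d • (1 : Module.End F V) := by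
  have : Fintype F := Fintype.ofFinite F
  have h3 : (3 : F) = 0 := by
    have h4 : ((Fintype.card F : ℕ) : F) = 0 := Nat.cast_card_eq_zero F
    rw [← Nat.card_eq_fintype_card, h9] at h4
    have h5 : (3 : F) * 3 = 0 := by
      have : ((9 : ℕ) : F) = 3 * 3 := by norm_num
      rw [← this, h4]
    exact (mul_eq_zero.1 h5).elim id id
  have h3' : (3 : Module.End F V) = 0 := by
    have h4 : (3 : Module.End F V) = algebraMap F (Module.End F V) 3 := by rw [map_ofNat]
    rw [h4, h3, map_zero]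
  have hcc : (c ^ 3) ^ 3 = c := by
    have h4 := FiniteField.pow_card c
    rw [← Nat.card_eq_fintype_card, h9] at h4
    rw [← pow_mul]
    exact h4
  set! N : Module.End F V := P ^ 2 - (c ^ 3) • 1 with hN
  have hcomm : Commute (P ^ 2) ((c ^ 3) • (1 : Module.End F V)) := (Commute.one_right _).smul_right _
  have hN3 : N ^ 3 = 0 := by
    have h4 : N ^ 3 = (P ^ 2) ^ 3 - ((c ^ 3) • (1 : Module.End F V)) ^ 3 -
        3 * (P ^ 2 * ((c ^ 3) • 1) * (P ^ 2 - (c ^ 3) • 1)) := by
      have h5 := hcomm.eq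
      rw [hN]
      generalize (c ^ 3) • (1 : Module.End F V) = Z at *
      generalize P ^ 2 = Q at *
      have e1 : Z * Q * Z = Q * (Z * Z) := by rw [← h5, mul_assoc]
      have e2 : Z * Z * Q = Q * (Z * Z) := by rw [mul_assoc, ← h5, ← mul_assoc, ← h5, mul_assoc]
      have e3 : Q * Z * Q = Q * Q * Z := by rw [mul_assoc, ← h5, ← mul_assoc]
      have e4 : Z * Q * Q = Q * Q * Z := by rw [← h5, e3]
      simp only [pow_succ, pow_zero, one_mul, mul_sub, sub_mul]
      rw [e1, e2, e3, e4]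
      have e5 : (3 : Module.End F V) = 1 + 1 + 1 := by norm_num
      rw [e5]
      simp only [add_mul, one_mul, mul_assoc]
      abel
    rw [h4, h3', zero_mul, sub_zero, ← pow_mul, hc, smul_pow, one_pow, hcc, sub_self]
  have hN2 : N ^ 2 = 0 := by
    have h4 : IsNilpotent N := ⟨3, hN3⟩
    have h5 := (LinearMap.isNilpotent_iff_charpoly N).1 h4
    have h6 := LinearMap.aeval_self_charpoly N
    rw [h5, hd, map_pow, Polynomial.aeval_X] at h6
    exact h6
  by_cases hN0 : N = 0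
  · exact Or.inl ⟨c ^ 3, sub_eq_zero.1 hN0⟩
  right
  obtain ⟨v, hv⟩ : ∃ v, N v ≠ 0 := by
    by_contra hno
    push Not at hno
    exact hN0 (LinearMap.ext hno)
  have hNN : ∀ w, N (N w) = 0 := fun w => by
    have h4 := congrArg (fun f : Module.End F V => f w) hN2
    simpa only [pow_two, _root_.Module.End.mul_apply, _root_.LinearMap.zero_apply] using h4
  have hPN : ∀ w, P (N w) = N (P w) := by
    intro w
    simp only [hN, LinearMap.sub_apply, LinearMap.smul_apply, Module.End.one_apply, map_sub, map_smul]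
    rfl
  have hli : LinearIndependent F ![v, N v] := by
    rw [LinearIndependent.pair_iff]
    intro s t hst
    have h4 := congrArg N hst
    rw [map_add, map_smul, map_smul, hNN, smul_zero, add_zero, map_zero] at h4
    have hs : s = 0 := (smul_eq_zero.1 h4).resolve_right hv
    subst hs
    rw [zero_smul, zero_add] at hst
    exact ⟨rfl, (smul_eq_zero.1 hst).resolve_right hv⟩
  have hspan : ∀ w, ∃ s t : F, w = s • v + t • N v := by
    intro w
    have h4 : Submodule.span F (Set.range ![v, N v]) = ⊤ :=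
      hli.span_eq_top_of_card_eq_finrank' (by rw [Fintype.card_fin, hd])
    have h5 : w ∈ Submodule.span F (Set.range ![v, N v]) := by rw [h4]; trivial
    rw [Matrix.range_cons, Matrix.range_cons, Matrix.range_empty, Set.union_empty, Set.singleton_union,
      Submodule.mem_span_pair] at h5
    obtain ⟨s, t, h⟩ := h5
    exact ⟨s, t, h.symm⟩
  obtain ⟨a, b, hab⟩ := hspan (P v)
  have hPNv : P (N v) = a • N v := by
    rw [hPN, hab, map_add, map_smul, map_smul, hNN, smul_zero, add_zero]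
  refine ⟨a ^ 3, ?_⟩
  have h30 : ∀ w : V, (3 : F) • w = 0 := fun w => by rw [h3, zero_smul]
  have e1 : P (P v) = (a ^ 2) • v + (2 * a * b) • N v := by
    rw [hab, map_add, map_smul, map_smul, hab, hPNv]
    module
  have e2 : P (P (P v)) = (a ^ 3) • v := by
    rw [e1, map_add, map_smul, map_smul, hab, hPNv]
    have h4 := h30 ((a ^ 2 * b) • N v)
    rw [smul_smul] at h4
    have h5 : a ^ 2 • (a • v + b • N v) + (2 * a * b) • a • N v = (a ^ 3) • v + (3 * (a ^ 2 * b)) • N v := by module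
    rw [h5, h4, add_zero]
  have e3 : P (P (P (N v))) = (a ^ 3) • N v := by
    rw [hPNv, map_smul, hPNv, map_smul, map_smul, hPNv]
    module
  apply LinearMap.ext
  intro w
  obtain ⟨s, t, rfl⟩ := hspan w
  have e4 : ∀ w, (P ^ 3) w = P (P (P w)) := fun w => by
    rw [pow_succ, pow_succ, pow_one]; rfl
  rw [e4, map_add, map_add, map_add, map_smul, map_smul, map_smul, map_smul, map_smul, map_smul, e2, e3,
    LinearMap.smul_apply, Module.End.one_apply]
  module

end nine

section mrule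

variable {F V : Type*} [Field F] [AddCommGroup V] [Module F V] {B : LinearMap.BilinForm F V}

/-- the M-rule of helper520 for a general condition on the induced automorphisms -/
theorem mrule_gen {G : Type} [Group G] [Finite G] {Ω : Type} [MulAction G Ω] {N : Subgroup G} {ρ : ↥(Sp B) →* G}
    (E : SpEnv Ω N ρ) {X : Type} [Group X] [Finite X] (j : X →* Sp B)
    (hj : Function.Injective j) (hperf : commutator X = ⊤)
    (h1 : IsSimpleGroup (X ⧸ Subgroup.center X)) (h2 : ¬ IsMulCommutative (X ⧸ Subgroup.center X))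
    {ι : Type} [Finite ι] {x : ι → G} {r : ι → ℕ} {M : ι → SS B} (hl : ∀ i, Lf ρ (x i) (M i)) (hx : PF x r)
    (hcov : Cov Ω x) (hnorm : ∀ i (s : X), ∃ s', SS.cj (M i) (j s) = j s')
    (hg : ∀ g ∈ Subgroup.closure (Set.range x), ∀ α : MulAut (X ⧸ Subgroup.center X),
      (∀ s s' : X, ρ (j s') = g * ρ (j s) * g⁻¹ → α (QuotientGroup.mk s) = QuotientGroup.mk s') →
      RCe (X ⧸ Subgroup.center X) α) (ω : Ω) :
    (∀ s, ρ (j s) • ω = ω) ∨ ∃ i, (∀ s, x i * ρ (j s) = ρ (j s) * x i) ∧ x i • ω = ω := by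
  set! f : X →* G := ρ.comp j with hf
  have hker : ∀ s, f s = 1 → s ∈ Subgroup.center X := by
    intro s hs
    rw [Subgroup.mem_center_iff]
    intro t
    apply hj
    rw [map_mul, map_mul]
    exact scal_central ((E.ker _).1 hs) (j t)
  set! K : Subgroup G := f.range with hK
  have hKperf : ⁅K, K⁆ = K := by
    have h3 := Subgroup.map_commutator (⊤ : Subgroup X) ⊤ f
    rw [← commutator_def, hperf, ← MonoidHom.range_eq_map] at h3
    exact h3.symm
  have hlift : ∀ m : K, ∃ s, f s = m := fun m => m.2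
  let π : K →* X ⧸ Subgroup.center X :=
    { toFun := fun m => QuotientGroup.mk (hlift m).choose
      map_one' := by
        rw [QuotientGroup.eq_one_iff]
        exact hker _ (hlift 1).choose_spec
      map_mul' := fun m n => by
        rw [← QuotientGroup.mk_mul, QuotientGroup.eq]
        apply hker
        rw [map_mul, map_inv, map_mul, (hlift _).choose_spec, (hlift _).choose_spec, (hlift _).choose_spec]
        rw [Subgroup.coe_mul]
        group }
  have hπ : ∀ s, π ⟨f s, s, rfl⟩ = QuotientGroup.mk s := by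
    intro s
    show QuotientGroup.mk (hlift ⟨f s, s, rfl⟩).choose = _
    rw [QuotientGroup.eq]
    apply hker
    rw [map_mul, map_inv, (hlift _).choose_spec, inv_mul_cancel]
  have hπs : Function.Surjective π := by
    intro y
    obtain ⟨s, rfl⟩ := QuotientGroup.mk_surjective y
    exact ⟨_, hπ s⟩
  have hπk : π.ker ≤ Subgroup.center K := by
    rintro ⟨_, s, rfl⟩ hs
    rw [MonoidHom.mem_ker] at hs
    rw [hπ, QuotientGroup.eq_one_iff] at hs
    rw [Subgroup.mem_center_iff]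
    rintro ⟨_, t, rfl⟩
    apply Subtype.ext
    show f t * f s = f s * f t
    rw [← map_mul, ← map_mul, Subgroup.mem_center_iff.1 hs]
  have hnK : ∀ i, x i ∈ Subgroup.normalizer (K : Set G) := by
    intro i
    have h3 : ∀ m ∈ K, x i * m * (x i)⁻¹ ∈ K := by
      rintro _ ⟨s, rfl⟩
      obtain ⟨s', hs'⟩ := hnorm i s
      refine ⟨s', ?_⟩
      show ρ (j s') = x i * ρ (j s) * (x i)⁻¹
      rw [hl i, hs']
    rw [Subgroup.mem_normalizer_iff]
    intro m
    refine ⟨fun hm => h3 m hm, fun hm => ?_⟩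
    have h4 : ∀ n : ℕ, x i ^ n * (x i * m * (x i)⁻¹) * (x i ^ n)⁻¹ ∈ K := by
      intro n
      induction n with
      | zero => simpa only [_root_.pow_zero, _root_.one_mul, _root_.inv_one, _root_.mul_one] using hm
      | succ n ih =>
        have h5 := h3 _ ih
        have h6 : x i * (x i ^ n * (x i * m * (x i)⁻¹) * (x i ^ n)⁻¹) * (x i)⁻¹ =
            x i ^ (n + 1) * (x i * m * (x i)⁻¹) * (x i ^ (n + 1))⁻¹ := by
          rw [pow_succ']
          group
        rwa [h6] at h5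
    obtain ⟨n, hn⟩ : ∃ n, r i = n + 1 := ⟨r i - 1, by have := (hx.prime i).pos; omega⟩
    have h4 := h4 n
    have h5 : x i ^ n = (x i)⁻¹ := by
      rw [eq_inv_iff_mul_eq_one, ← pow_succ, ← hn]
      exact hx.pow i
    rw [h5] at h4
    have h6 : (x i)⁻¹ * (x i * m * (x i)⁻¹) * ((x i)⁻¹)⁻¹ = m := by group
    rwa [h6] at h4
  have h3 := mrule h1 h2 x r hx.prime hx.inj hx.pow hx.comm K hKperf π hπs hπk hnK
    (fun g hg1 α hα => hg g hg1 α fun s s' hs => by
      have h4 := hα ⟨f s, s, rfl⟩ ⟨f s', s', rfl⟩ hs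
      rwa [hπ, hπ] at h4) ω (fun m _ => hcov _)
  rcases h3 with h3 | ⟨i, h3, h4⟩
  · exact Or.inl fun s => h3 ⟨s, rfl⟩
  · exact Or.inr ⟨i, fun s => h3 _ ⟨s, rfl⟩, h4⟩

end mrule

section nine2

variable {F V : Type} [Field F] [Finite F] [AddCommGroup V] [Module F V] [FiniteDimensional F V]
  {B : LinearMap.BilinForm F V}

/-- `A_6` as `Sp_2(9)` -/
theorem equiv_nine (hB : NAlt B) (hd : finrank F V = 2) (h9 : Nat.card F = 9) :
    Nonempty ((Sp B ⧸ Subgroup.center (Sp B)) ≃* alternatingGroup (Fin 6)) := by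
  have : Fintype F := Fintype.ofFinite F
  obtain ⟨e⟩ := card_quot hB (m := 1) (by omega)
  obtain ⟨e'⟩ := Cfsg.Agent.S0254.result (F := F) (by rw [← Nat.card_eq_fintype_card, h9])
  exact ⟨(e.trans (pspOne F)).trans e'⟩

/-- the automorphisms of `Sp_2(9)` induced by linear similitudes -/
theorem rce_nine (hB : NAlt B) (hd : finrank F V = 2) (h9 : Nat.card F = 9)
    (hA6 : ∀ g : MulAut (alternatingGroup (Fin 6)), orderOf g ≠ 6 → RCe (alternatingGroup (Fin 6)) g)
    (D : SS B) (hD : D.IsLin) (α : MulAut (Sp B ⧸ Subgroup.center (Sp B)))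
    (hα : ∀ s : Sp B, α (QuotientGroup.mk s) = QuotientGroup.mk (SS.cj D s)) :
    RCe (Sp B ⧸ Subgroup.center (Sp B)) α := by
  obtain ⟨e⟩ := equiv_nine hB hd h9
  have hpow : ∀ (n : ℕ) (s : Sp B), (α ^ n) (QuotientGroup.mk s) = QuotientGroup.mk (SS.cj (D ^ n) s) := by
    intro n
    induction n with
    | zero => intro s; simp only [pow_zero, pow_zero, map_one]; rfl
    | succ n ih => intro s; simp_rw [pow_succ' α n, MulAut.mul_apply, ih s, hα, pow_succ' D n, map_mul SS.cj D (D ^ n)]; rfl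
  have hone : ∀ n : ℕ, (∃ d : F, ∀ v, (D ^ n) v = d • v) → α ^ n = 1 := by
    rintro n ⟨d, hd1⟩
    have hd0 : d ≠ 0 := by
      rintro rfl
      have : Nontrivial V := Module.nontrivial_of_finrank_pos (R := F) (by omega)
      obtain ⟨w, hw⟩ := exists_ne (0 : V)
      apply hw
      apply (D ^ n).injective
      rw [hd1 w, zero_smul, (D ^ n).map_zero]
    apply MulEquiv.ext
    intro y
    obtain ⟨s, rfl⟩ := QuotientGroup.mk_surjective y
    simp only [hpow, SS.cj_of_scal ⟨d, hd0, hd1⟩]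
    rfl
  have hne : orderOf α ≠ 6 := by
    intro h6
    have h61 : α ^ 6 = 1 := by rw [← h6]; exact pow_orderOf_eq_one α
    -- the sixth power centralises
    have hz : ∀ s : Sp B, SS.cj (D ^ 6) s * s⁻¹ ∈ Subgroup.center (Sp B) := by
      intro s
      have h1 := hpow 6 s
      rw [h61] at h1
      have h2 : (QuotientGroup.mk (SS.cj (D ^ 6) s) : Sp B ⧸ Subgroup.center (Sp B)) = QuotientGroup.mk s := h1.symm
      rw [← QuotientGroup.eq_one_iff, QuotientGroup.mk_mul, h2, ← QuotientGroup.mk_mul, mul_inv_cancel]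
      rfl
    let φ : Sp B →* Sp B :=
      { toFun := fun s => SS.cj (D ^ 6) s * s⁻¹
        map_one' := by simp only [_root_.map_pow, _root_.map_one, _root_.inv_one, _root_.mul_one]
        map_mul' := fun s t => by
          have h3 := Subgroup.mem_center_iff.1 (hz t) (SS.cj (D ^ 6) s)
          have h4 := Subgroup.mem_center_iff.1 (hz t) s⁻¹
          calc SS.cj (D ^ 6) (s * t) * (s * t)⁻¹
              = SS.cj (D ^ 6) s * ((SS.cj (D ^ 6) t * t⁻¹) * s⁻¹) := by
                rw [map_mul, mul_inv_rev]; group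
            _ = SS.cj (D ^ 6) s * s⁻¹ * (SS.cj (D ^ 6) t * t⁻¹) := by rw [← h4, mul_assoc] }
    have hperf := perfect_Sp hB (Or.inr (Or.inr (by rw [h9]; norm_num)))
    have h3 : commutator (Sp B) ≤ φ.ker := by
      rw [commutator_def, Subgroup.commutator_le]
      intro a _ b _
      rw [MonoidHom.mem_ker, map_commutatorElement, commutatorElement_eq_one_iff_mul_comm]
      exact Subgroup.mem_center_iff.1 (hz b) (φ a)
    have h4 : ∀ t : Sp B, SS.cj (D ^ 6) t = t := by
      intro t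
      have h5 : t ∈ commutator (Sp B) := by rw [hperf]; trivial
      exact mul_inv_eq_one.1 (h3 h5)
    obtain ⟨c, hc⟩ := scal_of_cj hB (by omega) _ h4
    have hDp : ∀ (n : ℕ) v, ((hD.lin : V →ₗ[F] V) ^ n : Module.End F V) v = (D ^ n) v := by
      intro n
      induction n with
      | zero => intro v; rw [pow_zero, pow_zero]; rfl
      | succ n ih =>
        intro v
        rw [pow_succ', pow_succ', SS.mul_apply, ← ih]
        rfl
    rcases six_nine h9 hd (hD.lin : V →ₗ[F] V) (c := c) (LinearMap.ext fun v => by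
      rw [hDp, hc]; rfl) with ⟨d, hd1⟩ | ⟨d, hd1⟩
    · have h5 := hone 2 ⟨d, fun v => by rw [← hDp, hd1]; rfl⟩
      have h7 := orderOf_dvd_of_pow_eq_one h5
      rw [h6] at h7
      omega
    · have h5 := hone 3 ⟨d, fun v => by rw [← hDp, hd1]; rfl⟩
      have h7 := orderOf_dvd_of_pow_eq_one h5
      rw [h6] at h7
      omega
  have h5 := (hA6 ((MulAut.congr e) α) (by
    rw [show orderOf ((MulAut.congr e) α) = orderOf α from MulEquiv.orderOf_eq _ _]
    exact hne)).congr e.symm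
  have h6 : (MulAut.congr e.symm) ((MulAut.congr e) α) = α := by
    apply MulEquiv.ext
    intro y
    simp [MulAut.congr]
  rwa [h6] at h5

end nine2

section main

variable {F : Type} {V : Type} [Field F] [Finite F] [AddCommGroup V] [Module F V] [FiniteDimensional F V]
  {B : LinearMap.BilinForm F V} {G : Type} [Group G] [Finite G] {Ω : Type} [Finite Ω] [Nonempty Ω] [MulAction G Ω]
  {N : Subgroup G} {ρ : ↥(Sp B) →* G} {ι : Type} [Finite ι] {x : ι → G} {r : ι → ℕ} {M : ι → SS B}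

/-- the embedding of the isometry group of a proper nondegenerate subspace is not surjective -/
theorem emb_not_surj (hB : NAlt B) {A : Submodule F V} (hA : NAlt (B.restrict A)) (hA1 : A ≠ ⊤) :
    ¬ Function.Surjective (emb hB hA) := by
  intro hs
  obtain ⟨v, hv⟩ : ∃ v, v ∉ A := by
    by_contra hno
    push Not at hno
    exact hA1 (eq_top_iff.2 fun v _ => hno v)
  obtain ⟨c, d, hd, rfl⟩ := exists_decomp hB.alt A (sub_nd hA) v
  have hd0 : d ≠ 0 := by
    rintro rfl
    apply hv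
    rw [add_zero]
    exact c.2
  obtain ⟨y, hy⟩ := hB.exists_ne hd0
  obtain ⟨c', d', hd', rfl⟩ := exists_decomp hB.alt A (sub_nd hA) y
  have h1 : B d (c' : V) = 0 := hB.swap0 (LinearMap.BilinForm.mem_orthogonal_iff.1 hd c' c'.2)
  rw [map_add, h1, zero_add] at hy
  obtain ⟨t, ht⟩ := hs (tv hB d 1)
  have h2 := congrArg (fun s : Sp B => s.1 d') ht
  change (emb hB hA t).1 d' = (tv hB d 1).1 d' at h2
  rw [emb_apply_orth hB hA _ hd', tv_apply, eq_comm, add_eq_left, smul_eq_zero, one_mul] at h2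
  rcases h2 with h2 | h2
  · exact hy (hB.swap0 h2)
  · exact hd0 h2

/-- **D4**: all lifts preserve a proper nondegenerate subspace `A`, no member of order `p` is a scalar on `A` -/
theorem dead_dec (E : SpEnv Ω N ρ) (hIH : IH (Nat.card N)) (h2 : (2 : F) ≠ 0) (hx : PF x r) (hcov : Cov Ω x)
    (hM : ∀ i, Lf ρ (x i) (M i)) (hl : ∀ i, (M i).IsLin) {A : Submodule F V} (hA0 : A ≠ ⊥) (hA1 : A ≠ ⊤)
    (hA : ∀ a ∈ A, (∀ b ∈ A, B a b = 0) → a = 0) (hi : ∀ i, ∀ v ∈ A, M i v ∈ A)
    (hu : ∀ i, ¬ (r i).Coprime (Nat.card F) → ¬ (M i).ScalOn A)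
    (hA6 : ∀ g : MulAut (alternatingGroup (Fin 6)), orderOf g ≠ 6 → RCe (alternatingGroup (Fin 6)) g)
    (hq : 4 ≤ finrank F A ∨ 5 < Nat.card F ∨
      (3 < Nat.card F ∧ ∀ i j, ¬ (M i).ScalOn A → ¬ (M j).ScalOn A → i = j)) : False := by
  have : Fintype F := Fintype.ofFinite F
  have : Finite V := Module.finite_of_finite F
  have hB := E.form
  have hA' : NAlt (B.restrict A) :=
    ⟨fun x => hB.alt x, fun x h => Subtype.ext (hA x x.2 fun b hb => h ⟨b, hb⟩)⟩
  have hA0' : finrank F A ≠ 0 := by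
    intro h
    exact hA0 (Submodule.finrank_eq_zero.1 h)
  obtain ⟨m, hm⟩ := exists_dim hA'
  have hcard3 : 3 ≤ Nat.card F := by
    have h3 : 1 < Nat.card F := Finite.one_lt_card
    rcases Nat.lt_or_ge 2 (Nat.card F) with h | h
    · exact h
    · exfalso
      apply h2
      have h4 : ((Fintype.card F : ℕ) : F) = 0 := Nat.cast_card_eq_zero F
      rw [← Nat.card_eq_fintype_card, show Nat.card F = 2 by omega] at h4
      exact_mod_cast h4
  have h6A : 6 ≤ finrank F A ∨ (finrank F A = 4 ∧ 3 ≤ Nat.card F) ∨ (finrank F A ≠ 0 ∧ 4 ≤ Nat.card F) := by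
    rcases hq with h | h | h
    · rcases Nat.lt_or_ge (finrank F A) 6 with h' | h'
      · right; left; exact ⟨by omega, hcard3⟩
      · left; exact h'
    · right; right; exact ⟨hA0', by omega⟩
    · right; right; exact ⟨hA0', by omega⟩
  have hperf : commutator (Sp (B.restrict A)) = ⊤ := perfect_Sp hA' (by
    rcases h6A with h | h | h
    · exact Or.inl h
    · exact Or.inr (Or.inl h)
    · exact Or.inr (Or.inr h.2))
  have hfE : Finite (A ≃ₗ[F] A) := by
    have : Finite A := Subtype.finite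
    exact Finite.of_injective (fun f : A ≃ₗ[F] A => (f : A → A)) DFunLike.coe_injective
  have hfS : Finite (Sp (B.restrict A)) := Subtype.finite
  have hs1 := simple_Sp hA' h6A
  have hs2 := ncomm_Sp hA' h6A
  have hperfB : commutator (Sp B) = ⊤ := perfect_Sp hB (by
    have := E.dim
    obtain ⟨k, hk⟩ := exists_dim hB
    rcases Nat.lt_or_ge (finrank F V) 6 with h' | h'
    · right; left; exact ⟨by omega, hcard3⟩
    · left; exact h')
  have hcent : ∀ i, (∀ s, x i * ρ (emb hB hA' s) = ρ (emb hB hA' s) * x i) ↔ (M i).ScalOn A := by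
    intro i
    rw [E.cent_iff (hM i) (emb hB hA') hperf]
    constructor
    · intro h
      have h3 : ∀ t : Sp (B.restrict A), SS.cj ((M i).res A (hi i)) t = t := by
        intro t
        apply SS.cj_eq
        intro v
        apply Subtype.ext
        rw [← emb_apply_mem hB hA', SS.res_apply, SS.res_apply, ← emb_apply_mem hB hA', h]
      obtain ⟨c, hc⟩ := scal_of_cj hA' (by omega) _ h3
      have hc' : ∀ v ∈ A, M i v = c • v := fun v hv => congrArg Subtype.val (hc ⟨v, hv⟩)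
      refine ⟨c, ?_, hc'⟩
      rintro rfl
      apply hA0
      rw [eq_bot_iff]
      intro v hv
      rw [Submodule.mem_bot]
      apply (M i).injective
      rw [hc' v hv, zero_smul, (M i).map_zero]
    · rintro ⟨c, hc0, hc⟩ s v
      obtain ⟨a, d, hd, rfl⟩ := exists_decomp hB.alt A (sub_nd hA') v
      rw [map_add, (M i).map_add, (M i).map_add, map_add, emb_apply_orth hB hA' _ hd,
        emb_apply_orth hB hA' _ ((M i).orth_mem A (hi i) hd), emb_apply_mem hB hA', hc _ (Subtype.mem _),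
        hc _ a.2, map_smul, emb_apply_mem hB hA']
  have hnorm : ∀ i (s : Sp (B.restrict A)), ∃ s', SS.cj (M i) (emb hB hA' s) = emb hB hA' s' :=
    fun i s => ⟨_, cj_emb hB hA' (M i) (hi i) s⟩
  have hmain : ∀ ω : Ω, (∀ s, ρ (emb hB hA' s) • ω = ω) ∨
      ∃ i, (∀ s, x i * ρ (emb hB hA' s) = ρ (emb hB hA' s) * x i) ∧ x i • ω = ω := by
    intro ω
    by_cases h9 : finrank F A = 2 ∧ Nat.card F = 9
    · refine mrule_gen E (emb hB hA') (emb_injective hB hA') hperf hs1 hs2 hM hx hcov hnorm ?_ ω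
      intro g hg α hα
      have hgL : ∃ L : SS B, Lf ρ g L ∧ L.IsLin ∧ ∀ v ∈ A, L v ∈ A := by
        refine Subgroup.closure_induction (p := fun g _ => ∃ L : SS B, Lf ρ g L ∧ L.IsLin ∧ ∀ v ∈ A, L v ∈ A)
          ?_ ?_ ?_ ?_ hg
        · rintro _ ⟨i, rfl⟩
          exact ⟨M i, hM i, hl i, hi i⟩
        · exact ⟨1, Lf.one, SS.isLin_one, fun v hv => hv⟩
        · rintro a b _ _ ⟨L, h3, h4, h5⟩ ⟨L', h3', h4', h5'⟩
          exact ⟨L * L', h3.mul h3', h4.mul h4', fun v hv => h5 _ (h5' v hv)⟩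
        · rintro a _ ⟨L, h3, h4, h5⟩
          refine ⟨L⁻¹, h3.inv, isLin_inv h4, fun v hv => L.mem_of_mem A h5 ?_⟩
          rw [SS.apply_inv_self]
          exact hv
      obtain ⟨L, hL1, hL2, hL3⟩ := hgL
      refine rce_nine hA' h9.1 h9.2 hA6 (L.res A hL3) hL2 α fun s => ?_
      apply hα
      rw [hL1, cj_emb hB hA' L hL3]
    · refine E.mrule hIH (emb hB hA') (emb_injective hB hA') (E.range_ne hperfB _ (emb_not_surj hB hA' hA1)) hperf
        hs1 hs2 hM hx hcov hnorm ?_ ω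
      rcases hq with h | h | h
      · left
        have h' : 6 ≤ finrank F A ∨ (finrank F A = 4 ∧ 3 ≤ Nat.card F) := by omega
        exact ⟨cl_Sp hA' h6A, not_exc_Sp hA' h'⟩
      · left
        refine ⟨cl_Sp hA' h6A, ?_⟩
        by_cases h4 : finrank F A = 2
        · exact not_exc_Sp2 hA' h4 (by omega) (by omega) (fun h' => h9 ⟨h4, h'⟩)
        · exact not_exc_Sp hA' (by (clear * - hm h6A h4; omega))
      · right
        by_cases hno : ∀ i, (M i).ScalOn A
        · obtain ⟨ω0⟩ := ‹Nonempty Ω›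
          obtain ⟨i0, -⟩ := hcov ω0
          exact ⟨i0, fun i _ => (hcent i).2 (hno i)⟩
        · push Not at hno
          obtain ⟨i0, h0⟩ := hno
          refine ⟨i0, fun i hne => (hcent i).2 ?_⟩
          by_contra h4
          exact hne (h.2 i i0 h4 h0)
  -- the end
  obtain ⟨e, heA, he0⟩ := Submodule.exists_mem_ne_zero_of_ne_bot hA0
  refine lr_tv (ι := {i : ι // (M i).ScalOn A}) (x := fun i => x i) (r := fun i => r i) (M := fun i => M i) E h2
    (fun i => hx.prime i) (fun i => hx.pow i) (fun i j => hx.comm i j) (fun i => hx.ne i) (fun i => hM i) he0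
    one_ne_zero (fun ω => ?_) (fun i => ?_) (fun i => ?_)
  · rcases hmain ω with h | ⟨i, h3, h4⟩
    · left
      have h5 := h (tv hA' ⟨e, heA⟩ 1)
      rwa [emb_tv] at h5
    · exact Or.inr ⟨⟨i, (hcent i).1 h3⟩, h4⟩
  · obtain ⟨c, -, hc⟩ := i.2
    exact ⟨c, hc e heA⟩
  · by_contra hno
    exact hu i hno i.2

end main

end Cfsg.Agent.H67.RC
end

-- part: H810/RC/DeadLin
section
/-!
# S3510, row D, box D7b: linear lifts, `q` odd (helper810)

`dead_lin_of` : everything but the boxes D4 (`dead_dec`, hypothesis `bDec`) and D6 (`dead_her`, hypothesis `bHer`).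
`dead_lin` : the box D7b.
-/

set_option autoImplicit false
open Cfsg

namespace Cfsg.Agent.H810.RC

open MulAction Module Cfsg.Agent.H106.RC Cfsg.Agent.H520.RC Cfsg.Agent.H727.GW

variable {F : Type} {V : Type} [Field F] [Finite F] [AddCommGroup V] [Module F V] [FiniteDimensional F V]
  {B : LinearMap.BilinForm F V} {G : Type} [Group G] [Finite G] {Ω : Type} [Finite Ω] [Nonempty Ω] [MulAction G Ω]
  {N : Subgroup G} {ρ : ↥(Sp B) →* G} {ι : Type} [Finite ι] {x : ι → G} {r : ι → ℕ} {M : ι → SS B}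

/-- **D7b**: linear lifts, `q` odd -/
theorem dead_lin_of (E : SpEnv Ω N ρ) (hIH : IH (Nat.card N)) (h2 : (2 : F) ≠ 0) (hx : PF x r) (hcov : Cov Ω x)
    (hM : ∀ i, Lf ρ (x i) (M i)) (hl : ∀ i, (M i).IsLin)
    (hex : ¬ (Nat.card F = 3 ∧ finrank F V = 4))
    (h5 : Nat.card F = 5 → finrank F V = 4 → ∀ i j, r i = 2 → r j = 3 → False)
    (bDec : ∀ A : Submodule F V, A ≠ ⊥ → A ≠ ⊤ → (∀ a ∈ A, (∀ b ∈ A, B a b = 0) → a = 0) →
      (∀ i, ∀ v ∈ A, M i v ∈ A) → (∀ i, ¬ (r i).Coprime (Nat.card F) → ¬ (M i).ScalOn A) →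
      (4 ≤ finrank F A ∨ 5 < Nat.card F ∨
        (3 < Nat.card F ∧ ∀ i j, ¬ (M i).ScalOn A → ¬ (M j).ScalOn A → i = j)) → False)
    (bHer : ∀ (θ : Module.End F V) (δ : F), ¬ IsSquare δ → (∀ v, θ (θ v) = δ • v) →
      (∀ u v, B (θ u) v = - B u (θ v)) → (∀ i v, M i (θ v) = θ (M i v)) →
      (∀ i j, (¬ ∃ a b : F, ∀ v, M i v = a • v + b • θ v) →
        (¬ ∃ a b : F, ∀ v, M j v = a • v + b • θ v) → i = j) → False) : False := by
  have hcomm := comm_all E hx hM hl
  -- at most one member has order `p`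
  have hp1 : ∀ i j, ¬ (r i).Coprime (Nat.card F) → ¬ (r j).Coprime (Nat.card F) → i = j := fun i j hi hj =>
    hx.inj (CharP.eq F (charP_of hx hi) (charP_of hx hj))
  -- a member of order prime to `p`
  have hex0 : ∃ i, (r i).Coprime (Nat.card F) := by
    by_contra hno
    push Not at hno
    obtain ⟨ω0⟩ := (inferInstance : Nonempty Ω)
    obtain ⟨k, -⟩ := hcov ω0
    apply hx.ne k
    apply E.env.single
    intro ω
    obtain ⟨i, hi⟩ := hcov ω
    rw [← hp1 i k (hno i) (hno k)]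
    exact hi
  obtain ⟨k0, hk0⟩ := hex0
  have hns : ∀ i, ¬ (M i).IsScal := fun i h => hx.ne i ((E.eq_one_iff (hM i)).2 h)
  have hY : ∀ i, ∀ (k : {i // (r i).Coprime (Nat.card F)}) (v : V),
      ((hl i).lin : V →ₗ[F] V) (M k.1 v) = M k.1 (((hl i).lin : V →ₗ[F] V) v) := fun i k v => hcomm i k.1 v
  rcases Cfsg.Agent.H544.RC.four_cases E.form h2 (fun k : {i // (r i).Coprime (Nat.card F)} => M k.1)
      (fun k => hl k.1) (fun k l v => hcomm k.1 l.1 v) (n := fun k => r k.1) (fun k => (hx.prime k.1).pos)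
      (fun k => k.2) (fun k => by
        obtain ⟨a, -, ha⟩ := E.pow_scal (hM k.1) (hx.pow k.1)
        exact ⟨a, ha⟩) ⟨⟨k0, hk0⟩, hns k0⟩ with
    ⟨A, hA0, hA1, hA, hAi⟩ | ⟨θ, hθs, hθ, hθ1, hθc⟩ | ⟨W, W', hW, ht, ht', hs, hs', hWi⟩ | ⟨θ, δ, hδ, hsq, hθs, hs, hθc⟩
  · refine case_dec E h2 hx hcov hM hl hex h5 ?_ bDec hA0 hA1 hA (fun i => hAi _ (hY i))
    intro i0 e c he hc hcov' hfix hco
    refine Cfsg.Agent.H520.RC.lr_tv E h2 (ι := {i // i ≠ i0}) (r := fun i => r i.1) (x := fun i => x i.1)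
      (M := fun i => M i.1) (fun i => hx.prime i.1) (fun i => hx.pow i.1) (fun i j => hx.comm i.1 j.1)
      (fun i => hx.ne i.1) (fun i => hM i.1) he hc ?_ (fun i => hfix i.1 i.2) (fun i => hco i.1 i.2)
    intro ω
    rcases hcov' ω with h | ⟨i, h, h'⟩
    · exact Or.inl h
    · exact Or.inr ⟨⟨i, h⟩, h'⟩
  · refine case_K E hx hcov hM hl θ hθs hθ (fun i v => hθc _ (hY i) v) ?_ ?_
    · exact Cfsg.Agent.H236.RC.D5.m_rule_K E hIH (by
        rintro ⟨h3, -⟩
        apply h2
        have := Fintype.ofFinite F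
        rw [Nat.card_eq_fintype_card] at h3
        have h4 := FiniteField.cast_card_eq_zero F
        rw [h3] at h4
        exact_mod_cast h4) hx hcov hM hl θ hθs hθ hθ1 (fun i v => hθc _ (hY i) v)
        (fun h3 h4 => absurd ⟨h3, h4⟩ hex)
    · intro i0 δ hδ hsq hmu
      exact Cfsg.Agent.H579.RC.dead_sym E hIH h2 hx hcov hM hl i0 hδ hsq hmu (fun h3 h4 => absurd ⟨h3, h4⟩ hex)
  · refine Cfsg.Agent.H686.RC.DD.dead_D E h2 hx hcov hM hl hW ht ht' (fun i => (hWi _ (hY i)).1)
      (fun i => (hWi _ (hY i)).2) ?_ hex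
    intro i j hi hj
    exact hp1 i j (fun h => hi (hs ⟨i, h⟩)) (fun h => hj (hs ⟨j, h⟩))
  · refine bHer θ δ hδ hsq hθs (fun i v => hθc _ (hY i) v) ?_
    intro i j hi hj
    exact hp1 i j (fun h => hi (hs ⟨i, h⟩)) (fun h => hj (hs ⟨j, h⟩))

/-- **D7b** -/
theorem dead_lin (E : SpEnv Ω N ρ) (hIH : IH (Nat.card N)) (h2 : (2 : F) ≠ 0) (hx : PF x r) (hcov : Cov Ω x)
    (hM : ∀ i, Lf ρ (x i) (M i)) (hl : ∀ i, (M i).IsLin)
    (hA6 : ∀ g : MulAut (alternatingGroup (Fin 6)), orderOf g ≠ 6 → RCe (alternatingGroup (Fin 6)) g)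
    (hex : ¬ (Nat.card F = 3 ∧ finrank F V = 4))
    (h5 : Nat.card F = 5 → finrank F V = 4 → ∀ i j, r i = 2 → r j = 3 → False) : False :=
  dead_lin_of E hIH h2 hx hcov hM hl hex h5
    (fun _ hA0 hA1 hA hi hu hq => Cfsg.Agent.H67.RC.dead_dec E hIH h2 hx hcov hM hl hA0 hA1 hA hi hu hA6 hq)
    (fun θ _ hδ hsq hθs hcm hs => Cfsg.Agent.H8.RC.dead_her E h2 hx hcov hM hl θ hδ hsq hθs hcm hs hex)

end Cfsg.Agent.H810.RC
end

-- part: H810/RC/DeadFive
section
/-!
# S3510, row D: boxes D9 and D7b, final forms (helper810)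

* `dead_five` : `q = 5`, `dim V = 4`, members of orders 2 and 3, linear lifts;
* `dead_lin_all` : linear lifts, `q` odd, `(q, dim V) ≠ (3, 4)`.
-/

set_option autoImplicit false
open Cfsg

namespace Cfsg.Agent.H810.RC

open MulAction Module Cfsg.Agent.H106.RC Cfsg.Agent.H520.RC Cfsg.Agent.H727.GW

variable {F : Type} {V : Type} [Field F] [Finite F] [AddCommGroup V] [Module F V] [FiniteDimensional F V]
  {B : LinearMap.BilinForm F V} {G : Type} [Group G] [Finite G] {Ω : Type} [Finite Ω] [Nonempty Ω] [MulAction G Ω]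
  {N : Subgroup G} {ρ : ↥(Sp B) →* G} {ι : Type} [Finite ι] {x : ι → G} {r : ι → ℕ} {M : ι → SS B}

/-- **D9** -/
theorem dead_five (E : SpEnv Ω N ρ) (hIH : IH (Nat.card N)) (hx : PF x r) (hcov : Cov Ω x)
    (hM : ∀ i, Lf ρ (x i) (M i)) (hl : ∀ i, (M i).IsLin)
    (hA6 : ∀ g : MulAut (alternatingGroup (Fin 6)), orderOf g ≠ 6 → RCe (alternatingGroup (Fin 6)) g)
    (h5 : Nat.card F = 5) (h4 : finrank F V = 4) (i j : ι) (hi : r i = 2) (hj : r j = 3) : False := by
  have h2 : (2 : F) ≠ 0 := by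
    have := Fintype.ofFinite F
    intro h
    have h6 := FiniteField.cast_card_eq_zero F
    rw [← Nat.card_eq_fintype_card, h5] at h6
    have h7 : (5 : F) = 0 := by exact_mod_cast h6
    have h1 : (1 : F) = 0 := by linear_combination h7 - 2 * h
    exact one_ne_zero h1
  refine dead_five_of E hIH hx hcov hM hl h5 h4 ?_ i j hi hj
  intro A hA0 hA1 hA hAi hu hq
  exact Cfsg.Agent.H67.RC.dead_dec E hIH h2 hx hcov hM hl hA0 hA1 hA hAi hu hA6 (Or.inr (Or.inr ⟨by omega, hq⟩))

/-- **D7b + D9** : linear lifts, `q` odd, not `PSp_4(3)` -/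
theorem dead_lin_all (E : SpEnv Ω N ρ) (hIH : IH (Nat.card N)) (h2 : (2 : F) ≠ 0) (hx : PF x r) (hcov : Cov Ω x)
    (hM : ∀ i, Lf ρ (x i) (M i)) (hl : ∀ i, (M i).IsLin)
    (hA6 : ∀ g : MulAut (alternatingGroup (Fin 6)), orderOf g ≠ 6 → RCe (alternatingGroup (Fin 6)) g)
    (hex : ¬ (Nat.card F = 3 ∧ finrank F V = 4)) : False :=
  dead_lin E hIH h2 hx hcov hM hl hA6 hex
    (fun h5 h4 i j hi hj => dead_five E hIH hx hcov hM hl hA6 h5 h4 i j hi hj)

end Cfsg.Agent.H810.RC
end

-- part: H67/RC/RowOdd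
section
/-!
# S3510: the row `PSp_{2m}(q)`, `q` odd (helper67)

All boxes: helper8, 31, 194, 236, 327, 368, 520, 544, 579, 686, 711, 810, 916 and others; plan `tools/plans/S3510_D.md`.
-/

set_option autoImplicit false
open Cfsg

namespace Cfsg.Agent.H67.RC

open Module Cfsg.Agent.H106.RC Cfsg.Agent.H520.RC

/-- **`PSp_{2m}(q)`, `q` odd** -/
theorem row_psp_odd (S : Type) [Group S] [Finite S] (hS : IsSimpleGroup S) (hn : ¬ IsMulCommutative S)
    (m : ℕ) (hm : 2 ≤ m) (F : Type) [Field F] [Fintype F] (h2 : (2 : F) ≠ 0) (e : S ≃* PSp m F)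
    (hIH : IH (Nat.card S)) : RC S := by
  have h3F : 3 ≤ Fintype.card F := by
    have h1 : 1 < Fintype.card F := Fintype.one_lt_card
    by_contra h
    have h3 : Fintype.card F = 2 := by omega
    have h4 := Nat.cast_card_eq_zero F
    rw [h3] at h4
    exact h2 (by exact_mod_cast h4)
  apply rc_of_noCov hS hn
  intro G _ _ Ω _ _ _ N hE eN ι _ x r hx hcov _
  obtain ⟨B, ρ, E⟩ := Cfsg.Agent.H194.RC.exists_spEnv hm (fun _ => h3F) (Or.inr h2) hE (eN.trans e)
  choose M hM using fun i => E.lift (x i)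
  have hIH' : IH (Nat.card N) := by rwa [Nat.card_congr eN.toEquiv]
  by_cases hl : ∀ i, (M i).IsLin
  · by_cases hex : Nat.card F = 3 ∧ finrank F (Fin m ⊕ Fin m → F) = 4
    · exact Cfsg.Agent.H711.RC.dead_three E hx hcov hex.1 hex.2
    · exact Cfsg.Agent.H810.RC.dead_lin_all E hIH' h2 hx hcov hM hl Cfsg.Agent.H916.RC.rce_A6 hex
  · push Not at hl
    obtain ⟨i0, hi0⟩ := hl
    exact Cfsg.Agent.H327.RC.dead_semi E hIH' h2 hx hcov hM i0 hi0

end Cfsg.Agent.H67.RC
end

private theorem dce_87aabfd685e0 : _root_.True := by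
  try have : _root_.True := by simp only [_root_.Cfsg.Agent.H520.RC.SS.sc.congr_simp]
  try have : _root_.True := by simp only [_root_.Cfsg.Agent.H711.RC.sg.congr_simp]
  try have : _root_.True := by simp only [_root_.Cfsg.Agent.H544.RC.AA.congr_simp]
  exact _root_.True.intro
end

-- part: H510/Tri3/Four
section
prune_inst 0x40004822000000000000020000200000000000000000800006000308000000000800000000000800000000000020000000000000000000000000000000000000000000000000000000000000000000000000000000000000000000000000000000000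
set_option linter.all false
open scoped Cfsg.Agent.FastGrp

-- part: H510/Tri3/Quad
section
/-!
# S3510, triality type iii: box QUAD (helper510)

* `quad_kill` : the cover `{y} ∪ {g i}`, `y` acts on `W` as a power of `c`, `c + c⁻¹ = τ` on `W` without eigenvectors;
* `dead_quad` : the exact statement of the stubs.
-/

set_option autoImplicit false
set_option linter.unusedSectionVars false
open Cfsg

namespace Cfsg.Agent.H510.Tri3

open QuadraticMap Module MulAction
open Cfsg.Agent.LieClassical.OrthCore Cfsg.Agent.LieClassical.OrthTrans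
open Cfsg.Agent.LieClassical.OrthSimple Cfsg.Agent.ClassicalGeometry.OrthSemi
open Cfsg.Agent.ClassicalGeometry.OrthAut1 Cfsg.Agent.H106.RC Cfsg.Agent.H93.RC Cfsg.Agent.H566.RC
open Cfsg.Agent.LieClassical.QuadForms Cfsg.Agent.ClassicalGeometry.TrialityOct
open Cfsg.Agent.ClassicalGeometry.Triality Cfsg.Agent.ClassicalGeometry.TrialitySpaces
open Cfsg.Agent.H198.TriBase Cfsg.Agent.H198.TriAut Cfsg.Agent.H338.RC Cfsg.Agent.H188.RC

section gen

variable {F V : Type} [Field F] [Finite F] [AddCommGroup V] [Module F V] [FiniteDimensional F V] {Q : QuadraticForm F V}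
  {G Ω ι : Type} [Group G] [MulAction G Ω] {N : Subgroup G} {κ : ↥(E Q) →* G}

/-- `{y} ∪ {g i}` is not a cover -/
theorem quad_kill [Finite G] [Finite ι] [Nonempty Ω] {p : ℕ} [CharP F p] (hG : Good Q)
    (hE : Env G Ω N) (hρ : _root_.Cfsg.Agent.H93.RC.Rep Q N κ) (hIH : IH (Nat.card N)) (h8 : 8 ≤ Nat.card F) (h9 : Nat.card F ≠ 9)
    {g : ι → ↥(E Q)} {r : ι → ℕ} (hx : PF (fun i => κ (g i)) r) (hrp : ∀ i, r i ≠ p)
    (y : ↥(E Q)) {l : ℕ} (hl : l.Prime) (hlp : l ≠ p) (hyl : y ^ l = 1) (hy1 : κ y ≠ 1) (hyg : ∀ i, y * g i = g i * y)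
    (W : Submodule F V) (hW4 : finrank F W = 4)
    (hWn : ∀ v ∈ W, (∀ w ∈ W, polar Q v w = 0) → v = 0) (hWg : ∀ i, ∀ v ∈ W, (g i : V ≃ₗ[F] V) v ∈ W)
    (c : ↥(E Q)) (hcg : ∀ i, ∀ v ∈ W, (c : V ≃ₗ[F] V) ((g i : V ≃ₗ[F] V) v) = (g i : V ≃ₗ[F] V) ((c : V ≃ₗ[F] V) v))
    (hWc : ∀ v ∈ W, (c : V ≃ₗ[F] V) v ∈ W)
    (τ : F) (hτ : ∀ v ∈ W, (c : V ≃ₗ[F] V) ((c : V ≃ₗ[F] V) v) + v = τ • (c : V ≃ₗ[F] V) v)
    (hne : ∀ v ∈ W, ∀ a : F, (c : V ≃ₗ[F] V) v = a • v → v = 0)
    (n : ℕ) (hyc : ∀ v ∈ W, (y : V ≃ₗ[F] V) v = ((c ^ n : ↥(E Q)) : V ≃ₗ[F] V) v)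
    (hcov : ∀ ω : Ω, κ y • ω = ω ∨ ∃ i, κ (g i) • ω = ω) : False := by
  classical
  -- the restriction of `c`
  let k : W →ₗ[F] W := ((c : V ≃ₗ[F] V) : V →ₗ[F] V).restrict hWc
  have hk : ∀ w : W, ((k w : W) : V) = (c : V ≃ₗ[F] V) w := fun w => rfl
  have hndW : Nondeg (Q.comp W.subtype) := by
    intro w hw
    apply Subtype.ext
    exact hWn w w.2 (fun v hv => hw ⟨v, hv⟩)
  have hkk : ∀ v, k (k v) = τ • k v - (1 : F) • v := by
    intro v
    apply Subtype.ext
    have h1 := hτ v v.2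
    change (c : V ≃ₗ[F] V) ((c : V ≃ₗ[F] V) v) = τ • (c : V ≃ₗ[F] V) v - (1 : F) • (v : V)
    rw [one_smul, ← h1, add_sub_cancel_right]
  have hirr : ∀ a : F, a * a - τ * a + 1 ≠ 0 := by
    intro a ha
    have : Nontrivial W := Module.nontrivial_of_finrank_pos (R := F) (by omega)
    obtain ⟨w, hw⟩ := exists_ne (0 : W)
    have ha0 : a ≠ 0 := by
      rintro rfl
      simp at ha
    have hta : τ = a + a⁻¹ := by
      field_simp
      linear_combination -ha
    have h1 : k (k w - a⁻¹ • w) = a • (k w - a⁻¹ • w) := by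
      rw [map_sub, map_smul, hkk, hta]
      rw [smul_sub, smul_smul, mul_inv_cancel₀ ha0]
      module
    have h2 := hne _ (k w - a⁻¹ • w).2 a (congrArg Subtype.val h1)
    have h3 : k w = a⁻¹ • w := sub_eq_zero.1 (Subtype.ext h2)
    have h4 := hne _ w.2 a⁻¹ (congrArg Subtype.val h3)
    exact hw (Subtype.ext h4)
  have hQk : ∀ v, (Q.comp W.subtype) (k v) = 1 * (Q.comp W.subtype) v := by
    intro v
    rw [one_mul]
    exact E_le_O c.2 v
  obtain ⟨K, _, _, _, _, _, α, hHK, hα, hFK, hdec⟩ := exists_HK hndW k τ 1 hkk hirr hQk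
  have h2 : finrank K W = 2 := by
    have h3 := Module.finrank_mul_finrank F K W
    rw [hFK, hW4] at h3
    omega
  have hpow : ∀ (m : ℕ) (w : W), ((α ^ m • w : W) : V) = ((c ^ m : ↥(E Q)) : V ≃ₗ[F] V) w := by
    intro m
    induction m with
    | zero => intro w; rw [pow_zero, pow_zero, one_smul]; rfl
    | succ m ih =>
      intro w
      rw [pow_succ, mul_smul, ih, hα, hk, pow_succ]
      rfl
  -- the family
  let z : Option ι → ↥(E Q) := fun o => o.elim y g
  let r' : Option ι → ℕ := fun o => o.elim l r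
  have hcW : ∀ (m : ℕ), ∀ v ∈ W, ((c ^ m : ↥(E Q)) : V ≃ₗ[F] V) v ∈ W := by
    intro m v hv
    rw [← hpow m ⟨v, hv⟩]
    exact (α ^ m • (⟨v, hv⟩ : W)).2
  have hzW : ∀ o, ∀ v ∈ W, (z o : V ≃ₗ[F] V) v ∈ W := by
    rintro (_ | i) v hv
    · change (y : V ≃ₗ[F] V) v ∈ W
      rw [hyc v hv]
      exact hcW n v hv
    · exact hWg i v hv
  have hzc : ∀ o, ∀ v ∈ W, (c : V ≃ₗ[F] V) ((z o : V ≃ₗ[F] V) v) = (z o : V ≃ₗ[F] V) ((c : V ≃ₗ[F] V) v) := by
    rintro (_ | i) v hv
    · change (c : V ≃ₗ[F] V) ((y : V ≃ₗ[F] V) v) = (y : V ≃ₗ[F] V) ((c : V ≃ₗ[F] V) v)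
      rw [hyc v hv, hyc _ (hWc v hv)]
      have h3 : c * c ^ n = c ^ n * c := by rw [← pow_succ, ← pow_succ']
      exact congrArg (fun f : ↥(E Q) => (f : V ≃ₗ[F] V) v) h3
    · exact hcg i v hv
  have hup : ∀ a b : ↥(E Q), a * b = b * a → κ a * κ b = κ b * κ a := fun a b hab => by
    rw [← map_mul, hab, map_mul]
  -- lifts and restrictions
  have hW' : ∀ o, ∃ L : Gam (Q.comp W.subtype), ∀ w : W, ((L.1 w : W) : V) = (tg Q (z o)).1 w := by
    intro o
    obtain ⟨σ, a, hM⟩ := (tg Q (z o)).2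
    have hfin : Finite V := Module.finite_of_finite F
    obtain ⟨L, hL, hLM⟩ := exists_restr (W := W) hM (hzW o)
    exact ⟨⟨L, σ, a, hL⟩, hLM⟩
  choose L hL using hW'
  have hLl : ∀ o (a : F) (w : W), (L o).1 (a • w) = a • (L o).1 w := by
    intro o a w
    apply Subtype.ext
    rw [hL]
    change (z o : V ≃ₗ[F] V) (a • (w : V)) = a • ((((L o).1 w : W)) : V)
    rw [hL, map_smul]
    rfl
  have hLa : ∀ o (v w : W), (L o).1 (v + w) = (L o).1 v + (L o).1 w := fun o => add_of_mem (L o).2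
  have hLk : ∀ o (w : W), (L o).1 (k w) = k ((L o).1 w) := by
    intro o w
    apply Subtype.ext
    rw [hk, hL, hL]
    exact (hzc o w w.2).symm
  have hlin : ∀ o (a : K) (w : W), (L o).1 (a • w) = a • (L o).1 w := by
    intro o a w
    obtain ⟨b, d, rfl⟩ := hdec a
    have h3 : ∀ w : W, (algebraMap F K b + algebraMap F K d * α) • w = b • w + d • k w := by
      intro w
      rw [add_smul, mul_smul, algebraMap_smul, algebraMap_smul, hα]
    rw [h3, h3, hLa, hLl, hLl, hLk]
  refine box_SU2 (p := p) (ι := Option ι) (x := fun o => κ (z o)) (M := fun o => tg Q (z o)) (r := r') hHK hG hE hρ hIH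
    (fun o => Lf.tg (ρ := κ) (z o)) ?_ ?_ ?_ ?_ ?_ ?_ (by omega) h9 hFK h2 hG.dim L hL hlin ?_
  · rintro (_ | i)
    · exact hl
    · exact hx.prime i
  · rintro (_ | i)
    · exact hlp
    · exact hrp i
  · rintro (_ | i)
    · change κ y ^ l = 1
      rw [← map_pow, hyl, map_one]
    · exact hx.pow i
  · rintro (_ | i)
    · exact hy1
    · exact hx.ne i
  · rintro (_ | i) (_ | j)
    · rfl
    · exact hup _ _ (hyg j)
    · exact hup _ _ (hyg i).symm
    · exact hx.comm i j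
  · intro ω
    rcases hcov ω with h3 | ⟨i, h3⟩
    · exact ⟨none, h3⟩
    · exact ⟨some i, h3⟩
  · have hcS : ∃ a : K, ∀ v : W, (L none).1 v = a • v := by
      refine ⟨α ^ n, fun v => ?_⟩
      apply Subtype.ext
      rw [hL, hpow]
      exact hyc v v.2
    rintro (_ | i) (_ | j) hij
    · exact Or.inl rfl
    · exact Or.inr (Or.inl hcS)
    · exact Or.inr (Or.inr hcS)
    · exact Or.inl (congrArg some (hx.inj hij))

end gen

variable {F : Type} [Field F] {G Ω ι : Type} [Group G] [MulAction G Ω] {N : Subgroup G} {κ : P8 F →* G}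

end Cfsg.Agent.H510.Tri3
end

-- part: H510/Tri3/RotDef
section
set_option autoImplicit false
open Cfsg

namespace Cfsg.Agent.H510.Tri3

open Module QuadraticMap MulAction
open Cfsg.Agent.LieClassical.OrthCore Cfsg.Agent.LieClassical.OrthTrans
open Cfsg.Agent.LieClassical.OrthSimple Cfsg.Agent.ClassicalGeometry.OrthSemi
open Cfsg.Agent.ClassicalGeometry.OrthAut1 Cfsg.Agent.H106.RC Cfsg.Agent.H93.RC Cfsg.Agent.H566.RC
open Cfsg.Agent.LieClassical.QuadForms Cfsg.Agent.ClassicalGeometry.TrialityOct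
open Cfsg.Agent.ClassicalGeometry.Triality Cfsg.Agent.ClassicalGeometry.TrialitySpaces
open Cfsg.Agent.H198.TriBase Cfsg.Agent.H198.TriAut Cfsg.Agent.H198.TriDia
open Cfsg.Agent.H206.Balance hiding Good
open Cfsg.Agent.H198.TwComp Cfsg.Agent.H198 Cfsg.Agent.H864.RC

variable {F : Type} [Field F]

/-- rotations `ρ k` of order `l` of four orthogonal anisotropic planes `P k`, with the same trace `τ` -/
structure Rot (P : Fin 4 → Submodule F (V8 F)) (l : ℕ) (τ : F) (ρ : Fin 4 → ↥(E (plusForm 4 F))) : Prop where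
  pow : ∀ k, ρ k ^ l = 1
  triv : ∀ k j, j ≠ k → ∀ v ∈ P j, (ρ k : V8 F ≃ₗ[F] V8 F) v = v
  inv : ∀ k, ∀ v ∈ P k, (ρ k : V8 F ≃ₗ[F] V8 F) v ∈ P k
  ne : ∀ k, ∀ v ∈ P k, ∀ a : F, (ρ k : V8 F ≃ₗ[F] V8 F) v = a • v → v = 0
  tr : ∀ k, ∀ v ∈ P k, (ρ k : V8 F ≃ₗ[F] V8 F) ((ρ k : V8 F ≃ₗ[F] V8 F) v) + v = τ • (ρ k : V8 F ≃ₗ[F] V8 F) v
  /-- every isometry of order dividing `l` preserving the planes is a power of `ρ k` on `P k` -/
  gen : ∀ c ∈ O (plusForm 4 F), c ^ l = 1 → (∀ j, ∀ v ∈ P j, c v ∈ P j) → ∀ k, ∃ i : ℕ, ∀ v ∈ P k,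
    c v = ((ρ k ^ i : ↥(E (plusForm 4 F))) : V8 F ≃ₗ[F] V8 F) v
  /-- `ρ k` commutes on `P k` with the isometries which are rotations (or `±1`) on `P k` -/
  comm : ∀ k (t : F) (n : ℕ), (n : F) ≠ 0 → ∀ c ∈ O (plusForm 4 F), c ^ n = 1 → (∀ v ∈ P k, c v ∈ P k) →
    (∀ v ∈ P k, c (c v) + v = t • c v) →
    ∀ v ∈ P k, c ((ρ k : V8 F ≃ₗ[F] V8 F) v) = (ρ k : V8 F ≃ₗ[F] V8 F) (c v)

end Cfsg.Agent.H510.Tri3
end

-- part: H510/Tri3/FourA
section
/-!
# S3510, triality type iii: four anisotropic planes, the end (helper510)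
-/

set_option autoImplicit false
set_option linter.unusedSectionVars false
open Cfsg

namespace Cfsg.Agent.H510.Tri3

open Module QuadraticMap MulAction
open Cfsg.Agent.LieClassical.OrthCore Cfsg.Agent.LieClassical.OrthTrans
open Cfsg.Agent.LieClassical.OrthSimple Cfsg.Agent.ClassicalGeometry.OrthSemi
open Cfsg.Agent.ClassicalGeometry.OrthAut1 Cfsg.Agent.H106.RC Cfsg.Agent.H93.RC Cfsg.Agent.H566.RC
open Cfsg.Agent.LieClassical.QuadForms Cfsg.Agent.ClassicalGeometry.TrialityOct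
open Cfsg.Agent.ClassicalGeometry.Triality Cfsg.Agent.ClassicalGeometry.TrialitySpaces
open Cfsg.Agent.H198.TriBase Cfsg.Agent.H198.TriAut Cfsg.Agent.H198.TriDia
open Cfsg.Agent.H206.Balance hiding Good
open Cfsg.Agent.H198.TwComp Cfsg.Agent.H198 Cfsg.Agent.H864.RC Cfsg.Agent.H452.RC.FMP

variable {F : Type} [Field F]

/-- a suitable odd prime -/
theorem exists_odd_prime {q q0 : ℕ} (h0 : 2 ≤ q0) (hq : q = q0 ^ 3) : ∃ l : ℕ, l.Prime ∧ l ≠ 2 ∧ l ∣ q + 1 ∧ l.Coprime q := by
  have h1 : q0 ^ 2 - q0 + 1 ≠ 1 := by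
    have : q0 < q0 ^ 2 := by nlinarith only [h0]
    omega
  have hodd : ¬ 2 ∣ q0 ^ 2 - q0 + 1 := by
    have h2 : 2 ∣ q0 ^ 2 - q0 := by
      have h3 : q0 ^ 2 - q0 = q0 * (q0 - 1) := by
        rw [Nat.mul_sub, mul_one, pow_two]
      rw [h3]
      rcases Nat.even_or_odd q0 with he | ho
      · exact dvd_mul_of_dvd_left he.two_dvd _
      · obtain ⟨k, hk⟩ := ho
        exact dvd_mul_of_dvd_right ⟨k, by omega⟩ _
    omega
  have hdvd : q0 ^ 2 - q0 + 1 ∣ q + 1 := by
    refine ⟨q0 + 1, ?_⟩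
    have hle : q0 ≤ q0 ^ 2 := by nlinarith only []
    obtain ⟨a, ha⟩ : ∃ a, q0 ^ 2 = q0 + a := ⟨q0 ^ 2 - q0, by omega⟩
    have h3 : q0 ^ 2 - q0 + 1 = a + 1 := by omega
    rw [h3, hq]
    have h4 : q0 ^ 3 = q0 * q0 ^ 2 := by ring
    have h5 : q0 * q0 = q0 + a := by rw [← ha]; ring
    rw [h4, ha]
    linarith only [ha]
  obtain ⟨l, hl, hld⟩ := Nat.exists_prime_and_dvd h1
  refine ⟨l, hl, ?_, hld.trans hdvd, ?_⟩
  · rintro rfl
    exact hodd hld
  · rw [hl.coprime_iff_not_dvd]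
    intro h3
    have h4 := (Nat.dvd_add_right h3).1 (hld.trans hdvd)
    exact hl.one_lt.ne' (Nat.dvd_one.1 h4)

variable {G Ω ι : Type} [Group G] [MulAction G Ω] {N : Subgroup G} {hG : Good (plusForm 4 F)}
  {κ : P8 F →* G} {s : F ≃+* F} {x₁ : G} {x : ι → G} {r : ι → ℕ} {g : ι → (V8 F ≃ₗ[F] V8 F)}

theorem natCast_ne [Finite F] {p : ℕ} [CharP F p] (h : T3 hG N κ s Ω x₁ x r g) (hrp : ∀ i, r i ≠ p) (i : ι) :
    (r i : F) ≠ 0 := by
  intro h1
  have h2 := (CharP.cast_eq_zero_iff F p (r i)).1 h1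
  have hp : p.Prime := CharP.char_is_prime F p
  exact hrp i ((Nat.prime_dvd_prime_iff_eq hp (h.prime i)).1 h2).symm

/-- the end of `dead_G3` -/
theorem dead_G3_of [Finite F] [Finite G] [Finite ι] [Nonempty Ω] {p : ℕ} [CharP F p] (h : T3 hG N κ s Ω x₁ x r g)
    (hIH : IH (Nat.card N)) (hrp : ∀ i, r i ≠ p) {P : Fin 4 → Submodule F (V8 F)} (hP : G3 g P)
    (hrot : ∀ k i, ∃ t : F, ∀ v ∈ P k, g i (g i v) + v = t • g i v) {l : ℕ} (hl : l.Prime) (hlp : l ≠ p)
    {ρ : Fin 4 → ↥(E (plusForm 4 F))} {τ : F} (hρ : Rot P l τ ρ) {y : ↥(E (plusForm 4 F))} (hyl : y ^ l = 1)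
    (hl2 : l ≠ 2) (hy1 : y ≠ 1) (hyD : up κ y ∈ comC (CN N x) x₁)
    (hyg : ∀ i, (y : V8 F ≃ₗ[F] V8 F) * g i = g i * y) (n : ℕ)
    (hn : ∀ v ∈ P 0 ⊔ P 1, (y : V8 F ≃ₗ[F] V8 F) v = (((ρ 0 * ρ 1) ^ n : ↥(E (plusForm 4 F))) : V8 F ≃ₗ[F] V8 F) v) :
    False := by
  obtain ⟨q0, h0, hq, -, -, -⟩ := H256.RC.BQ h.cube h.ne
  have h8 : 8 ≤ Nat.card F := by
    rw [hq]
    calc 8 = 2 ^ 3 := by norm_num
      _ ≤ q0 ^ 3 := Nat.pow_le_pow_left h0 3
  have h9 : Nat.card F ≠ 9 := by
    rw [hq]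
    intro h9
    rcases Nat.lt_or_ge q0 3 with h3 | h3
    · have : q0 = 2 := by omega
      rw [this] at h9
      norm_num at h9
    · have : 3 ^ 3 ≤ q0 ^ 3 := Nat.pow_le_pow_left h3 3
      omega
  let gE : ι → ↥(E (plusForm 4 F)) := fun i => ⟨g i, (h.mem i).1⟩
  have hx : ∀ i, x i = up κ (gE i) := fun i => h.x_eq i
  have hPF : PF (fun i => up κ (gE i)) r := by
    have h1 := h.pf
    have h2 : x = fun i => up κ (gE i) := funext hx
    rwa [h2] at h1
  have hyup : up κ y ≠ 1 := by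
    intro h1
    have h2 : y ∈ Subgroup.center ↥(E (plusForm 4 F)) := by rw [← h.rp.rep.ker, MonoidHom.mem_ker, h1]
    obtain ⟨a, ha⟩ := center_scalar hG h2
    have haa : a * a = 1 := by
      have h3 := E_le_O y.2 (one8 F)
      rw [ha, QuadraticMap.map_smul, norm_one8, smul_eq_mul, mul_one] at h3
      exact h3
    have hpow : ∀ m : ℕ, ∀ v, ((y ^ m : ↥(E (plusForm 4 F))) : V8 F ≃ₗ[F] V8 F) v = a ^ m • v := by
      intro m
      induction m with
      | zero => intro v; rw [pow_zero, pow_zero, one_smul]; rfl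
      | succ m ih =>
        intro v
        rw [pow_succ, pow_succ, mul_smul, ← ha v, ← ih]
        rfl
    have hal : a ^ l = 1 := by
      have h3 := hpow l (one8 F)
      rw [hyl] at h3
      have h4 : (a ^ l - 1) • one8 F = 0 := by rw [sub_smul, one_smul, ← h3]; exact sub_self _
      rcases smul_eq_zero.1 h4 with h5 | h5
      · exact sub_eq_zero.1 h5
      · exfalso
        have h6 := norm_one8 (F := F)
        rw [h5, QuadraticMap.map_zero] at h6
        exact zero_ne_one h6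
    have ha1 := eq_one_of_odd haa (hl.odd_of_ne_two hl2) hal
    apply hy1
    apply Subtype.ext
    apply LinearEquiv.ext
    intro v
    rw [ha, ha1, one_smul]
    rfl
  -- the space `W`
  have hnd : ∀ k, ND (plusForm 4 F) (P k) := fun k => nd_of_aniso (hP.two k) (hP.aniso k)
  have hdis : ∀ v ∈ P 0, ∀ w ∈ P 1, v = w → v = 0 := by
    intro v hv w hw hvw
    apply hnd 0 v hv
    intro u hu
    rw [hvw]
    exact hP.perp 1 0 (by decide) w hw u hu
  have hdis' : ∀ v ∈ P 0, ∀ w ∈ P 1, v + w = 0 → v = 0 ∧ w = 0 := by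
    intro v hv w hw hvw
    have h1 : v = -w := eq_neg_of_add_eq_zero_left hvw
    have h2 := hdis v hv (-w) ((P 1).neg_mem hw) h1
    exact ⟨h2, by rw [h2, zero_add] at hvw; exact hvw⟩
  have hW4 : finrank F ↥(P 0 ⊔ P 1) = 4 := by
    have h1 := Submodule.finrank_sup_add_finrank_inf_eq (P 0) (P 1)
    have h2 : P 0 ⊓ P 1 = ⊥ := by
      rw [Submodule.eq_bot_iff]
      rintro v ⟨hv, hv'⟩
      exact hdis v hv v hv' rfl
    rw [h2, finrank_bot, hP.two, hP.two] at h1
    omega
  have hc0 : ∀ v ∈ P 0, ((ρ 0 * ρ 1 : ↥(E (plusForm 4 F))) : V8 F ≃ₗ[F] V8 F) v = (ρ 0 : V8 F ≃ₗ[F] V8 F) v := by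
    intro v hv
    change (ρ 0 : V8 F ≃ₗ[F] V8 F) ((ρ 1 : V8 F ≃ₗ[F] V8 F) v) = _
    rw [hρ.triv 1 0 (by decide) v hv]
  have hc1 : ∀ v ∈ P 1, ((ρ 0 * ρ 1 : ↥(E (plusForm 4 F))) : V8 F ≃ₗ[F] V8 F) v = (ρ 1 : V8 F ≃ₗ[F] V8 F) v := by
    intro v hv
    change (ρ 0 : V8 F ≃ₗ[F] V8 F) ((ρ 1 : V8 F ≃ₗ[F] V8 F) v) = _
    rw [hρ.triv 0 1 (by decide) _ (hρ.inv 1 v hv)]
  have hspan : ∀ {p' : V8 F → Prop}, (∀ v ∈ P 0, ∀ w ∈ P 1, p' (v + w)) → ∀ v ∈ P 0 ⊔ P 1, p' v := by
    intro p' hp v hv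
    obtain ⟨a, ha, b, hb, rfl⟩ := Submodule.mem_sup.1 hv
    exact hp a ha b hb
  have hE' : ∀ c ∈ E (plusForm 4 F), c ∈ O (plusForm 4 F) := fun c hc => E_le_O hc
  have hrF := natCast_ne h hrp
  refine quad_kill (W := P 0 ⊔ P 1) (c := ρ 0 * ρ 1) (g := gE) (τ := τ) (n := n) hG h.env h.rp.rep hIH h8 h9 hPF hrp y hl hlp hyl hyup
    ?_ hW4 ?_ ?_ ?_ ?_ ?_ ?_ hn ?_
  · intro i
    exact Subtype.ext (hyg i)
  · refine hspan fun v hv w hw hvw => ?_
    have h1 : v = 0 := by
      apply hnd 0 v hv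
      intro u hu
      have h2 := hvw u (Submodule.mem_sup_left hu)
      rw [polar_add_left, hP.perp 1 0 (by decide) w hw u hu, add_zero] at h2
      exact h2
    have h3 : w = 0 := by
      apply hnd 1 w hw
      intro u hu
      have h2 := hvw u (Submodule.mem_sup_right hu)
      rw [polar_add_left, hP.perp 0 1 (by decide) v hv u hu, zero_add] at h2
      exact h2
    rw [h1, h3, add_zero]
  · intro i
    refine hspan fun v hv w hw => ?_
    change g i (v + w) ∈ _
    rw [map_add]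
    exact Submodule.add_mem_sup (hP.inv 0 i v hv) (hP.inv 1 i w hw)
  · intro i
    refine hspan fun v hv w hw => ?_
    obtain ⟨t0, ht0⟩ := hrot 0 i
    obtain ⟨t1, ht1⟩ := hrot 1 i
    change ((ρ 0 * ρ 1 : ↥(E (plusForm 4 F))) : V8 F ≃ₗ[F] V8 F) (g i (v + w)) =
      g i (((ρ 0 * ρ 1 : ↥(E (plusForm 4 F))) : V8 F ≃ₗ[F] V8 F) (v + w))
    simp only [map_add, map_add, map_add, map_add, hc0 v hv, hc1 w hw, hc0 _ (hP.inv 0 i v hv), hc1 _ (hP.inv 1 i w hw),
      hρ.comm 0 t0 (r i) (hrF i) (g i) (hE' _ (h.mem i).1) (h.pow i) (hP.inv 0 i) ht0 v hv,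
      hρ.comm 1 t1 (r i) (hrF i) (g i) (hE' _ (h.mem i).1) (h.pow i) (hP.inv 1 i) ht1 w hw]
  · refine hspan fun v hv w hw => ?_
    rw [map_add, hc0 v hv, hc1 w hw]
    exact Submodule.add_mem_sup (hρ.inv 0 v hv) (hρ.inv 1 w hw)
  · refine hspan fun v hv w hw => ?_
    rw [map_add, hc0 v hv, hc1 w hw, map_add, hc0 _ (hρ.inv 0 v hv), hc1 _ (hρ.inv 1 w hw), smul_add, ← hρ.tr 0 v hv,
      ← hρ.tr 1 w hw]
    abel
  · refine hspan fun v hv w hw a hva => ?_
    rw [map_add, hc0 v hv, hc1 w hw] at hva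
    have h1 : ((ρ 0 : V8 F ≃ₗ[F] V8 F) v - a • v) + ((ρ 1 : V8 F ≃ₗ[F] V8 F) w - a • w) = 0 := by
      rw [← sub_eq_zero] at hva
      rw [← hva]
      module
    have h2 := hdis' _ ((P 0).sub_mem (hρ.inv 0 v hv) ((P 0).smul_mem a hv)) _
      ((P 1).sub_mem (hρ.inv 1 w hw) ((P 1).smul_mem a hw)) h1
    rw [hρ.ne 0 v hv a (sub_eq_zero.1 h2.1), hρ.ne 1 w hw a (sub_eq_zero.1 h2.2), add_zero]
  · intro ω
    rcases h.mv hyD ω with h1 | ⟨i, h1⟩
    · exact Or.inl h1
    · exact Or.inr ⟨i, by rw [← hx]; exact h1⟩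

end Cfsg.Agent.H510.Tri3
end

-- part: H510/Tri3/RotOdd
section
/-!
# S3510, triality type iii: an isometry of odd order (or in characteristic two) acts on an anisotropic plane as a
rotation (helper510)
-/

set_option autoImplicit false
set_option linter.unusedSectionVars false
open Cfsg

namespace Cfsg.Agent.H510.Tri3

open Module QuadraticMap MulAction
open Cfsg.Agent.LieClassical.OrthCore Cfsg.Agent.LieClassical.OrthTrans
open Cfsg.Agent.LieClassical.OrthSimple Cfsg.Agent.ClassicalGeometry.OrthSemi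
open Cfsg.Agent.ClassicalGeometry.OrthAut1 Cfsg.Agent.H106.RC Cfsg.Agent.H93.RC Cfsg.Agent.H566.RC
open Cfsg.Agent.LieClassical.QuadForms Cfsg.Agent.ClassicalGeometry.TrialityOct
open Cfsg.Agent.ClassicalGeometry.Triality Cfsg.Agent.ClassicalGeometry.TrialitySpaces
open Cfsg.Agent.H198.TriBase Cfsg.Agent.H198.TriAut Cfsg.Agent.H198.TriDia
open Cfsg.Agent.H206.Balance hiding Good
open Cfsg.Agent.H198.TwComp Cfsg.Agent.H198 Cfsg.Agent.H864.RC Cfsg.Agent.H452.RC.FMP

variable {F : Type} [Field F]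

end Cfsg.Agent.H510.Tri3
end

-- part: H452/RC/GThree
section
/-!
# S3510, triality type iii, four anisotropic planes: the group part (box Y, helper452)

`exists_y` : `[C, x₁]` contains an element `y ≠ 1` of order `l` which acts on `P 0 ⊔ P 1` as a power of `ρ 0 * ρ 1`.
`B` = the elements of `E Q` of order dividing `l` commuting with the `g i` (`l ^ 4` of them), `x₁` acts on `B`,
`φ b = b x₁ b⁻¹ x₁⁻¹`; by pigeonhole there is `c ≠ 1` in `B`, trivial on two planes whose sum is not closed, so that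
`y = φ c` has the right shape; `φ c ≠ 1` since otherwise `c ∈ AutD`, hence `c = 1`.
-/

set_option autoImplicit false
open Cfsg

namespace Cfsg.Agent.H452.RC.GThree

open Module QuadraticMap MulAction
open Cfsg.Agent.LieClassical.OrthCore Cfsg.Agent.LieClassical.OrthTrans
open Cfsg.Agent.LieClassical.OrthSimple Cfsg.Agent.ClassicalGeometry.OrthSemi
open Cfsg.Agent.ClassicalGeometry.OrthAut1 Cfsg.Agent.H106.RC Cfsg.Agent.H93.RC Cfsg.Agent.H566.RC
open Cfsg.Agent.LieClassical.QuadForms Cfsg.Agent.ClassicalGeometry.TrialityOct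
open Cfsg.Agent.ClassicalGeometry.Triality Cfsg.Agent.ClassicalGeometry.TrialitySpaces
open Cfsg.Agent.H198.TriBase Cfsg.Agent.H198.TriAut Cfsg.Agent.H198.TriDia
open Cfsg.Agent.H206.Balance hiding Good
open Cfsg.Agent.H198.TwComp Cfsg.Agent.H198 Cfsg.Agent.H864.RC Cfsg.Agent.H510.Tri3

variable {F : Type} [Field F]

/-! ### the four planes -/

section planes

variable {P : Fin 4 → Submodule F (V8 F)}

theorem finrank8 : finrank F (V8 F) = 8 := by
  rw [Module.finrank_fintype_fun_eq_card]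
  rfl

theorem inf_bot {W U : Submodule F (V8 F)} (hW : FMP.ND (plusForm 4 F) W)
    (ho : ∀ v ∈ U, ∀ w ∈ W, polar (plusForm 4 F) v w = 0) : U ⊓ W = ⊥ := by
  rw [Submodule.eq_bot_iff]
  rintro v ⟨hv, hv'⟩
  exact hW v hv' (fun w hw => ho v hv w hw)

theorem sup_perp {U U' W : Submodule F (V8 F)} (h : ∀ v ∈ U, ∀ w ∈ W, polar (plusForm 4 F) v w = 0)
    (h' : ∀ v ∈ U', ∀ w ∈ W, polar (plusForm 4 F) v w = 0) :
    ∀ v ∈ U ⊔ U', ∀ w ∈ W, polar (plusForm 4 F) v w = 0 := by
  intro v hv w hw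
  obtain ⟨a, ha, b, hb, rfl⟩ := Submodule.mem_sup.1 hv
  rw [polar_add_left, h a ha w hw, h' b hb w hw, add_zero]

variable [Finite F] (two : ∀ k, finrank F (P k) = 2)
  (perp : ∀ k l, k ≠ l → ∀ v ∈ P k, ∀ w ∈ P l, polar (plusForm 4 F) v w = 0)
  (aniso : ∀ k, ∀ v ∈ P k, plusForm 4 F v = 0 → v = 0)

include two aniso perp in
theorem finrank_pair {a b : Fin 4} (hab : a ≠ b) : finrank F (P a ⊔ P b : Submodule F (V8 F)) = 4 := by
  have h1 := Submodule.finrank_sup_add_finrank_inf_eq (P a) (P b)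
  rw [inf_bot (FMP.nd_of_aniso (two b) (aniso b)) (perp a b hab), finrank_bot, two, two, add_zero] at h1
  exact h1

include two aniso perp in
theorem span4 : P 0 ⊔ P 1 ⊔ P 2 ⊔ P 3 = ⊤ := by
  have nd : ∀ k, FMP.ND (plusForm 4 F) (P k) := fun k => FMP.nd_of_aniso (two k) (aniso k)
  have h01 := finrank_pair two perp aniso (a := 0) (b := 1) (by decide)
  have p2 := sup_perp (perp 0 2 (by decide)) (perp 1 2 (by decide))
  have p3 := sup_perp (sup_perp (perp 0 3 (by decide)) (perp 1 3 (by decide))) (perp 2 3 (by decide))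
  have h2 := Submodule.finrank_sup_add_finrank_inf_eq (P 0 ⊔ P 1) (P 2)
  rw [inf_bot (nd 2) p2, finrank_bot, two, h01, add_zero] at h2
  have h3 := Submodule.finrank_sup_add_finrank_inf_eq (P 0 ⊔ P 1 ⊔ P 2) (P 3)
  rw [inf_bot (nd 3) p3, finrank_bot, two, h2, add_zero] at h3
  apply Submodule.eq_top_of_finrank_eq
  rw [h3, finrank8]

include two aniso perp in
/-- two linear maps which agree on the planes are equal -/
theorem ext4 {f f' : V8 F ≃ₗ[F] V8 F} (h : ∀ k, ∀ v ∈ P k, f v = f' v) : f = f' := by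
  have h1 : P 0 ⊔ P 1 ⊔ P 2 ⊔ P 3 ≤ LinearMap.eqLocus (f : V8 F →ₗ[F] V8 F) (f' : V8 F →ₗ[F] V8 F) := by
    refine sup_le (sup_le (sup_le ?_ ?_) ?_) ?_
    · exact fun v hv => h 0 v hv
    · exact fun v hv => h 1 v hv
    · exact fun v hv => h 2 v hv
    · exact fun v hv => h 3 v hv
  rw [span4 two perp aniso] at h1
  ext1 v
  exact h1 (Submodule.mem_top : v ∈ (⊤ : Submodule F (V8 F)))

end planes

/-! ### lifting -/

section lift

variable {G Ω ι : Type} [Group G] [MulAction G Ω] {N : Subgroup G} {hG : Good (plusForm 4 F)}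
  {κ : P8 F →* G} {s : F ≃+* F} {x₁ : G} {x : ι → G} {r : ι → ℕ} {g : ι → (V8 F ≃ₗ[F] V8 F)}

theorem one8_ne : one8 F ≠ 0 := fun h0 => by
  have h6 := norm_one8 (F := F)
  rw [h0, QuadraticMap.map_zero] at h6
  exact zero_ne_one h6

/-- lifts of odd order are unique -/
theorem uniq (hG : Good (plusForm 4 F)) {l : ℕ} (hl : Odd l) {c d : ↥(E (plusForm 4 F))} (hc : c ^ l = 1)
    (hd : d ^ l = 1) (e : (c : P8 F) = (d : P8 F)) : c = d := by
  obtain ⟨k, hk, hv⟩ := sign_of_mk_eq hG e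
  have h1 := pow_of_smul hv l (one8 F)
  have e5 : ((c : V8 F ≃ₗ[F] V8 F) ^ l) = 1 := congrArg Subtype.val hc
  have e6 : ((d : V8 F ≃ₗ[F] V8 F) ^ l) = 1 := congrArg Subtype.val hd
  rw [e5, e6] at h1
  have e7 : one8 F = k ^ l • one8 F := h1
  have e8 : (1 - k ^ l) • one8 F = 0 := by rw [sub_smul, one_smul, ← e7, sub_self]
  have e10 := (smul_eq_zero.1 e8).resolve_right one8_ne
  have hk1 := eq_one_of_odd hk hl (sub_eq_zero.1 e10).symm
  apply Subtype.ext
  apply LinearEquiv.ext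
  intro v
  rw [hv v, hk1, one_smul]

/-- an element of `CN` of odd order `l` has a lift of order `l` commuting with the `g i` -/
theorem exists_lift (h : T3 hG N κ s Ω x₁ x r g) {l : ℕ} (hlodd : Odd l) {y : G} (hy : y ∈ CN N x)
    (hyl : y ^ l = 1) : ∃ c : ↥(E (plusForm 4 F)), c ^ l = 1 ∧
      (∀ i, (c : V8 F ≃ₗ[F] V8 F) * g i = g i * c) ∧ up κ c = y := by
  have hyC := mem_CN.1 hy
  obtain ⟨c0, hc0⟩ := h.exists_up hyC.1
  set z := c0 ^ l with hz
  have hz1 : ((z : ↥(E (plusForm 4 F))) : P8 F) = ((1 : ↥(E (plusForm 4 F))) : P8 F) := by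
    apply h.up_eq
    rw [hz, map_pow, hc0, hyl, map_one]
  obtain ⟨e, he, hev⟩ := sign_of_mk_eq hG hz1.symm
  have hzz : z * z = 1 := by
    apply Subtype.ext
    apply LinearEquiv.ext
    intro v
    change (z : V8 F ≃ₗ[F] V8 F) ((z : V8 F ≃ₗ[F] V8 F) v) = v
    rw [hev, hev]
    change e • e • v = v
    rw [smul_smul, he, one_smul]
  have hzc : z * c0 = c0 * z := by rw [hz, ← pow_succ, ← pow_succ']
  have hupz : up κ z = 1 := by
    rw [hz, map_pow, hc0, hyl]
  have hup : up κ (c0 * z) = y := by rw [map_mul, hupz, mul_one, hc0]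
  have hcl : (c0 * z) ^ l = 1 := by
    rw [(show Commute c0 z from hzc.symm).mul_pow, ← hz]
    obtain ⟨m, hm⟩ := hlodd
    rw [hm, pow_succ, pow_mul, pow_two, hzz, one_pow, one_mul, hzz]
  refine ⟨c0 * z, hcl, ?_, hup⟩
  intro i
  set c := c0 * z with hcdef
  let g' : ↥(E (plusForm 4 F)) := ⟨g i, (h.mem i).1⟩
  have h1 : ((g' * c : ↥(E (plusForm 4 F))) : P8 F) = ((c * g' : ↥(E (plusForm 4 F))) : P8 F) := by
    apply h.up_eq
    have h2 := hyC.2 i
    rw [h.x_eq] at h2
    rw [map_mul (up κ) g' c, map_mul (up κ) c g', hup]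
    exact h2.symm
  obtain ⟨e', he', hev'⟩ := sign_of_mk_eq hG h1
  have h3 : ∀ (n : ℕ) (v : V8 F), ((c : V8 F ≃ₗ[F] V8 F) ^ n) (g i v) = e' ^ n • g i (((c : V8 F ≃ₗ[F] V8 F) ^ n) v) := by
    intro n
    induction n with
    | zero => intro v; rw [pow_zero, pow_zero, one_smul]; rfl
    | succ n ih =>
      intro v
      have h4 : ∀ w, (c : V8 F ≃ₗ[F] V8 F) (g i w) = e' • g i ((c : V8 F ≃ₗ[F] V8 F) w) := hev'
      rw [pow_succ, LinearEquiv.mul_apply, h4, map_smul, ih, smul_smul, pow_succ', LinearEquiv.mul_apply]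
  have h5 := h3 l ((g i).symm (one8 F))
  have h6 : ((c : V8 F ≃ₗ[F] V8 F) ^ l) = 1 := congrArg Subtype.val hcl
  rw [h6] at h5
  have h7 : one8 F = e' ^ l • one8 F := by
    have h8 : g i ((g i).symm (one8 F)) = e' ^ l • g i ((g i).symm (one8 F)) := h5
    rwa [LinearEquiv.apply_symm_apply] at h8
  have e8 : (1 - e' ^ l) • one8 F = 0 := by rw [sub_smul, one_smul, ← h7, sub_self]
  have e10 := (smul_eq_zero.1 e8).resolve_right one8_ne
  have he1 : e' = 1 := eq_one_of_odd he' hlodd (sub_eq_zero.1 e10).symm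
  apply LinearEquiv.ext
  intro v
  have h9 := hev' v
  rw [he1, one_smul] at h9
  exact h9

/-- an element of odd order whose image commutes with `x₁` is in `AutD` -/
theorem mem_AutD_of_comm (h : T3 hG N κ s Ω x₁ x r g) {l : ℕ} (hlodd : Odd l) {c : ↥(E (plusForm 4 F))}
    (hc : c ^ l = 1) (hcm : x₁ * up κ c = up κ c * x₁) : (c : V8 F ≃ₗ[F] V8 F) ∈ AutD (fG s) := by
  obtain ⟨c', hc', hcD⟩ := h.mem_of_comm c hcm
  have e3 : c' ^ l = 1 := AutD_unique hG (τ := fG s) (by
    rw [Subgroup.coe_pow]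
    exact (AutD (fG s)).pow_mem hcD _) ((AutD (fG s)).one_mem) (by
      have e1 : ((c' ^ l : ↥(E (plusForm 4 F))) : P8 F) = ((c ^ l : ↥(E (plusForm 4 F))) : P8 F) := by
        have : ((c' : P8 F)) ^ l = ((c : ↥(E (plusForm 4 F))) : P8 F) ^ l := by rw [hc']
        exact this
      rw [e1, hc])
  rw [← uniq hG hlodd e3 hc hc']
  exact hcD

end lift

/-! ### box Y -/

section box

variable {G Ω ι : Type} [Group G] [MulAction G Ω] {N : Subgroup G} {hG : Good (plusForm 4 F)}
  {κ : P8 F →* G} {s : F ≃+* F} {x₁ : G} {x : ι → G} {r : ι → ℕ} {g : ι → (V8 F ≃ₗ[F] V8 F)}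
  {P : Fin 4 → Submodule F (V8 F)} {l : ℕ} {ρ : Fin 4 → ↥(E (plusForm 4 F))} {τ : F}

/-- order dividing `l`, commuting with the `g i` -/
def InB (g : ι → (V8 F ≃ₗ[F] V8 F)) (l : ℕ) (c : ↥(E (plusForm 4 F))) : Prop :=
  c ^ l = 1 ∧ ∀ i, (c : V8 F ≃ₗ[F] V8 F) * g i = g i * c

/-- `c` acts on `P k` as `ρ k ^ n` -/
def Ex (P : Fin 4 → Submodule F (V8 F)) (ρ : Fin 4 → ↥(E (plusForm 4 F))) (k : Fin 4) (c : ↥(E (plusForm 4 F)))
    (n : ℕ) : Prop :=
  ∀ v ∈ P k, (c : V8 F ≃ₗ[F] V8 F) v = ((ρ k ^ n : ↥(E (plusForm 4 F))) : V8 F ≃ₗ[F] V8 F) v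

theorem rho_pow_mem (hρ : Rot P l τ ρ) (k j : Fin 4) (n : ℕ) {v : V8 F} (hv : v ∈ P j) :
    ((ρ k ^ n : ↥(E (plusForm 4 F))) : V8 F ≃ₗ[F] V8 F) v ∈ P j := by
  induction n with
  | zero => rw [pow_zero]; exact hv
  | succ n ih =>
    rw [pow_succ']
    change (ρ k : V8 F ≃ₗ[F] V8 F) (((ρ k ^ n : ↥(E (plusForm 4 F))) : V8 F ≃ₗ[F] V8 F) v) ∈ P j
    by_cases hjk : j = k
    · subst hjk
      exact hρ.inv j _ ih
    · rw [hρ.triv k j hjk _ ih]
      exact ih

theorem rho_pow_triv (hρ : Rot P l τ ρ) {k j : Fin 4} (hjk : j ≠ k) (n : ℕ) {v : V8 F} (hv : v ∈ P j) :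
    ((ρ k ^ n : ↥(E (plusForm 4 F))) : V8 F ≃ₗ[F] V8 F) v = v := by
  induction n with
  | zero => rw [pow_zero]; rfl
  | succ n ih =>
    rw [pow_succ']
    change (ρ k : V8 F ≃ₗ[F] V8 F) (((ρ k ^ n : ↥(E (plusForm 4 F))) : V8 F ≃ₗ[F] V8 F) v) = v
    rw [ih, hρ.triv k j hjk v hv]

theorem Ex.mul (hρ : Rot P l τ ρ) {k : Fin 4} {c d : ↥(E (plusForm 4 F))} {m n : ℕ} (hc : Ex P ρ k c m)
    (hd : Ex P ρ k d n) : Ex P ρ k (c * d) (m + n) := by
  intro v hv
  change (c : V8 F ≃ₗ[F] V8 F) ((d : V8 F ≃ₗ[F] V8 F) v) = _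
  rw [hd v hv, hc _ (rho_pow_mem hρ k k n hv), pow_add]
  rfl

theorem Ex.congr (hρ : Rot P l τ ρ) {k : Fin 4} {c : ↥(E (plusForm 4 F))} {m n : ℕ} (hc : Ex P ρ k c m)
    (hmn : m ≡ n [MOD l]) : Ex P ρ k c n := by
  have h1 : ρ k ^ m = ρ k ^ n := by
    rw [pow_eq_pow_iff_modEq]
    exact hmn.of_dvd (orderOf_dvd_of_pow_eq_one (hρ.pow k))
  intro v hv
  rw [hc v hv, h1]

theorem Ex.unique (two : ∀ k, finrank F (P k) = 2) (hl : l.Prime) (hρ : Rot P l τ ρ) {k : Fin 4}
    {c : ↥(E (plusForm 4 F))} {m n : ℕ} (hc : Ex P ρ k c m) (hd : Ex P ρ k c n) : m ≡ n [MOD l] := by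
  have := Fact.mk hl
  -- `ρ k` has order `l` on `P k`
  have key : ∀ d : ℕ, (∀ v ∈ P k, ((ρ k ^ d : ↥(E (plusForm 4 F))) : V8 F ≃ₗ[F] V8 F) v = v) → l ∣ d := by
    intro d hd
    by_contra hnd
    obtain ⟨v, hv, hv0⟩ : ∃ v ∈ P k, v ≠ 0 := by
      by_contra hc
      push Not at hc
      have : P k = ⊥ := by rw [Submodule.eq_bot_iff]; exact hc
      have h3 := two k
      rw [this, finrank_bot] at h3
      omega
    apply hv0
    apply hρ.ne k v hv 1
    rw [one_smul]
    -- `d * e ≡ 1`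
    have hcop : Nat.Coprime d l := (Nat.Coprime.symm ((Nat.Prime.coprime_iff_not_dvd hl).2 hnd))
    obtain ⟨e, -, he⟩ := Nat.exists_mul_mod_eq_one_of_coprime hcop hl.one_lt
    have h1 : ρ k ^ (d * e) = ρ k := by
      conv_rhs => rw [← pow_one (ρ k)]
      rw [pow_eq_pow_iff_modEq]
      refine Nat.ModEq.of_dvd (orderOf_dvd_of_pow_eq_one (hρ.pow k)) ?_
      show d * e % l = 1 % l
      rw [he, Nat.mod_eq_of_lt hl.one_lt]
    have h2 : ∀ e : ℕ, (((ρ k ^ d) ^ e : ↥(E (plusForm 4 F))) : V8 F ≃ₗ[F] V8 F) v = v := by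
      intro e
      induction e with
      | zero => rw [pow_zero]; rfl
      | succ e ih =>
        rw [pow_succ]
        change (((ρ k ^ d) ^ e : ↥(E (plusForm 4 F))) : V8 F ≃ₗ[F] V8 F)
          (((ρ k ^ d : ↥(E (plusForm 4 F))) : V8 F ≃ₗ[F] V8 F) v) = v
        rw [hd v hv, ih]
    have h3 := h2 e
    rw [← pow_mul, h1] at h3
    exact h3
  have hwlog : ∀ m n : ℕ, m ≤ n → Ex P ρ k c m → Ex P ρ k c n → m ≡ n [MOD l] := by
    intro m n hmn hc hd
    rw [Nat.modEq_iff_dvd' hmn]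
    apply key
    intro v hv
    have h1 := hd v hv
    rw [hc v hv, ← Nat.sub_add_cancel hmn, add_comm, pow_add] at h1
    have h2 : ((ρ k ^ m : ↥(E (plusForm 4 F))) : V8 F ≃ₗ[F] V8 F) v =
      ((ρ k ^ m : ↥(E (plusForm 4 F))) : V8 F ≃ₗ[F] V8 F)
        (((ρ k ^ (n - m) : ↥(E (plusForm 4 F))) : V8 F ≃ₗ[F] V8 F) v) := h1
    exact ((LinearEquiv.injective _ h2)).symm
  rcases le_total m n with h | h
  · exact hwlog m n h hc hd
  · exact (hwlog n m h hd hc).symm

theorem InB.exists_ex (hP : G3 g P) (hl : l.Prime) (hl2 : l ≠ 2) (hlF : (l : F) ≠ 0) (hρ : Rot P l τ ρ)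
    {c : ↥(E (plusForm 4 F))} (hc : InB g l c) (k : Fin 4) : ∃ n : ℕ, Ex P ρ k c n := by
  have hcl : (c : V8 F ≃ₗ[F] V8 F) ^ l = 1 := congrArg Subtype.val hc.1
  have h1 := hP.pres c c.2 hc.2 l 1 hl hl2 hlF (by rw [pow_one]; exact hcl)
  exact hρ.gen c (E_le_O c.2) hcl h1 k

theorem Ex.comm [Finite F] (hP : G3 g P) (hρ : Rot P l τ ρ) {c d : ↥(E (plusForm 4 F))}
    (hc : ∀ k, ∃ n, Ex P ρ k c n) (hd : ∀ k, ∃ n, Ex P ρ k d n) : c * d = d * c := by
  apply Subtype.ext
  apply ext4 hP.two hP.perp hP.aniso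
  intro k v hv
  obtain ⟨m, hm⟩ := hc k
  obtain ⟨n, hn⟩ := hd k
  rw [hm.mul hρ hn v hv, hn.mul hρ hm v hv, add_comm]

theorem rho_inB [Finite F] (h : T3 hG N κ s Ω x₁ x r g) (hP : G3 g P)
    (hrp : ∀ i, (r i : F) ≠ 0) (hrot : ∀ k i, ∃ t : F, ∀ v ∈ P k, g i (g i v) + v = t • g i v)
    (hρ : Rot P l τ ρ) (k : Fin 4) : InB g l (ρ k) := by
  refine ⟨hρ.pow k, fun i => ?_⟩
  apply ext4 hP.two hP.perp hP.aniso
  intro j v hv
  change (ρ k : V8 F ≃ₗ[F] V8 F) (g i v) = g i ((ρ k : V8 F ≃ₗ[F] V8 F) v)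
  by_cases hjk : j = k
  · subst hjk
    obtain ⟨t, ht⟩ := hrot j i
    exact (hρ.comm j t (r i) (hrp i) (g i) (E_le_O (h.mem i).1) (h.pow i) (hP.inv j i) ht v hv).symm
  · rw [hρ.triv k j hjk v hv, hρ.triv k j hjk _ (hP.inv j i v hv)]

theorem InB.mul [Finite F] (hP : G3 g P) (hl : l.Prime) (hl2 : l ≠ 2) (hlF : (l : F) ≠ 0) (hρ : Rot P l τ ρ)
    {c d : ↥(E (plusForm 4 F))} (hc : InB g l c) (hd : InB g l d) : InB g l (c * d) := by
  have hcd : Commute c d := Ex.comm hP hρ (fun k => hc.exists_ex hP hl hl2 hlF hρ k)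
    (fun k => hd.exists_ex hP hl hl2 hlF hρ k)
  refine ⟨by rw [hcd.mul_pow, hc.1, hd.1, one_mul], fun i => ?_⟩
  rw [Subgroup.coe_mul, mul_assoc, hd.2, ← mul_assoc, hc.2, mul_assoc]

theorem InB.inv {c : ↥(E (plusForm 4 F))} (hc : InB g l c) : InB g l c⁻¹ := by
  refine ⟨by rw [inv_pow, hc.1, inv_one], fun i => ?_⟩
  rw [Subgroup.coe_inv, inv_mul_eq_iff_eq_mul, ← mul_assoc, hc.2, mul_inv_cancel_right]

theorem InB.one : InB g l (1 : ↥(E (plusForm 4 F))) :=
  ⟨one_pow l, fun i => by rw [Subgroup.coe_one, one_mul, mul_one]⟩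

theorem InB.pow [Finite F] (hP : G3 g P) (hl : l.Prime) (hl2 : l ≠ 2) (hlF : (l : F) ≠ 0) (hρ : Rot P l τ ρ)
    {c : ↥(E (plusForm 4 F))} (hc : InB g l c) (n : ℕ) : InB g l (c ^ n) := by
  induction n with
  | zero => rw [pow_zero]; exact InB.one
  | succ n ih => rw [pow_succ]; exact ih.mul hP hl hl2 hlF hρ hc

theorem InB.ex_inv (hρ : Rot P l τ ρ) (hl : l.Prime) {k : Fin 4}
    {c : ↥(E (plusForm 4 F))} {n : ℕ} (hc : Ex P ρ k c n) : Ex P ρ k c⁻¹ ((l - 1) * n) := by
  intro v hv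
  have h1 := rho_pow_mem hρ k k ((l - 1) * n) hv
  have h2 := hc _ h1
  have h3 : ρ k ^ n * ρ k ^ ((l - 1) * n) = 1 := by
    rw [← pow_add]
    have : n + (l - 1) * n = l * n := by
      obtain ⟨m, rfl⟩ : ∃ m, l = m + 1 := ⟨l - 1, by have := hl.pos; omega⟩
      rw [Nat.add_sub_cancel]; ring
    rw [this, pow_mul, hρ.pow, one_pow]
  have h4 : ((ρ k ^ n : ↥(E (plusForm 4 F))) : V8 F ≃ₗ[F] V8 F)
      (((ρ k ^ ((l - 1) * n) : ↥(E (plusForm 4 F))) : V8 F ≃ₗ[F] V8 F) v) = v := by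
    have h5 := congrArg (fun z : ↥(E (plusForm 4 F)) => (z : V8 F ≃ₗ[F] V8 F) v) h3
    exact h5
  rw [h4] at h2
  change (c : V8 F ≃ₗ[F] V8 F).symm v = _
  rw [LinearEquiv.symm_apply_eq]
  exact h2.symm

/-- the product of powers of the rotations -/
def pr (ρ : Fin 4 → ↥(E (plusForm 4 F))) (a : Fin 4 → ℕ) : ↥(E (plusForm 4 F)) :=
  ρ 0 ^ a 0 * ρ 1 ^ a 1 * ρ 2 ^ a 2 * ρ 3 ^ a 3

theorem rho_ex (hρ : Rot P l τ ρ) (k j : Fin 4) (n : ℕ) : Ex P ρ j (ρ k ^ n) (if j = k then n else 0) := by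
  intro v hv
  by_cases hjk : j = k
  · subst hjk; rw [if_pos rfl]
  · rw [if_neg hjk, rho_pow_triv hρ hjk n hv, pow_zero]; rfl

theorem pr_ex (hρ : Rot P l τ ρ) (a : Fin 4 → ℕ) (k : Fin 4) : Ex P ρ k (pr ρ a) (a k) := by
  have h := (((rho_ex hρ 0 k (a 0)).mul hρ (rho_ex hρ 1 k (a 1))).mul hρ (rho_ex hρ 2 k (a 2))).mul hρ
    (rho_ex hρ 3 k (a 3))
  have e : (if k = 0 then a 0 else 0) + (if k = 1 then a 1 else 0) + (if k = 2 then a 2 else 0) +
      (if k = 3 then a 3 else 0) = a k := by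
    (revert k; simp only [_root_.Fin.forall_fin_succ, Fin.isValue, ↓reduceIte, _root_.zero_ne_one, _root_.add_zero, Fin.reduceEq, _root_.implies_true, _root_.Fin.succ_ne_zero, _root_.zero_add, _root_.Fin.succ_zero_eq_one, _root_.Fin.succ_one_eq_two, Fin.reduceSucc, _root_.IsEmpty.forall_iff, _root_.and_self])
  rw [e] at h
  exact h

/-- the action of `x₁` on `B` -/
theorem exists_beta [Finite F] (h : T3 hG N κ s Ω x₁ x r g) (hlodd : Odd l) {b : ↥(E (plusForm 4 F))}
    (hb : InB g l b) : ∃ c : ↥(E (plusForm 4 F)), InB g l c ∧ up κ c = x₁ * up κ b * x₁⁻¹ := by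
  have h1 : x₁ * up κ b * x₁⁻¹ ∈ CN N x := h.conj_CN _ (h.up_mem_CN hb.2)
  have h2 : (x₁ * up κ b * x₁⁻¹) ^ l = 1 := by
    rw [conj_pow, ← map_pow, hb.1, map_one, mul_one, mul_inv_cancel]
  obtain ⟨c, hc1, hc2, hc3⟩ := exists_lift h hlodd h1 h2
  exact ⟨c, ⟨hc1, hc2⟩, hc3⟩

/-- **BOX Y**: the element `y` of `[C, x₁]`. -/
theorem exists_y [Finite F] [Finite G] [Finite ι] (h : T3 hG N κ s Ω x₁ x r g)
    (hP : G3 g P) (hrp : ∀ i, (r i : F) ≠ 0)
    (hrot : ∀ k i, ∃ t : F, ∀ v ∈ P k, g i (g i v) + v = t • g i v) (hl : l.Prime) (hl2 : l ≠ 2) (hlF : (l : F) ≠ 0) (hρ : Rot P l τ ρ) :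
    ∃ y : ↥(E (plusForm 4 F)), y ^ l = 1 ∧ y ≠ 1 ∧ up κ y ∈ comC (CN N x) x₁ ∧
      (∀ i, (y : V8 F ≃ₗ[F] V8 F) * g i = g i * y) ∧
      ∃ n : ℕ, ∀ v ∈ P 0 ⊔ P 1, (y : V8 F ≃ₗ[F] V8 F) v =
        (((ρ 0 * ρ 1) ^ n : ↥(E (plusForm 4 F))) : V8 F ≃ₗ[F] V8 F) v := by
  classical
  have hlodd : Odd l := hl.odd_of_ne_two hl2
  have hlpos := hl.pos
  haveI : NeZero l := ⟨hl.ne_zero⟩
  -- the pair which is not closed
  obtain ⟨A, A', hAA, hcl⟩ := FMP.exists_not_closed (σ := s) (m := dia (fG s))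
    (fun u w => H256.RC.dia_norm u w) (H256.RC.dia_polar h.cube) P hP.two hP.perp hP.aniso
  -- the commutator map on `B`
  have hphi : ∀ b : ↥(E (plusForm 4 F)), ∃ c : ↥(E (plusForm 4 F)), InB g l b →
      InB g l c ∧ up κ c = up κ b * x₁ * (up κ b)⁻¹ * x₁⁻¹ := by
    intro b
    by_cases hb : InB g l b
    · obtain ⟨c, hc, hc'⟩ := exists_beta h hlodd hb.inv
      refine ⟨b * c, fun _ => ⟨hb.mul hP hl hl2 hlF hρ hc, ?_⟩⟩
      rw [map_mul, hc', map_inv]
      group
    · exact ⟨1, fun hb' => (hb hb').elim⟩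
  choose φ hφ using hphi
  -- exponents
  have hexp : ∀ (c : ↥(E (plusForm 4 F))) (k : Fin 4), ∃ n : ℕ, InB g l c → Ex P ρ k c n := by
    intro c k
    by_cases hc : InB g l c
    · obtain ⟨n, hn⟩ := hc.exists_ex hP hl hl2 hlF hρ k
      exact ⟨n, fun _ => hn⟩
    · exact ⟨0, fun hc' => (hc hc').elim⟩
  choose e he using hexp
  let pa : (Fin 4 → Fin l) → ↥(E (plusForm 4 F)) := fun a => pr ρ (fun k => (a k : ℕ))
  have hpa : ∀ a, InB g l (pa a) := by
    intro a
    have hr := fun k => (rho_inB h hP hrp hrot hρ k).pow hP hl hl2 hlF hρ (a k : ℕ)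
    exact (((hr 0).mul hP hl hl2 hlF hρ (hr 1)).mul hP hl hl2 hlF hρ (hr 2)).mul hP hl hl2 hlF hρ (hr 3)
  let f : (Fin 4 → Fin l) → Fin l × Fin l × Fin l := fun a =>
    (a A, a A', ⟨(e (φ (pa a)) 0 + (l - 1) * e (φ (pa a)) 1) % l, Nat.mod_lt _ hlpos⟩)
  have hninj : ¬ Function.Injective f := by
    intro hf
    have h1 := Fintype.card_le_of_injective f hf
    rw [Fintype.card_prod, Fintype.card_prod, Fintype.card_fin, Fintype.card_fun, Fintype.card_fin,
      Fintype.card_fin] at h1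
    have h2 : l * (l * l) = l ^ 3 := by ring
    rw [h2] at h1
    have h3 : l ^ 3 < l ^ 4 := Nat.pow_lt_pow_right hl.one_lt (by norm_num)
    omega
  rw [Function.Injective] at hninj
  push Not at hninj
  obtain ⟨a, b, hab, hne⟩ := hninj
  have hA : a A = b A := congrArg Prod.fst hab
  have hA' : a A' = b A' := congrArg (fun z => z.2.1) hab
  have h3 : (e (φ (pa a)) 0 + (l - 1) * e (φ (pa a)) 1) % l = (e (φ (pa b)) 0 + (l - 1) * e (φ (pa b)) 1) % l :=
    congrArg (fun z : Fin l × Fin l × Fin l => (z.2.2 : ℕ)) hab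
  -- the element `c`
  set c := pa a * (pa b)⁻¹ with hc
  have hcB : InB g l c := (hpa a).mul hP hl hl2 hlF hρ (hpa b).inv
  have hφa := hφ _ (hpa a)
  have hφb := hφ _ (hpa b)
  set y := φ (pa a) * (φ (pa b))⁻¹ with hy
  have hyB : InB g l y := hφa.1.mul hP hl hl2 hlF hρ hφb.1.inv
  -- `y` is the commutator of `c`
  have hcomm : ∀ c d : ↥(E (plusForm 4 F)), InB g l c → InB g l d → c * d = d * c := fun c d hc hd =>
    Ex.comm hP hρ (fun k => hc.exists_ex hP hl hl2 hlF hρ k) (fun k => hd.exists_ex hP hl hl2 hlF hρ k)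
  have hup : up κ y = up κ c * x₁ * (up κ c)⁻¹ * x₁⁻¹ := by
    obtain ⟨ba, hba, hba'⟩ := exists_beta h hlodd (hpa a).inv
    obtain ⟨bb, hbb, hbb'⟩ := exists_beta h hlodd (hpa b)
    have e1 : up κ (φ (pa a)) = up κ (pa a * ba) := by
      rw [hφa.2, map_mul, hba', map_inv]; group
    have e2 : (up κ (φ (pa b)))⁻¹ = up κ (bb * (pa b)⁻¹) := by
      rw [hφb.2, map_mul, hbb', map_inv]; group
    have e3 : up κ c * x₁ * (up κ c)⁻¹ * x₁⁻¹ = up κ (pa a * (pa b)⁻¹ * (bb * ba)) := by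
      have e4 : up κ (bb * ba) = x₁ * up κ (pa b) * x₁⁻¹ * (x₁ * (up κ (pa a))⁻¹ * x₁⁻¹) := by
        simp only [map_mul, hbb', hba', map_inv]
      have e5 : up κ (pa a * (pa b)⁻¹ * (bb * ba)) = up κ (pa a) * (up κ (pa b))⁻¹ * up κ (bb * ba) := by
        simp only [map_mul, map_mul, map_inv]
      simp only [hc, map_mul, map_inv, e5, e4]; group
    simp_rw [hy, map_mul, map_inv, e1, e2, e3, ← map_mul]
    congr 1
    have c1 := hcomm ba (bb * (pa b)⁻¹) hba (hbb.mul hP hl hl2 hlF hρ (hpa b).inv)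
    have c2 := hcomm bb (pa b)⁻¹ hbb (hpa b).inv
    calc pa a * ba * (bb * (pa b)⁻¹) = pa a * (ba * (bb * (pa b)⁻¹)) := by group
      _ = pa a * (bb * (pa b)⁻¹ * ba) := by rw [c1]
      _ = pa a * ((pa b)⁻¹ * bb * ba) := by rw [c2]
      _ = _ := by group
  refine ⟨y, hyB.1, ?_, ?_, hyB.2, ?_⟩
  · -- `y ≠ 1`
    intro hy1
    rw [hy1, map_one] at hup
    have hcm : x₁ * up κ c = up κ c * x₁ := by
      have h5 : up κ c * x₁ * (up κ c)⁻¹ = x₁ := by
        have := hup.symm
        rwa [mul_inv_eq_one] at this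
      rw [mul_inv_eq_iff_eq_mul] at h5
      exact h5.symm
    have hcD := mem_AutD_of_comm h hlodd hcB.1 hcm
    have hc1 : (c : V8 F ≃ₗ[F] V8 F) = 1 := by
      refine FMP.eq_one_of_fix (Q := plusForm 4 F) (σ := s) (m := dia (fG s)) (n := l)
        (W := P A ⊔ P A') finrank8 (H256.RC.tc_fG h.cube) (H256.RC.dia_polar h.cube)
        (Cfsg.Agent.ClassicalGeometry.Triality.nondeg8 (F := F)) (fun u v => H256.RC.AutD_polar hcD u v)
        (fun u w => hcD.2 u w) hlF (congrArg Subtype.val hcB.1)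
        (finrank_pair hP.two hP.perp hP.aniso hAA).ge hcl ?_
      have hfx : ∀ k, a k = b k → ∀ v ∈ P k, (c : V8 F ≃ₗ[F] V8 F) v = v := by
        intro k hk v hv
        have h6 := (pr_ex hρ (fun k => (a k : ℕ)) k).mul hρ
          (InB.ex_inv hρ hl (pr_ex hρ (fun k => (b k : ℕ)) k)) v hv
        have h7 : (a k : ℕ) + (l - 1) * (b k : ℕ) = l * (b k : ℕ) := by
          rw [hk]
          obtain ⟨m, hm⟩ : ∃ m, l = m + 1 := ⟨l - 1, by omega⟩
          have : l - 1 = m := by omega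
          rw [this]
          calc (b k : ℕ) + m * (b k : ℕ) = (m + 1) * (b k : ℕ) := by ring
            _ = l * (b k : ℕ) := by rw [← hm]
        have h8 : (c : V8 F ≃ₗ[F] V8 F) v = ((ρ k ^ (l * (b k : ℕ)) : ↥(E (plusForm 4 F))) : V8 F ≃ₗ[F] V8 F) v := by
          rw [← h7]
          exact h6
        rw [h8, pow_mul, hρ.pow, one_pow]
        rfl
      intro v hv
      obtain ⟨v1, hv1, v2, hv2, rfl⟩ := Submodule.mem_sup.1 hv
      rw [map_add, hfx A hA v1 hv1, hfx A' hA' v2 hv2]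
    apply hne
    have hc2 : pa a = pa b := by
      have : c = 1 := Subtype.ext hc1
      rw [hc] at this
      exact mul_inv_eq_one.1 this
    funext k
    have h9 : Ex P ρ k (pa a) (a k : ℕ) := pr_ex hρ (fun k => (a k : ℕ)) k
    have h10 : Ex P ρ k (pa a) (b k : ℕ) := by
      rw [hc2]
      exact pr_ex hρ (fun k => (b k : ℕ)) k
    have h11 := Ex.unique hP.two hl hρ h9 h10
    apply Fin.ext
    have h12 : (a k : ℕ) % l = (b k : ℕ) % l := h11
    rwa [Nat.mod_eq_of_lt (a k).2, Nat.mod_eq_of_lt (b k).2] at h12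
  · rw [hup]
    exact cm_mem_comC (h.up_mem_CN hcB.2)
  · -- shape
    have hy0 := (he _ 0 hφa.1).mul hρ (InB.ex_inv hρ hl (he _ 0 hφb.1))
    have hy1 := (he _ 1 hφa.1).mul hρ (InB.ex_inv hρ hl (he _ 1 hφb.1))
    set u0 := e (φ (pa a)) 0
    set u1 := e (φ (pa a)) 1
    set w0 := e (φ (pa b)) 0
    set w1 := e (φ (pa b)) 1
    have hmod : u1 + (l - 1) * w1 ≡ u0 + (l - 1) * w0 [MOD l] := by
      rw [← ZMod.natCast_eq_natCast_iff]
      have hz := (ZMod.natCast_eq_natCast_iff _ _ _).2 h3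
      have hl1 : ((l - 1 : ℕ) : ZMod l) = -1 := by
        rw [Nat.cast_sub hl.one_lt.le, ZMod.natCast_self, Nat.cast_one, zero_sub]
      push_cast at hz ⊢
      rw [hl1] at hz ⊢
      linear_combination -hz
    have hy1' := hy1.congr hρ hmod
    refine ⟨u0 + (l - 1) * w0, ?_⟩
    set n := u0 + (l - 1) * w0
    have hc01 : Commute (ρ 0) (ρ 1) := hcomm _ _ (rho_inB h hP hrp hrot hρ 0) (rho_inB h hP hrp hrot hρ 1)
    have hE0 : Ex P ρ 0 ((ρ 0 * ρ 1) ^ n) n := by
      rw [hc01.mul_pow]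
      have := (rho_ex hρ 0 0 n).mul hρ (rho_ex hρ 1 0 n)
      simpa using this
    have hE1 : Ex P ρ 1 ((ρ 0 * ρ 1) ^ n) n := by
      rw [hc01.mul_pow]
      have := (rho_ex hρ 0 1 n).mul hρ (rho_ex hρ 1 1 n)
      simpa using this
    intro v hv
    obtain ⟨v1, hv1, v2, hv2, rfl⟩ := Submodule.mem_sup.1 hv
    rw [map_add, map_add, hE0 v1 hv1, hE1 v2 hv2]
    rw [show (y : V8 F ≃ₗ[F] V8 F) v1 = _ from hy0 v1 hv1, show (y : V8 F ≃ₗ[F] V8 F) v2 = _ from hy1' v2 hv2]

end box

end Cfsg.Agent.H452.RC.GThree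
end

-- part: H510/Tri3/FourB
section
/-!
# S3510, triality type iii: four anisotropic planes, modulo the existence of rotations (helper510)
-/

set_option autoImplicit false
set_option linter.unusedSectionVars false
open Cfsg

namespace Cfsg.Agent.H510.Tri3

open Module QuadraticMap MulAction
open Cfsg.Agent.LieClassical.OrthCore Cfsg.Agent.LieClassical.OrthTrans
open Cfsg.Agent.LieClassical.OrthSimple Cfsg.Agent.ClassicalGeometry.OrthSemi
open Cfsg.Agent.ClassicalGeometry.OrthAut1 Cfsg.Agent.H106.RC Cfsg.Agent.H93.RC Cfsg.Agent.H566.RC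
open Cfsg.Agent.LieClassical.QuadForms Cfsg.Agent.ClassicalGeometry.TrialityOct
open Cfsg.Agent.ClassicalGeometry.Triality Cfsg.Agent.ClassicalGeometry.TrialitySpaces
open Cfsg.Agent.H198.TriBase Cfsg.Agent.H198.TriAut Cfsg.Agent.H198.TriDia
open Cfsg.Agent.H206.Balance hiding Good
open Cfsg.Agent.H198.TwComp Cfsg.Agent.H198 Cfsg.Agent.H864.RC Cfsg.Agent.H452.RC.FMP

variable {F : Type} [Field F]

/-- BOX R -/
def RotStmt (F : Type) [Field F] : Prop :=
  ∀ (P : Fin 4 → Submodule F (V8 F)), (∀ k, finrank F (P k) = 2) →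
    (∀ k l, k ≠ l → ∀ v ∈ P k, ∀ w ∈ P l, polar (plusForm 4 F) v w = 0) →
    (∀ k, ∀ v ∈ P k, plusForm 4 F v = 0 → v = 0) → ∀ l : ℕ, l.Prime → l ≠ 2 → l ∣ Nat.card F + 1 →
    ∃ (ρ : Fin 4 → ↥(E (plusForm 4 F))) (τ : F), Rot P l τ ρ

variable {G Ω ι : Type} [Group G] [MulAction G Ω] {N : Subgroup G} {hG : Good (plusForm 4 F)}
  {κ : P8 F →* G} {s : F ≃+* F} {x₁ : G} {x : ι → G} {r : ι → ℕ} {g : ι → (V8 F ≃ₗ[F] V8 F)}

/-- four orthogonal anisotropic planes (the `g i` act as rotations on the planes) -/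
theorem dead_G3_mod [Finite F] [Finite G] [Finite ι] [Nonempty Ω] {p : ℕ} [CharP F p] (hR : RotStmt F)
    (h : T3 hG N κ s Ω x₁ x r g) (hIH : IH (Nat.card N)) (hrp : ∀ i, r i ≠ p)
    {P : Fin 4 → Submodule F (V8 F)} (hP : G3 g P)
    (hrot : ∀ k i, ∃ t : F, ∀ v ∈ P k, g i (g i v) + v = t • g i v) : False := by
  obtain ⟨q0, h0, hq, -, -, -⟩ := H256.RC.BQ h.cube h.ne
  obtain ⟨l, hl, hl2, hlq, hlc⟩ := exists_odd_prime h0 hq
  obtain ⟨ρ, τ, hρ⟩ := hR P hP.two hP.perp hP.aniso l hl hl2 hlq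
  have hp : p.Prime := CharP.char_is_prime F p
  have hpq : p ∣ Nat.card F := by
    haveI : Fintype F := Fintype.ofFinite F
    obtain ⟨n, -, hn⟩ := FiniteField.card F p
    rw [Nat.card_eq_fintype_card, hn]
    exact dvd_pow_self p n.ne_zero
  have hlp : l ≠ p := by
    rintro rfl
    exact (hl.coprime_iff_not_dvd.1 hlc) hpq
  have hlF : (l : F) ≠ 0 := by
    intro h1
    have h2 := (CharP.cast_eq_zero_iff F p l).1 h1
    exact hlp ((Nat.prime_dvd_prime_iff_eq hp hl).1 h2).symm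
  obtain ⟨y, hyl, hy1, hyD, hyg, n, hn⟩ :=
    H452.RC.GThree.exists_y h hP (natCast_ne h hrp) hrot hl hl2 hlF hρ
  exact dead_G3_of h hIH hrp hP hrot hl hlp hρ hyl hl2 hy1 hyD hyg n hn

end Cfsg.Agent.H510.Tri3
end

-- part: H384/RC/RotA
section
/-!
# Rotations of anisotropic planes over a finite field (helper384; S3510 triality type iii, BOX R)

`Coord Q P c j` : `j : P → K` (`K` the algebraic closure) identifies the plane `P` with the field of `q²` elements,
`Q v = c N (j v)`, `N x = x φ x`, `φ` the Frobenius map of `F`.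
-/

set_option autoImplicit false

namespace Cfsg.Agent.H384.RC.RotP

open Module QuadraticMap Polynomial
open Cfsg.Agent.LieClassical.OrthCore Cfsg.Agent.LieClassical.OrthTrans

section field

variable (F : Type*) [Field F] [Fintype F]

/-- the algebraic closure -/
abbrev KK : Type _ := AlgebraicClosure F

/-- the Frobenius map -/
noncomputable def fr : KK F →ₐ[F] KK F := FiniteField.frobeniusAlgHom F (KK F)

variable {F}

theorem fr_apply (x : KK F) : fr F x = x ^ Fintype.card F := rfl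

theorem mem_range {x : KK F} (hx : fr F x = x) : ∃ y : F, algebraMap F (KK F) y = x := by
  classical
  rw [fr_apply] at hx
  have hne : (X ^ Fintype.card F - X : (KK F)[X]) ≠ 0 :=
    FiniteField.X_pow_card_sub_X_ne_zero (KK F) Fintype.one_lt_card
  have hsub : (Finset.univ.image (algebraMap F (KK F))) ⊆ (X ^ Fintype.card F - X : (KK F)[X]).roots.toFinset := by
    intro y hy
    rw [Finset.mem_image] at hy
    obtain ⟨z, -, rfl⟩ := hy
    rw [Multiset.mem_toFinset, mem_roots hne, IsRoot.def, eval_sub, eval_pow, eval_X, ← map_pow,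
      FiniteField.pow_card, sub_self]
  have hcard : (X ^ Fintype.card F - X : (KK F)[X]).roots.toFinset.card ≤
      (Finset.univ.image (algebraMap F (KK F))).card := by
    rw [Finset.card_image_of_injective _ (algebraMap F (KK F)).injective, Finset.card_univ]
    refine (Multiset.toFinset_card_le _).trans ((card_roots' _).trans ?_)
    rw [FiniteField.X_pow_card_sub_X_natDegree_eq (KK F) Fintype.one_lt_card]
  have heq := Finset.eq_of_subset_of_card_le hsub hcard
  have hmem : x ∈ (X ^ Fintype.card F - X : (KK F)[X]).roots.toFinset := by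
    rw [Multiset.mem_toFinset, mem_roots hne, IsRoot.def, eval_sub, eval_pow, eval_X, hx, sub_self]
  rw [← heq, Finset.mem_image] at hmem
  obtain ⟨y, -, hy⟩ := hmem
  exact ⟨y, hy⟩

theorem fr_algebraMap (a : F) : fr F (algebraMap F (KK F) a) = algebraMap F (KK F) a := (fr F).commutes a

/-- coordinates with respect to `1`, `θ` -/
theorem exists_ab {θ : KK F} (h1 : fr F (fr F θ) = θ) (h2 : fr F θ ≠ θ) {x : KK F} (hx : fr F (fr F x) = x) :
    ∃ a b : F, x = algebraMap F (KK F) a + algebraMap F (KK F) b * θ := by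
  have h3 : θ - fr F θ ≠ 0 := fun h => h2 (sub_eq_zero.1 h).symm
  have h4 : fr F θ - θ ≠ 0 := fun h => h2 (sub_eq_zero.1 h)
  obtain ⟨b, hb⟩ := mem_range (x := (x - fr F x) / (θ - fr F θ)) (by
    rw [map_div₀, map_sub, map_sub, h1, hx, div_eq_div_iff h4 h3]
    ring)
  have hb' : algebraMap F (KK F) b * (θ - fr F θ) = x - fr F x := by
    rw [hb, div_mul_cancel₀ _ h3]
  obtain ⟨a, ha⟩ := mem_range (x := x - algebraMap F (KK F) b * θ) (by
    rw [map_sub, map_mul, fr_algebraMap]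
    linear_combination hb')
  exact ⟨a, b, by rw [ha]; ring⟩

/-- a primitive root of unity of order `l ∣ q + 1` -/
theorem exists_zeta {l : ℕ} (hl : l.Prime) (hl2 : l ≠ 2) (hlq : l ∣ Fintype.card F + 1) :
    ∃ ζ : KK F, IsPrimitiveRoot ζ l ∧ ζ * fr F ζ = 1 ∧ fr F ζ ≠ ζ := by
  obtain ⟨n, hp, hn⟩ := FiniteField.card F (ringChar F)
  have hlF : ((l : ℕ) : KK F) ≠ 0 := by
    intro h
    have h1 : ((l : ℕ) : F) = 0 := by
      apply (algebraMap F (KK F)).injective
      rw [map_natCast, h, map_zero]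
    have h2 : ringChar F ∣ l := (ringChar.spec F l).1 h1
    have h3 : ringChar F = l := (Nat.prime_dvd_prime_iff_eq hp hl).1 h2
    have h4 : l ∣ Fintype.card F := by
      rw [hn, h3]
      exact dvd_pow_self l n.2.ne'
    exact hl.one_lt.ne' (Nat.dvd_one.1 ((Nat.dvd_add_right h4).1 hlq))
  have hne : NeZero ((l : ℕ) : KK F) := ⟨hlF⟩
  obtain ⟨ζ, hζ⟩ := IsAlgClosed.exists_root (cyclotomic l (KK F))
    (degree_cyclotomic_pos l _ hl.pos).ne'
  have hpr : IsPrimitiveRoot ζ l := isRoot_cyclotomic_iff.1 hζ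
  refine ⟨ζ, hpr, ?_, ?_⟩
  · rw [fr_apply, ← pow_succ']
    obtain ⟨m, hm⟩ := hlq
    rw [hm, pow_mul, hpr.pow_eq_one, one_pow]
  · intro h
    have h1 : ζ * ζ = 1 := by
      have : ζ * fr F ζ = 1 := by
        rw [fr_apply, ← pow_succ']
        obtain ⟨m, hm⟩ := hlq
        rw [hm, pow_mul, hpr.pow_eq_one, one_pow]
      rwa [h] at this
    have h2 : l ∣ 2 := hpr.dvd_of_pow_eq_one 2 (by rw [pow_two, h1])
    exact hl2 ((Nat.prime_dvd_prime_iff_eq hl Nat.prime_two).1 h2)

end field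

section coord

variable {F V : Type*} [Field F] [Fintype F] [AddCommGroup V] [Module F V]

/-- coordinates of an anisotropic plane -/
structure Coord (Q : QuadraticForm F V) (P : Submodule F V) (c : F) (θ : KK F) (j : P →ₗ[F] KK F) : Prop where
  c0 : c ≠ 0
  inj : Function.Injective j
  img : ∀ x : KK F, fr F (fr F x) = x → ∃ v, j v = x
  fix : ∀ v, fr F (fr F (j v)) = j v
  nrm : ∀ v : P, algebraMap F (KK F) (Q v) = algebraMap F (KK F) c * (j v * fr F (j v))
  th1 : fr F (fr F θ) = θ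
  th2 : fr F θ ≠ θ

theorem exists_coord {Q : QuadraticForm F V} {P : Submodule F V} (h2 : finrank F P = 2)
    (ha : ∀ v ∈ P, Q v = 0 → v = 0) : ∃ (c : F) (θ : KK F) (j : P →ₗ[F] KK F), Coord Q P c θ j := by
  classical
  have hfd : Module.Finite F P := Module.finite_of_finrank_pos (by omega)
  let b : Basis (Fin 2) F P := Module.finBasisOfFinrankEq F P h2
  set v : V := ((b 0 : P) : V) with hv
  set w : V := ((b 1 : P) : V) with hw
  have hv0 : v ≠ 0 := fun h => b.ne_zero 0 (Subtype.ext h)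
  have hc : Q v ≠ 0 := fun h => hv0 (ha v (b 0).2 h)
  have hrep : ∀ x : P, x = b.repr x 0 • b 0 + b.repr x 1 • b 1 := by
    intro x
    conv_lhs => rw [← b.sum_repr x]
    rw [Fin.sum_univ_two]
  set c := Q v with hcdef
  set t := polar Q v w / c with ht
  set n := Q w / c with hn
  have htc : polar Q v w = c * t := by rw [ht, mul_div_cancel₀ _ hc]
  have hnc : Q w = c * n := by rw [hn, mul_div_cancel₀ _ hc]
  -- the polynomial has no root in `F`
  have hroot : ∀ r : F, r * r - t * r + n ≠ 0 := by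
    intro r hr
    have h3 : Q (w - r • v) = 0 := by
      have e : Q (w - r • v) = Q w + r * r * Q v - r * polar Q v w := by
        rw [sub_eq_add_neg, ← neg_smul]
        have e1 : Q (w + (-r) • v) = Q w + Q ((-r) • v) + polar Q w ((-r) • v) := by
          rw [polar]; ring
        rw [e1, QuadraticMap.map_smul, polar_smul_right, polar_comm Q w v]
        simp only [smul_eq_mul]
        ring
      rw [e, htc, hnc, ← hcdef]
      linear_combination c * hr
    have h4 : w - r • v ∈ P := P.sub_mem (b 1).2 (P.smul_mem r (b 0).2)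
    have h5 := ha _ h4 h3
    have h6 : b 1 = r • b 0 := Subtype.ext (sub_eq_zero.1 h5)
    have h7 := congrArg (fun x => b.repr x 1) h6
    simp only [_root_.Fin.isValue, _root_.Module.Basis.repr_self, _root_.Finsupp.single_eq_same, _root_.map_smul, _root_.Finsupp.smul_single, _root_.smul_eq_mul, _root_.mul_one, _root_.ne_eq, _root_.one_ne_zero, _root_.not_false_eq_true, _root_.Finsupp.single_eq_of_ne] at h7
  -- a root in `K`
  obtain ⟨θ, hθ⟩ := IsAlgClosed.exists_root (X ^ 2 - C (algebraMap F (KK F) t) * X + C (algebraMap F (KK F) n) : (KK F)[X])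
    (by
      have : (X ^ 2 - C (algebraMap F (KK F) t) * X + C (algebraMap F (KK F) n) : (KK F)[X]).degree = 2 := by
        compute_degree!
      rw [this]; norm_num)
  have hθ2 : θ * θ = algebraMap F (KK F) t * θ - algebraMap F (KK F) n := by
    rw [IsRoot.def, eval_add, eval_sub, eval_pow, eval_X, eval_mul, eval_C, eval_X, eval_C] at hθ
    linear_combination hθ
  have hth2 : fr F θ ≠ θ := by
    intro h
    obtain ⟨r, hr⟩ := mem_range h
    apply hroot r
    apply (algebraMap F (KK F)).injective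
    rw [map_add, map_sub, map_mul, map_mul, hr, map_zero]
    linear_combination hθ2
  have hsum : fr F θ = algebraMap F (KK F) t - θ := by
    have e1 : fr F θ * fr F θ = algebraMap F (KK F) t * fr F θ - algebraMap F (KK F) n := by
      rw [← map_mul, hθ2, map_sub, map_mul, fr_algebraMap, fr_algebraMap]
    have e2 : (fr F θ - θ) * (fr F θ + θ - algebraMap F (KK F) t) = 0 := by
      linear_combination e1 - hθ2
    rcases mul_eq_zero.1 e2 with h | h
    · exact absurd (sub_eq_zero.1 h) hth2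
    · linear_combination h
  have hprod : θ * fr F θ = algebraMap F (KK F) n := by
    rw [hsum]
    linear_combination -hθ2
  have hth1 : fr F (fr F θ) = θ := by
    rw [hsum, map_sub, fr_algebraMap, hsum]
    ring
  let j : P →ₗ[F] KK F := b.constr F ![1, θ]
  have hj0 : j (b 0) = 1 := by simp only [j, _root_.Fin.isValue, _root_.Module.Basis.constr_apply_fintype, _root_.Module.Basis.equivFun_self, _root_.ite_smul, _root_.one_smul, _root_.zero_smul, _root_.Finset.sum_ite_eq, _root_.Finset.mem_univ, ↓ _root_.reduceIte, _root_.Matrix.cons_val_zero]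
  have hj1 : j (b 1) = θ := by simp only [j, _root_.Fin.isValue, _root_.Module.Basis.constr_apply_fintype, _root_.Module.Basis.equivFun_self, _root_.ite_smul, _root_.one_smul, _root_.zero_smul, _root_.Finset.sum_ite_eq, _root_.Finset.mem_univ, ↓ _root_.reduceIte, _root_.Matrix.cons_val_one, _root_.Matrix.cons_val_fin_one]
  have hj : ∀ x : P, j x = algebraMap F (KK F) (b.repr x 0) + algebraMap F (KK F) (b.repr x 1) * θ := by
    intro x
    conv_lhs => rw [hrep x]
    rw [map_add, map_smul, map_smul, hj0, hj1, Algebra.smul_def, Algebra.smul_def, mul_one]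
  refine ⟨c, θ, j, hc, ?_, ?_, ?_, ?_, hth1, hth2⟩
  · rw [injective_iff_map_eq_zero]
    intro x hx
    rw [hj] at hx
    have hb0 : b.repr x 1 = 0 := by
      by_contra hne
      have hne' : algebraMap F (KK F) (b.repr x 1) ≠ 0 := (_root_.map_ne_zero _).2 hne
      apply hth2
      have h3 := congrArg (fr F) hx
      rw [map_add, map_mul, fr_algebraMap, fr_algebraMap, map_zero (fr F)] at h3
      apply mul_left_cancel₀ hne'
      linear_combination h3 - hx
    rw [hb0, map_zero (algebraMap F (KK F)), zero_mul, add_zero] at hx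
    have ha0 : b.repr x 0 = 0 := (_root_.map_eq_zero _).1 hx
    rw [hrep x, hb0, ha0, zero_smul, zero_smul, add_zero]
  · intro x hx
    obtain ⟨a, b', hab⟩ := exists_ab hth1 hth2 hx
    refine ⟨a • b 0 + b' • b 1, ?_⟩
    rw [map_add, map_smul, map_smul, hj0, hj1, Algebra.smul_def, Algebra.smul_def, mul_one, hab]
  · intro x
    rw [hj, map_add, map_mul, fr_algebraMap, fr_algebraMap, map_add, map_mul, fr_algebraMap, fr_algebraMap, hth1]
  · intro x
    have e : Q (x : V) = c * (b.repr x 0 * b.repr x 0 + b.repr x 0 * b.repr x 1 * t +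
        b.repr x 1 * b.repr x 1 * n) := by
      conv_lhs => rw [hrep x]
      have e1 : Q (((b.repr x 0 • b 0 + b.repr x 1 • b 1 : P)) : V) =
          Q (b.repr x 0 • v) + Q (b.repr x 1 • w) + polar Q (b.repr x 0 • v) (b.repr x 1 • w) := by
        rw [polar]
        push_cast
        ring
      rw [e1, QuadraticMap.map_smul, QuadraticMap.map_smul, polar_smul_left, polar_smul_right, htc, hnc, ← hcdef]
      simp only [smul_eq_mul]
      ring
    rw [e, hj]
    simp only [map_mul, map_add, fr_algebraMap]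
    rw [← hprod]
    have h9 : algebraMap F (KK F) t = fr F θ + θ := by rw [hsum]; ring
    rw [h9]
    ring

variable {Q : QuadraticForm F V} {P : Submodule F V} {c : F} {θ : KK F} {j : P →ₗ[F] KK F}

/-- isometries of the plane -/
theorem Coord.iso (h : Coord Q P c θ j) (g : P →ₗ[F] P) (hg : ∀ v, Q (g v : V) = Q (v : V)) :
    ∃ γ : KK F, γ * fr F γ = 1 ∧ ((∀ v, j (g v) = γ * j v) ∨ ∀ v, j (g v) = γ * fr F (j v)) := by
  have hcK : algebraMap F (KK F) c ≠ 0 := (_root_.map_ne_zero _).2 h.c0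
  have hN : ∀ v, j (g v) * fr F (j (g v)) = j v * fr F (j v) := by
    intro v
    apply mul_left_cancel₀ hcK
    rw [← h.nrm, ← h.nrm, hg]
  obtain ⟨v1, hv1⟩ := h.img 1 (by rw [map_one, map_one])
  obtain ⟨w1, hw1⟩ := h.img θ h.th1
  set γ := j (g v1) with hγ
  have hγ1 : γ * fr F γ = 1 := by
    rw [hγ, hN, hv1, map_one, mul_one]
  have hγ0 : γ ≠ 0 := left_ne_zero_of_mul_eq_one hγ1
  have hγ2 : fr F (fr F γ) = γ := h.fix _
  set y := j (g w1) * fr F γ with hy
  have hgy : j (g w1) = γ * y := by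
    rw [hy]
    calc j (g w1) = j (g w1) * (γ * fr F γ) := by rw [hγ1, mul_one]
      _ = _ := by ring
  have hNy : y * fr F y = θ * fr F θ := by
    have h1 := hN w1
    rw [hgy, hw1, map_mul] at h1
    calc y * fr F y = (γ * fr F γ) * (y * fr F y) := by rw [hγ1, one_mul]
      _ = _ := by rw [← h1]; ring
  have hTy : y + fr F y = θ + fr F θ := by
    have h1 := hN (v1 + w1)
    rw [map_add g, map_add j, map_add j, hgy, hv1, hw1, ← hγ, map_add (fr F), map_add (fr F), map_mul, map_one] at h1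
    have h2 : (γ + γ * y) * (fr F γ + fr F γ * fr F y) = (γ * fr F γ) * ((1 + y) * (1 + fr F y)) := by ring
    rw [h2, hγ1, one_mul] at h1
    linear_combination h1 - hNy
  have hcase : y = θ ∨ y = fr F θ := by
    have h1 : (y - θ) * (y - fr F θ) = 0 := by
      linear_combination y * hTy - hNy
    rcases mul_eq_zero.1 h1 with h | h
    · exact Or.inl (sub_eq_zero.1 h)
    · exact Or.inr (sub_eq_zero.1 h)
  refine ⟨γ, hγ1, ?_⟩
  have hgen : ∀ v, ∃ a b : F, j v = algebraMap F (KK F) a + algebraMap F (KK F) b * θ ∧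
      j (g v) = γ * (algebraMap F (KK F) a + algebraMap F (KK F) b * y) := by
    intro v
    obtain ⟨a, b, hab⟩ := exists_ab h.th1 h.th2 (h.fix v)
    refine ⟨a, b, hab, ?_⟩
    have hv : v = a • v1 + b • w1 := by
      apply h.inj
      rw [hab, map_add, map_smul, map_smul, hv1, hw1, Algebra.smul_def, Algebra.smul_def, mul_one]
    rw [hv, map_add, map_smul, map_smul, map_add, map_smul, map_smul, hgy, ← hγ, Algebra.smul_def,
      Algebra.smul_def]
    ring
  rcases hcase with hc | hc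
  · left
    intro v
    obtain ⟨a, b, h1, h2⟩ := hgen v
    rw [h2, h1, hc]
  · right
    intro v
    obtain ⟨a, b, h1, h2⟩ := hgen v
    rw [h2, h1, hc, map_add, map_mul, fr_algebraMap, fr_algebraMap]

/-- the rotation by `ζ` -/
noncomputable def Coord.rot (h : Coord Q P c θ j) (ζ : KK F) (hζ : ζ * fr F ζ = 1) : P ≃ₗ[F] P := by
  have h2 : fr F (fr F ζ) = ζ := by
    have h3 := congrArg (fr F) hζ
    rw [map_mul, map_one] at h3
    have h0 : fr F ζ ≠ 0 := right_ne_zero_of_mul_eq_one hζ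
    apply mul_left_cancel₀ h0
    rw [h3, mul_comm, hζ]
  have hm : ∀ v : P, ∃ w : P, j w = ζ * j v := fun v => h.img _ (by
    rw [map_mul, map_mul, h2, h.fix])
  have hm' : ∀ v : P, ∃ w : P, j w = fr F ζ * j v := fun v => h.img _ (by
    rw [map_mul, map_mul, h2, h.fix])
  exact
    { toFun := fun v => (hm v).choose
      map_add' := fun v w => h.inj (by
        rw [(hm _).choose_spec, map_add, map_add, (hm _).choose_spec, (hm _).choose_spec, mul_add])
      map_smul' := fun a v => h.inj (by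
        rw [(hm _).choose_spec, map_smul, RingHom.id_apply, map_smul, (hm _).choose_spec, mul_smul_comm])
      invFun := fun v => (hm' v).choose
      left_inv := fun v => h.inj (by
        rw [(hm' _).choose_spec, (hm _).choose_spec, ← mul_assoc, mul_comm (fr F ζ), hζ, one_mul])
      right_inv := fun v => h.inj (by
        rw [(hm _).choose_spec, (hm' _).choose_spec, ← mul_assoc, hζ, one_mul]) }

theorem Coord.j_rot (h : Coord Q P c θ j) (ζ : KK F) (hζ : ζ * fr F ζ = 1) (v : P) :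
    j (h.rot ζ hζ v) = ζ * j v := by
  unfold Coord.rot
  exact Exists.choose_spec (p := fun w => j w = ζ * j v) _

end coord

end Cfsg.Agent.H384.RC.RotP
end

-- part: H384/RC/Rot
section
/-!
# S3510, triality type iii, BOX R (helper384): rotations of order `l` of four orthogonal anisotropic planes
-/

set_option autoImplicit false
open Cfsg

namespace Cfsg.Agent.H384.RC.RotP

open Module QuadraticMap
open Cfsg.Agent.LieClassical.OrthCore Cfsg.Agent.LieClassical.OrthTrans
open Cfsg.Agent.LieClassical.QuadForms Cfsg.Agent.H198.TriBase Cfsg.Agent.GenOrth Cfsg.Agent.H188.RC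
open Cfsg.Agent.LieClassical.OrthSimple Cfsg.Agent.ClassicalGeometry.OrthSemi
open Cfsg.Agent.ClassicalGeometry.OrthAut1 Cfsg.Agent.ClassicalGeometry.TrialityOct
open Cfsg.Agent.ClassicalGeometry.Triality Cfsg.Agent.H510.Tri3

section gen

variable {F V : Type*} [Field F] [AddCommGroup V] [Module F V] {Q : QuadraticForm F V}

theorem nondeg_comp {P : Submodule F V} (h : Cfsg.Agent.H452.RC.FMP.ND Q P) : Nondeg (Q.comp P.subtype) := by
  intro x hx
  apply Subtype.ext
  apply h x x.2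
  intro w hw
  exact hx ⟨w, hw⟩

theorem ext_mem_O {V' : Type*} [AddCommGroup V'] [Module F V'] {Q' : QuadraticForm F V'} (e : Emb Q Q')
    (hc : e.c = 1) {g : V' ≃ₗ[F] V'} (hg : g ∈ O Q') : e.ext g ∈ O Q := by
  intro v
  rw [e.ext_apply]
  have h1 : Q (v + e.j (g (e.π v) - e.π v)) = Q v + Q (e.j (g (e.π v) - e.π v)) +
      polar Q (e.j (g (e.π v) - e.π v)) v := by
    rw [polar_comm, polar]; ring
  have h2 : Q' (g (e.π v)) = Q' (e.π v) := hg _
  have h3 : Q' (g (e.π v) - e.π v) = Q' (g (e.π v)) + Q' (e.π v) - polar Q' (g (e.π v)) (e.π v) := by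
    have h4 : Q' (g (e.π v) - e.π v) = Q' (g (e.π v)) + Q' (-(e.π v)) + polar Q' (g (e.π v)) (-(e.π v)) := by
      rw [polar, sub_eq_add_neg]; ring
    rw [h4, polar_neg_right, QuadraticMap.map_neg]
    ring
  have h5 : polar Q' (e.π v) (e.π v) = 2 * Q' (e.π v) := by
    rw [polar, ← two_smul F (e.π v), QuadraticMap.map_smul]
    simp only [smul_eq_mul]
    ring
  rw [h1, e.adj, e.hQ, hc, h3, polar_sub_left, h5, h2]
  ring

end gen

/-- **BOX R** -/
theorem exists_rot {F : Type} [Field F] [Finite F] (hG : Good (plusForm 4 F)) {P : Fin 4 → Submodule F (V8 F)}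
    (two : ∀ k, finrank F (P k) = 2)
    (perp : ∀ k l, k ≠ l → ∀ v ∈ P k, ∀ w ∈ P l, polar (plusForm 4 F) v w = 0)
    (aniso : ∀ k, ∀ v ∈ P k, plusForm 4 F v = 0 → v = 0) {l : ℕ} (hl : l.Prime) (hl2 : l ≠ 2)
    (hlq : l ∣ Nat.card F + 1) :
    ∃ (ρ : Fin 4 → ↥(E (plusForm 4 F))) (τ : F), Rot P l τ ρ := by
  classical
  have := Fintype.ofFinite F
  rw [Nat.card_eq_fintype_card] at hlq
  obtain ⟨ζ, hpr, hζ, hζ'⟩ := exists_zeta hl hl2 hlq
  have hodd : Odd l := hl.odd_of_ne_two hl2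
  have hζ2 : fr F (fr F ζ) = ζ := by
    have h3 := congrArg (fr F) hζ
    rw [map_mul, map_one] at h3
    have h0 : fr F ζ ≠ 0 := right_ne_zero_of_mul_eq_one hζ
    apply mul_left_cancel₀ h0
    rw [h3, mul_comm, hζ]
  obtain ⟨τ, hτ⟩ := mem_range (x := ζ + fr F ζ) (by rw [map_add, hζ2, add_comm])
  have hC : ∀ k, ∃ (c : F) (θ : KK F) (j : P k →ₗ[F] KK F), Coord (plusForm 4 F) (P k) c θ j :=
    fun k => exists_coord (two k) (aniso k)
  choose c θ j hj using hC
  have hnd : ∀ k, Cfsg.Agent.H452.RC.FMP.ND (plusForm 4 F) (P k) := fun k =>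
    Cfsg.Agent.H452.RC.FMP.nd_of_aniso (two k) (aniso k)
  have hW : ∀ k, Nondeg ((plusForm 4 F).comp (P k).subtype) := fun k => nondeg_comp (hnd k)
  let R : ∀ k, P k ≃ₗ[F] P k := fun k => (hj k).rot ζ hζ
  have hR : ∀ k (v : P k), j k (R k v) = ζ * j k v := fun k v => (hj k).j_rot ζ hζ v
  have hRpow : ∀ k (n : ℕ) (v : P k), j k ((R k ^ n) v) = ζ ^ n * j k v := by
    intro k n
    induction n with
    | zero => intro v; rw [pow_zero, pow_zero, one_mul]; rfl
    | succ n ih =>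
      intro v
      rw [pow_succ']
      change j k (R k ((R k ^ n) v)) = _
      rw [hR, ih, pow_succ']
      ring
  have hRl : ∀ k, R k ^ l = 1 := by
    intro k
    ext v
    have h1 := hRpow k l v
    rw [hpr.pow_eq_one, one_mul] at h1
    rw [(hj k).inj h1]
    rfl
  have hRO : ∀ k, R k ∈ O ((plusForm 4 F).comp (P k).subtype) := by
    intro k v
    change plusForm 4 F (R k v : V8 F) = plusForm 4 F (v : V8 F)
    apply (algebraMap F (KK F)).injective
    rw [(hj k).nrm, (hj k).nrm, hR, map_mul]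
    linear_combination (algebraMap F (KK F) (c k) * (j k v * fr F (j k v))) * hζ
  let e : ∀ k, Emb (plusForm 4 F) ((plusForm 4 F).comp (P k).subtype) := fun k => embW (hW k)
  let r : Fin 4 → (V8 F ≃ₗ[F] V8 F) := fun k => (e k).ext (R k)
  have hrl : ∀ k, r k ^ l = 1 := by
    intro k
    change (e k).ext (R k) ^ l = 1
    rw [← map_pow, hRl, map_one]
  have hrO : ∀ k, r k ∈ O (plusForm 4 F) := fun k => ext_mem_O (e k) rfl (hRO k)
  have hrE : ∀ k, r k ∈ E (plusForm 4 F) := fun k =>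
    Cfsg.Agent.H587.KB8.mem_E_of_odd hG (hrO k) hodd (hrl k)
  have hrP : ∀ k (v : P k), r k (v : V8 F) = (R k v : V8 F) := fun k v => (e k).ext_j (R k) v
  have hrpowP : ∀ k (n : ℕ) (v : P k), (r k ^ n) (v : V8 F) = ((R k ^ n) v : V8 F) := by
    intro k n v
    change ((e k).ext (R k) ^ n) (v : V8 F) = _
    rw [← map_pow]
    exact (e k).ext_j (R k ^ n) v
  -- restriction of an isometry preserving `P k`
  have hiso : ∀ (d : V8 F ≃ₗ[F] V8 F), d ∈ O (plusForm 4 F) → ∀ k, (∀ v ∈ P k, d v ∈ P k) →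
      ∃ γ : KK F, γ * fr F γ = 1 ∧
        ((∀ v (hv : v ∈ P k) (hdv : d v ∈ P k), j k ⟨d v, hdv⟩ = γ * j k ⟨v, hv⟩) ∨
          ∀ v (hv : v ∈ P k) (hdv : d v ∈ P k), j k ⟨d v, hdv⟩ = γ * fr F (j k ⟨v, hv⟩)) := by
    intro d hd k hdk
    let g : P k →ₗ[F] P k := d.toLinearMap.restrict hdk
    obtain ⟨γ, h1, h2⟩ := (hj k).iso g (fun v => hd v)
    refine ⟨γ, h1, ?_⟩
    rcases h2 with h2 | h2
    · left
      intro v hv hdv
      exact h2 ⟨v, hv⟩
    · right
      intro v hv hdv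
      exact h2 ⟨v, hv⟩
  -- the reflections have order two
  have hrefl : ∀ (d : V8 F ≃ₗ[F] V8 F) k (hdk : ∀ v ∈ P k, d v ∈ P k) (γ : KK F), γ * fr F γ = 1 →
      (∀ v (hv : v ∈ P k) (hdv : d v ∈ P k), j k ⟨d v, hdv⟩ = γ * fr F (j k ⟨v, hv⟩)) →
      ∀ v ∈ P k, d (d v) = v := by
    intro d k hdk γ hγ h v hv
    have h1 := h (d v) (hdk v hv) (hdk _ (hdk v hv))
    rw [h v hv (hdk v hv), map_mul, (hj k).fix, ← mul_assoc, hγ, one_mul] at h1
    exact congrArg Subtype.val ((hj k).inj h1)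
  have hsq : ∀ (d : V8 F ≃ₗ[F] V8 F) k, (∀ v ∈ P k, d v ∈ P k) → (∀ v ∈ P k, d (d v) = v) →
      ∀ n : ℕ, Odd n → d ^ n = 1 → ∀ v ∈ P k, d v = v := by
    intro d k hdk h n hn hdn v hv
    have h1 : ∀ m : ℕ, ∀ v ∈ P k, (d ^ (2 * m)) v = v := by
      intro m
      induction m with
      | zero => intro v _; rw [mul_zero, pow_zero]; rfl
      | succ m ih =>
        intro v hv
        rw [show 2 * (m + 1) = 2 * m + 1 + 1 by ring, pow_succ, pow_succ]
        change (d ^ (2 * m)) (d (d v)) = v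
        rw [h v hv, ih v hv]
    obtain ⟨m, hm⟩ := hn
    have h2 : (d ^ n) v = v := by rw [hdn]; rfl
    rw [hm, pow_succ'] at h2
    change d ((d ^ (2 * m)) v) = v at h2
    rwa [h1 m v hv] at h2
  refine ⟨fun k => ⟨r k, hrE k⟩, τ, ?_, ?_, ?_, ?_, ?_, ?_, ?_⟩
  · intro k
    exact Subtype.ext (by rw [Subgroup.coe_pow]; exact hrl k)
  · intro k i hik v hv
    change (e k).ext (R k) v = v
    apply (e k).ext_of_π_eq_zero
    apply hW k
    intro x
    have h1 := (e k).adj x v
    have h2 : polar (plusForm 4 F) ((e k).j x) v = 0 := perp k i (Ne.symm hik) x x.2 v hv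
    rw [h2] at h1
    have h3 : (e k).c = 1 := rfl
    rw [h3, one_mul] at h1
    rw [polar_comm]
    exact h1.symm
  · intro k v hv
    change r k v ∈ P k
    rw [hrP k ⟨v, hv⟩]
    exact (R k ⟨v, hv⟩).2
  · intro k v hv a ha
    have ha' : r k v = a • v := ha
    rw [hrP k ⟨v, hv⟩] at ha'
    have h1 : R k ⟨v, hv⟩ = a • (⟨v, hv⟩ : P k) := Subtype.ext ha'
    have h2 := congrArg (j k) h1
    rw [hR, map_smul, Algebra.smul_def] at h2
    by_contra hv0
    have hj0 : j k ⟨v, hv⟩ ≠ 0 := by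
      intro h
      rw [← map_zero (j k)] at h
      exact hv0 (congrArg Subtype.val ((hj k).inj h))
    have h3 : ζ = algebraMap F (KK F) a := mul_right_cancel₀ hj0 h2
    apply hζ'
    rw [h3, fr_algebraMap]
  · intro k v hv
    change r k (r k v) + v = τ • r k v
    have h1 : r k v = (R k ⟨v, hv⟩ : V8 F) := hrP k ⟨v, hv⟩
    rw [h1, hrP k]
    have h2 : R k (R k ⟨v, hv⟩) + ⟨v, hv⟩ = τ • R k ⟨v, hv⟩ := by
      apply (hj k).inj
      rw [map_add, map_smul, hR, hR, Algebra.smul_def, hτ]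
      linear_combination (-(j k ⟨v, hv⟩)) * hζ
    exact congrArg Subtype.val h2
  · intro d hd hdl hdP k
    obtain ⟨γ, h1, h2⟩ := hiso d hd k (hdP k)
    rcases h2 with h2 | h2
    · have h3 : ∀ (n : ℕ) v (hv : v ∈ P k) (hdv : (d ^ n) v ∈ P k), j k ⟨(d ^ n) v, hdv⟩ = γ ^ n * j k ⟨v, hv⟩ := by
        intro n
        induction n with
        | zero =>
          intro v hv hdv
          have h5 : (⟨(d ^ 0) v, hdv⟩ : P k) = ⟨v, hv⟩ := Subtype.ext rfl
          rw [h5, pow_zero, one_mul]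
        | succ n ih =>
          intro v hv hdv
          have h4 : (d ^ n) v ∈ P k := by
            clear ih hdv
            induction n with
            | zero => exact hv
            | succ n ih => rw [pow_succ']; exact hdP k _ ih
          have e0 : (d ^ (n + 1)) v = d ((d ^ n) v) := by rw [pow_succ']; rfl
          have h5 : (⟨(d ^ (n + 1)) v, hdv⟩ : P k) = ⟨d ((d ^ n) v), hdP k _ h4⟩ := Subtype.ext e0
          rw [h5, h2 _ h4, ih v hv h4, pow_succ']
          ring
      obtain ⟨v1, hv1⟩ := (hj k).img 1 (by rw [map_one, map_one])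
      have h6 : γ ^ l = 1 := by
        have h7 := h3 l v1 v1.2 (by rw [hdl]; exact v1.2)
        have h8 : j k ⟨(d ^ l) v1, by rw [hdl]; exact v1.2⟩ = j k v1 := by
          congr 1
          apply Subtype.ext
          change (d ^ l) v1 = v1
          rw [hdl]
          rfl
        rw [h8] at h7
        change j k v1 = γ ^ l * j k v1 at h7
        rw [hv1, mul_one] at h7
        exact h7.symm
      have hnz : NeZero l := ⟨hl.ne_zero⟩
      obtain ⟨i, -, hi⟩ := hpr.eq_pow_of_pow_eq_one h6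
      refine ⟨i, fun v hv => ?_⟩
      rw [Subgroup.coe_pow]
      change d v = (r k ^ i) v
      have h9 : (r k ^ i) v = ((R k ^ i) ⟨v, hv⟩ : V8 F) := hrpowP k i ⟨v, hv⟩
      rw [h9]
      have h10 : (⟨d v, hdP k v hv⟩ : P k) = (R k ^ i) ⟨v, hv⟩ := by
        apply (hj k).inj
        rw [h2 v hv, hRpow, hi]
      exact congrArg Subtype.val h10
    · refine ⟨0, fun v hv => ?_⟩
      rw [pow_zero]
      exact hsq d k (hdP k) (hrefl d k (hdP k) γ h1 h2) l hodd hdl v hv
  · intro k t n hn d hd hdn hdP htr v hv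
    change d (r k v) = r k (d v)
    obtain ⟨γ, h1, h2⟩ := hiso d hd k hdP
    have hdv := hdP v hv
    have e1 : r k v = (R k ⟨v, hv⟩ : V8 F) := hrP k ⟨v, hv⟩
    have e2 : r k (d v) = (R k ⟨d v, hdv⟩ : V8 F) := hrP k ⟨d v, hdv⟩
    rcases h2 with h2 | h2
    · have h3 : (⟨d (R k ⟨v, hv⟩), hdP _ (R k ⟨v, hv⟩).2⟩ : P k) = R k ⟨d v, hdv⟩ := by
        apply (hj k).inj
        rw [h2 _ (R k ⟨v, hv⟩).2, hR, hR, h2 v hv hdv]
        ring
      rw [e1, e2]
      exact congrArg Subtype.val h3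
    · have h3 := hrefl d k hdP γ h1 h2
      have h4 : ∃ a : F, ∀ u ∈ P k, d u = a • u := by
        by_cases h20 : (2 : F) = 0
        · refine ⟨1, fun u hu => ?_⟩
          rw [one_smul]
          refine hsq d k hdP h3 n ?_ hdn u hu
          rw [← Nat.not_even_iff_odd]
          rintro ⟨m, hm⟩
          apply hn
          rw [hm, Nat.cast_add, ← two_mul, h20, zero_mul]
        · refine ⟨t⁻¹ * 2, fun u hu => ?_⟩
          have h5 := htr u hu
          rw [h3 u hu, ← two_smul F u] at h5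
          have ht : t ≠ 0 ∨ u = 0 := by
            by_contra hno
            push Not at hno
            rw [hno.1, zero_smul] at h5
            exact hno.2 ((smul_eq_zero.1 h5).resolve_left h20)
          rcases ht with ht | ht
          · rw [mul_smul, h5, smul_smul, inv_mul_cancel₀ ht, one_smul]
          · rw [ht, map_zero, smul_zero]
      obtain ⟨a, ha⟩ := h4
      rw [ha v hv, map_smul, ha _ (by rw [e1]; exact (R k ⟨v, hv⟩).2)]

end Cfsg.Agent.H384.RC.RotP
end

-- part: H510/Tri3/Four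
section
/-!
# S3510, triality type iii: four anisotropic planes (helper510, helper384, helper452)
-/

set_option autoImplicit false
open Cfsg

namespace Cfsg.Agent.H510.Tri3

open Module QuadraticMap MulAction
open Cfsg.Agent.LieClassical.OrthCore Cfsg.Agent.LieClassical.OrthTrans
open Cfsg.Agent.LieClassical.OrthSimple Cfsg.Agent.ClassicalGeometry.OrthSemi
open Cfsg.Agent.ClassicalGeometry.OrthAut1 Cfsg.Agent.H106.RC Cfsg.Agent.H93.RC Cfsg.Agent.H566.RC
open Cfsg.Agent.LieClassical.QuadForms Cfsg.Agent.ClassicalGeometry.TrialityOct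
open Cfsg.Agent.ClassicalGeometry.Triality Cfsg.Agent.ClassicalGeometry.TrialitySpaces
open Cfsg.Agent.H198.TriBase Cfsg.Agent.H198.TriAut Cfsg.Agent.H198.TriDia
open Cfsg.Agent.H206.Balance hiding Good
open Cfsg.Agent.H198.TwComp Cfsg.Agent.H198 Cfsg.Agent.H864.RC Cfsg.Agent.H452.RC.FMP

variable {F : Type} [Field F]

theorem rotStmt [Finite F] (hG : Good (plusForm 4 F)) : RotStmt F :=
  fun _ two perp aniso _ hl hl2 hlq => Cfsg.Agent.H384.RC.RotP.exists_rot hG two perp aniso hl hl2 hlq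

variable {G Ω ι : Type} [Group G] [MulAction G Ω] {N : Subgroup G} {hG : Good (plusForm 4 F)}
  {κ : P8 F →* G} {s : F ≃+* F} {x₁ : G} {x : ι → G} {r : ι → ℕ} {g : ι → (V8 F ≃ₗ[F] V8 F)}

/-- four orthogonal anisotropic planes on which the `g i` act as rotations -/
theorem dead_G3_rot [Finite F] [Finite G] [Finite ι] [Nonempty Ω] {p : ℕ} [CharP F p]
    (h : T3 hG N κ s Ω x₁ x r g) (hIH : IH (Nat.card N)) (hrp : ∀ i, r i ≠ p)
    {P : Fin 4 → Submodule F (V8 F)} (hP : G3 g P)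
    (hrot : ∀ k i, ∃ t : F, ∀ v ∈ P k, g i (g i v) + v = t • g i v) : False :=
  dead_G3_mod (rotStmt hG) h hIH hrp hP hrot

end Cfsg.Agent.H510.Tri3
end
end
end
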